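import Mathlib
import Cfsg.Agent.Lib.Helper1.AbTwoA
import Cfsg.Agent.Lib.Helper1.CharMisc
import Cfsg.Agent.Lib.Helper1.CharMore
import Cfsg.Agent.Lib.Helper1.CharInd
import Cfsg.Agent.Lib.Helper1.CharInt
import Cfsg.Agent.Lib.Helper1.CharReg
import Cfsg.Agent.Lib.Helper1.CharDecomp
import Cfsg.Agent.Lib.Helper1.CharClifford
import Cfsg.Agent.Lib.Helper1.CharExtra
import Cfsg.Agent.Lib.Helper1.CharFrob
import Cfsg.Agent.Lib.Helper24.FongRey1

/-!
# Elementary abelian odd normal subgroup complemented by a 2-group: a strongly real character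

`G = N ⋊ P` with `N` elementary abelian of odd order, the unique minimal normal subgroup, and `P` a
non-trivial 2-group.  For a non-trivial linear character `λ` of `N` with stabiliser `T`, the
canonical extension of `λ` to `T` induces to an irreducible character of `G` of even degree
`|G : T|` with Frobenius–Schur indicator `+1`.
-/

set_option autoImplicit false
set_option linter.unusedSectionVars false
set_option linter.unusedVariables false

namespace Cfsg.Agent.Lib.Helper1.AbTwo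

open Cfsg Cfsg.Agent.Lib.Helper1
open scoped ComplexConjugate

universe u

variable {G : Type u} [Group G] [Fintype G]

set_option maxHeartbeats 1600000 in
theorem exists_strongly_real (N P : Subgroup G) [hN : N.Normal] (q : ℕ) [hq : Fact q.Prime]
    (hq2 : q ≠ 2) (hNel : Cfsg.IsElementaryAbelian q N) (hP : IsPGroup 2 P) (hP1 : P ≠ ⊥)
    (hdisj : N ⊓ P = ⊥) (hprod : N ⊔ P = ⊤) (hN1 : N ≠ ⊥)
    (hmin : ∀ M : Subgroup G, M.Normal → M ≠ ⊥ → N ≤ M) :
    ∃ (T : Subgroup G) (χ₁ : G → ℂ), 2 ∣ T.index ∧ IsIrrCharacter G χ₁ ∧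
      χ₁ 1 = (T.index : ℂ) ∧ ∑ g : G, χ₁ (g * g) = (Nat.card G : ℂ) ∧
      ∀ γ : G →* ℂˣ, (∀ g, ((γ g : ℂˣ) : ℂ) * ((γ g : ℂˣ) : ℂ) = 1) →
        (∀ g, ((γ g : ℂˣ) : ℂ) * χ₁ g = χ₁ g) → ∀ x ∈ T, γ x = 1 := by
  classical
  haveI : Fintype N := Fintype.ofFinite N
  haveI : Fintype P := Fintype.ofFinite P
  have hNab : ∀ a ∈ N, ∀ b ∈ N, a * b = b * a := by
    intro a ha b hb
    have h1 := hNel.1.is_comm.comm (⟨a, ha⟩ : N) ⟨b, hb⟩
    exact congrArg Subtype.val h1
  have hNpow : ∀ a ∈ N, a ^ q = 1 := hNel.2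
  obtain ⟨z, hzP, hzz, hzc, hzinvN⟩ := exists_inverting N P hNab hP hP1 hdisj hprod hN1 hmin
  obtain ⟨lam, n₀, hn₀⟩ := exists_nontrivial_hom N hNab hN1
  have hzinv : z⁻¹ = z := inv_eq_of_mul_eq_one_left hzz
  obtain ⟨j, hj⟩ := hq.out.odd_of_ne_two hq2
  -- squares of values of characters of odd order
  have hodd : ∀ (γ : G →* ℂˣ) (n : G), n ∈ N → γ n * γ n = 1 → γ n = 1 := by
    intro γ n hn h
    have h1 : γ n ^ q = 1 := by
      rw [← map_pow, hNpow n hn, map_one]
    rw [hj, pow_succ, pow_mul, pow_two, h, one_pow, one_mul] at h1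
    exact h1
  have hlamodd : ∀ n : N, lam n * lam n = 1 → lam n = 1 := by
    intro n h
    have h0 : n ^ q = 1 := Subtype.ext (by simpa using hNpow n n.2)
    have h1 : lam n ^ q = 1 := by
      rw [← map_pow, h0, map_one]
    rw [hj, pow_succ, pow_mul, pow_two, h, one_pow, one_mul] at h1
    exact h1
  obtain ⟨φ, hφdef⟩ : ∃ φ : N → ℂ, φ = fun n : N => ((lam n : ℂˣ) : ℂ) := ⟨_, rfl⟩
  have hφ : IsIrrCharacter N φ := by
    rw [hφdef]
    exact isIrrCharacter_of_monoidHom lam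
  obtain ⟨T, hTdef⟩ : ∃ T : Subgroup G, T = charStab N φ := ⟨_, rfl⟩
  have hT_iff : ∀ g : G, g ∈ T ↔ ∀ n : N, lam (conjNormal N g n) = lam n := by
    intro g
    rw [hTdef]
    constructor
    · intro h n
      have h1 : conjChar N φ g = φ := h
      have h2 := congrFun h1 n
      rw [hφdef] at h2
      apply Units.ext
      exact h2
    · intro h
      show conjChar N φ g = φ
      funext n
      rw [hφdef]
      show ((lam (conjNormal N g n) : ℂˣ) : ℂ) = ((lam n : ℂˣ) : ℂ)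
      rw [h n]
  have hcj : ∀ (g : G) (n : N), ((conjNormal N g n : N) : G) = g * n * g⁻¹ := fun g n => rfl
  have hNT : N ≤ T := by
    intro g hg
    rw [hT_iff]
    intro n
    congr 1
    apply Subtype.ext
    rw [hcj, hNab g hg n n.2, mul_inv_cancel_right]
  -- decomposition
  have hdec : ∀ g : G, ∃ n : N, ∃ p : P, g = (n : G) * (p : G) := by
    intro g
    obtain ⟨n, hn, p, hp, rfl⟩ := exists_mul_of_sup_eq_top N P hprod g
    exact ⟨⟨n, hn⟩, ⟨p, hp⟩, rfl⟩
  have huniq : ∀ (n n' : N) (p p' : P), (n : G) * (p : G) = (n' : G) * (p' : G) →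
      n = n' ∧ p = p' := by
    intro n n' p p' h
    have h1 : (n' : G)⁻¹ * (n : G) = (p' : G) * (p : G)⁻¹ := by
      rw [inv_mul_eq_iff_eq_mul, ← mul_assoc, ← h]
      group
    have h2 : (n' : G)⁻¹ * (n : G) ∈ N ⊓ P := by
      refine Subgroup.mem_inf.mpr ⟨N.mul_mem (N.inv_mem n'.2) n.2, ?_⟩
      rw [h1]
      exact P.mul_mem p'.2 (P.inv_mem p.2)
    rw [hdisj, Subgroup.mem_bot] at h2
    have h3 : (n : G) = (n' : G) := by
      have := inv_mul_eq_one.mp h2
      exact this.symm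
    refine ⟨Subtype.ext h3, Subtype.ext ?_⟩
    rw [h3] at h
    exact mul_left_cancel h
  choose σ τ hστ using hdec
  have hσ : ∀ (n : N) (p : P), σ ((n : G) * (p : G)) = n := by
    intro n p
    exact (huniq _ _ _ _ (hστ ((n : G) * (p : G))).symm).1
  have hτT : ∀ g : G, g ∈ T → ((τ g : P) : G) ∈ T := by
    intro g hg
    have h1 : ((τ g : P) : G) = ((σ g : N) : G)⁻¹ * g := by
      have := hστ g
      rw [eq_inv_mul_iff_mul_eq]
      exact this.symm
    rw [h1]
    exact T.mul_mem (T.inv_mem (hNT (σ g).2)) hg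
  have hσmul : ∀ a b : G, a ∈ T → lam (σ (a * b)) = lam (σ a) * lam (σ b) := by
    intro a b ha
    have h1 : a * b = ((σ a * conjNormal N ((τ a : P) : G) (σ b) : N) : G)
        * ((τ a * τ b : P) : G) := by
      have e1 := hστ a
      have e2 := hστ b
      rw [Subgroup.coe_mul, Subgroup.coe_mul, hcj]
      calc a * b = ((σ a : N) : G) * ((τ a : P) : G) * (((σ b : N) : G) * ((τ b : P) : G)) := by
            rw [← e1, ← e2]
        _ = _ := by group
    have h2 : σ (a * b) = σ a * conjNormal N ((τ a : P) : G) (σ b) := by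
      rw [h1]
      exact hσ _ _
    rw [h2, map_mul, (hT_iff _).mp (hτT a ha)]
  obtain ⟨θ₀, hθ₀def⟩ : ∃ θ₀ : T →* ℂˣ, ∀ t : T, θ₀ t = lam (σ (t : G)) :=
    ⟨MonoidHom.mk' (fun t : T => lam (σ (t : G))) (fun a b => hσmul a b a.2), fun t => rfl⟩
  have hθ₀ : ∀ (n : N) (p : P) (h : (n : G) * (p : G) ∈ T), θ₀ ⟨(n : G) * (p : G), h⟩ = lam n := by
    intro n p h
    rw [hθ₀def]
    show lam (σ ((n : G) * (p : G))) = lam n
    rw [hσ]
  obtain ⟨ψ, hψdef⟩ : ∃ ψ : T → ℂ, ψ = fun t : T => ((θ₀ t : ℂˣ) : ℂ) := ⟨_, rfl⟩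
  have hψ : IsIrrCharacter T ψ := by
    rw [hψdef]
    exact isIrrCharacter_of_monoidHom θ₀
  have hres : ∀ n : N, ψ ⟨n, hNT n.2⟩ = φ n := by
    intro n
    have h0 : (n : G) * ((1 : P) : G) ∈ T := by
      rw [Subgroup.coe_one, mul_one]
      exact hNT n.2
    have h1 : (⟨(n : G), hNT n.2⟩ : T) = ⟨(n : G) * ((1 : P) : G), h0⟩ :=
      Subtype.ext (by simp)
    rw [h1, hψdef, hφdef]
    show ((θ₀ ⟨(n : G) * ((1 : P) : G), h0⟩ : ℂˣ) : ℂ) = ((lam n : ℂˣ) : ℂ)
    rw [hθ₀ n 1 h0]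
  have hover : classInner (fun n : N => ψ ⟨n, hNT n.2⟩) φ ≠ 0 := by
    have h1 : (fun n : N => ψ ⟨n, hNT n.2⟩) = φ := funext hres
    rw [h1, classInner_irr_self hφ]
    exact one_ne_zero
  have hstab : charStab N φ ≤ T := by
    rw [hTdef]
  obtain ⟨hχirr, -, huniq'⟩ := Cfsg.Agent.Lib.Helper24.FongRey.ind_irr N T hNT hφ hstab hψ hover
  obtain ⟨χ₁, hχ₁def⟩ : ∃ χ₁ : G → ℂ, χ₁ = indFun T ψ := ⟨_, rfl⟩
  rw [← hχ₁def] at hχirr huniq'
  -- z ∉ T
  have hzT : z ∉ T := by
    intro h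
    rw [hT_iff] at h
    have h1 := h n₀
    have h2 : conjNormal N z n₀ = n₀⁻¹ := Subtype.ext (by
      rw [hcj, hzinvN n₀ n₀.2]
      rfl)
    rw [h2, map_inv] at h1
    apply hn₀
    apply hlamodd
    nth_rewrite 1 [← h1]
    exact inv_mul_cancel _
  have hcompl : Subgroup.IsComplement' N P := by
    apply Subgroup.isComplement'_of_disjoint_and_mul_eq_univ
    · rw [disjoint_iff]
      exact hdisj
    · rw [← Subgroup.normal_mul, hprod]
      rfl
  have hidx2 : 2 ∣ T.index := by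
    have h1 : T.index ∣ N.index := Subgroup.index_dvd_of_le hNT
    have h2 : N.index = Nat.card P := hcompl.symm.index_eq_card
    obtain ⟨a, ha⟩ := IsPGroup.iff_card.mp hP
    rw [h2, ha] at h1
    obtain ⟨b, hb, hb'⟩ := (Nat.dvd_prime_pow Nat.prime_two).mp h1
    have hb0 : b ≠ 0 := by
      intro h
      rw [h, pow_zero] at hb'
      have h3 : T = ⊤ := Subgroup.index_eq_one.mp hb'
      apply hzT
      rw [h3]
      trivial
    rw [hb']
    exact dvd_pow_self 2 hb0
  have hdeg : χ₁ 1 = (T.index : ℂ) := by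
    rw [hχ₁def, indFun_one, hψdef]
    show (T.index : ℂ) * ((θ₀ 1 : ℂˣ) : ℂ) = _
    rw [map_one, Units.val_one, mul_one]
  have hT0 : (Nat.card T : ℂ) ≠ 0 := by exact_mod_cast Nat.card_pos.ne'
  -- the Frobenius–Schur sum
  have hsum1 : ∑ g : G, χ₁ (g * g)
      = (Nat.card T : ℂ)⁻¹ * ((Nat.card G : ℂ) * ∑ g : G, extendByZero T ψ (g * g)) := by
    rw [hχ₁def]
    simp only [indFun_apply]
    rw [← Finset.mul_sum, Finset.sum_comm]
    congr 1
    have h2 : ∀ x : G, ∑ g : G, extendByZero T ψ (x⁻¹ * (g * g) * x)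
        = ∑ g : G, extendByZero T ψ (g * g) := by
      intro x
      rw [← Equiv.sum_comp (MulAut.conj x).toEquiv (fun g => extendByZero T ψ (x⁻¹ * (g * g) * x))]
      refine Finset.sum_congr rfl (fun g _ => ?_)
      simp only [MulEquiv.toEquiv_eq_coe, EquivLike.coe_coe, MulAut.conj_apply]
      congr 1
      group
    rw [Finset.sum_congr rfl (fun x _ => h2 x), Finset.sum_const, Finset.card_univ,
      nsmul_eq_mul, Nat.card_eq_fintype_card]
  obtain ⟨e, he⟩ : ∃ e : N × P ≃ G, ∀ x : N × P, e x = (x.1 : G) * (x.2 : G) :=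
    ⟨Equiv.ofBijective _ hcompl, fun x => rfl⟩
  have hsplit : ∀ F : G → ℂ, ∑ g : G, F g = ∑ p : P, ∑ n : N, F ((n : G) * (p : G)) := by
    intro F
    rw [← Equiv.sum_comp e F, Fintype.sum_prod_type_right]
    refine Finset.sum_congr rfl (fun p _ => Finset.sum_congr rfl (fun n _ => ?_))
    rw [he]
  have hsqform : ∀ (n : N) (p : P), (n : G) * (p : G) * ((n : G) * (p : G))
      = ((n * conjNormal N (p : G) n : N) : G) * ((p * p : P) : G) := by
    intro n p
    rw [Subgroup.coe_mul, Subgroup.coe_mul, hcj]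
    group
  have hsqmem : ∀ (n : N) (p : P), (n : G) * (p : G) * ((n : G) * (p : G)) ∈ T ↔
      (p : G) * (p : G) ∈ T := by
    intro n p
    rw [hsqform]
    have hpp : ((p * p : P) : G) = (p : G) * (p : G) := rfl
    rw [hpp]
    constructor
    · intro h
      have h1 := T.mul_mem (T.inv_mem (hNT (n * conjNormal N (p : G) n).2)) h
      rw [inv_mul_cancel_left] at h1
      exact h1
    · intro h
      exact T.mul_mem (hNT (n * conjNormal N (p : G) n).2) h
  have hval : ∀ (n : N) (p : P), (p : G) * (p : G) ∈ T →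
      extendByZero T ψ ((n : G) * (p : G) * ((n : G) * (p : G)))
        = ((lam n : ℂˣ) : ℂ) * ((lam (conjNormal N (p : G) n) : ℂˣ) : ℂ) := by
    intro n p hpp
    have hm := (hsqmem n p).mpr hpp
    rw [extendByZero_of_mem T ψ hm, hψdef]
    show ((θ₀ ⟨(n : G) * (p : G) * ((n : G) * (p : G)), hm⟩ : ℂˣ) : ℂ) = _
    have hm' : ((n * conjNormal N (p : G) n : N) : G) * ((p * p : P) : G) ∈ T := by
      rw [← hsqform]
      exact hm
    have h1 : (⟨(n : G) * (p : G) * ((n : G) * (p : G)), hm⟩ : T)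
        = ⟨((n * conjNormal N (p : G) n : N) : G) * ((p * p : P) : G), hm'⟩ :=
      Subtype.ext (hsqform n p)
    rw [h1, hθ₀ _ _ hm', map_mul, Units.val_mul]
  have hpz : ∀ (p : P) (m : N), conjNormal N ((p : G) * z) m = conjNormal N (p : G) m⁻¹ := by
    intro p m
    apply Subtype.ext
    rw [hcj, hcj]
    have h1 : (p : G) * z * (m : G) * ((p : G) * z)⁻¹ = (p : G) * (z * (m : G) * z⁻¹) * (p : G)⁻¹ := by
      group
    rw [h1, hzinvN m m.2]
    rfl
  have hpsum : ∀ p : P, ∑ n : N, extendByZero T ψ ((n : G) * (p : G) * ((n : G) * (p : G)))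
      = if (p : G) * z ∈ T then (Nat.card N : ℂ) else 0 := by
    intro p
    by_cases hpzT : (p : G) * z ∈ T
    · rw [if_pos hpzT]
      have hpp : (p : G) * (p : G) ∈ T := by
        have h1 := T.mul_mem hpzT hpzT
        have h2 : (p : G) * z * ((p : G) * z) = (p : G) * (p : G) := by
          calc (p : G) * z * ((p : G) * z) = (p : G) * (z * (p : G)) * z := by group
            _ = (p : G) * ((p : G) * z) * z := by rw [hzc p p.2]
            _ = (p : G) * (p : G) * (z * z) := by group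
            _ = (p : G) * (p : G) := by rw [hzz, mul_one]
        rw [h2] at h1
        exact h1
      have h3 : ∀ n : N, extendByZero T ψ ((n : G) * (p : G) * ((n : G) * (p : G))) = 1 := by
        intro n
        rw [hval n p hpp]
        have h4 := (hT_iff _).mp hpzT n⁻¹
        rw [hpz, inv_inv, map_inv] at h4
        rw [h4, Units.val_inv_eq_inv_val]
        exact mul_inv_cancel₀ (Units.ne_zero _)
      rw [Finset.sum_congr rfl (fun n _ => h3 n), Finset.sum_const, Finset.card_univ,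
        nsmul_eq_mul, mul_one, Nat.card_eq_fintype_card]
    · rw [if_neg hpzT]
      by_cases hpp : (p : G) * (p : G) ∈ T
      · rw [Finset.sum_congr rfl (fun n _ => hval n p hpp)]
        obtain ⟨μ, hμ⟩ : ∃ μ : N →* ℂˣ, ∀ n : N, μ n = lam n * lam (conjNormal N (p : G) n) :=
          ⟨lam * (lam.comp (conjNormal N (p : G)).toMonoidHom), fun n => rfl⟩
        have h1 : ∀ n : N, ((lam n : ℂˣ) : ℂ) * ((lam (conjNormal N (p : G) n) : ℂˣ) : ℂ)
            = ((μ n : ℂˣ) : ℂ) := by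
          intro n
          rw [hμ, Units.val_mul]
        rw [Finset.sum_congr rfl (fun n _ => h1 n)]
        have h2 : ¬ ∀ m : N, lam (conjNormal N ((p : G) * z) m) = lam m := by
          intro h
          exact hpzT ((hT_iff _).mpr h)
        push_neg at h2
        obtain ⟨m, hm⟩ := h2
        apply sum_hom_eq_zero μ (h₀ := m⁻¹)
        intro h3
        apply hm
        rw [hpz]
        rw [hμ, map_inv] at h3
        have h4 := eq_inv_of_mul_eq_one_right h3
        rw [inv_inv] at h4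
        exact h4
      · apply Finset.sum_eq_zero
        intro n _
        apply extendByZero_of_not_mem
        intro h
        exact hpp ((hsqmem n p).mp h)
  have hsum2 : ∑ g : G, extendByZero T ψ (g * g) = (Nat.card T : ℂ) := by
    rw [hsplit (fun g => extendByZero T ψ (g * g))]
    rw [Finset.sum_congr rfl (fun p _ => hpsum p)]
    have h1 : ∑ p : P, (if (p : G) * z ∈ T then (Nat.card N : ℂ) else 0)
        = ∑ p : P, (if (p : G) ∈ T then (Nat.card N : ℂ) else 0) := by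
      rw [← Equiv.sum_comp (Equiv.mulRight (⟨z, hzP⟩ : P))
        (fun p : P => if (p : G) ∈ T then (Nat.card N : ℂ) else 0)]
      rfl
    rw [h1]
    have h2 : ∀ p : P, (if (p : G) ∈ T then (Nat.card N : ℂ) else 0)
        = ∑ n : N, (if (n : G) * (p : G) ∈ T then (1 : ℂ) else 0) := by
      intro p
      have h3 : ∀ n : N, ((n : G) * (p : G) ∈ T ↔ (p : G) ∈ T) := by
        intro n
        constructor
        · intro h
          have h4 := T.mul_mem (T.inv_mem (hNT n.2)) h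
          rw [inv_mul_cancel_left] at h4
          exact h4
        · intro h
          exact T.mul_mem (hNT n.2) h
      by_cases hp : (p : G) ∈ T
      · rw [if_pos hp]
        rw [Finset.sum_congr rfl (fun n _ => if_pos ((h3 n).mpr hp)), Finset.sum_const,
          Finset.card_univ, nsmul_eq_mul, mul_one, Nat.card_eq_fintype_card]
      · rw [if_neg hp]
        rw [Finset.sum_congr rfl (fun n _ => if_neg (fun h => hp ((h3 n).mp h))),
          Finset.sum_const_zero]
    rw [Finset.sum_congr rfl (fun p _ => h2 p), ← hsplit (fun g => if g ∈ T then (1 : ℂ) else 0),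
      ← sum_subgroup_eq T (fun _ => (1 : ℂ)), Finset.sum_const, Finset.card_univ, nsmul_eq_mul,
      mul_one, Nat.card_eq_fintype_card]
  have hFS : ∑ g : G, χ₁ (g * g) = (Nat.card G : ℂ) := by
    rw [hsum1, hsum2]
    field_simp
  refine ⟨T, χ₁, hidx2, hχirr, hdeg, hFS, ?_⟩
  -- the fibre property
  intro γ hγsq hγfix x hx
  have hγreal : ∀ g : G, conj ((γ g : ℂˣ) : ℂ) = ((γ g : ℂˣ) : ℂ) := by
    intro g
    have h1 := monoidHom_conj_mul_self γ g
    have h2 := hγsq g
    have h3 : ((γ g : ℂˣ) : ℂ) ≠ 0 := Units.ne_zero _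
    exact mul_right_cancel₀ h3 (h1.trans h2.symm)
  obtain ⟨γT, hγT⟩ : ∃ γT : T →* ℂˣ, ∀ t : T, γT t = γ (t : G) :=
    ⟨γ.comp T.subtype, fun t => rfl⟩
  obtain ⟨ψ', hψ'def⟩ : ∃ ψ' : T → ℂ, ψ' = fun t : T => ((γT t : ℂˣ) : ℂ) * ψ t := ⟨_, rfl⟩
  have hψ'irr : IsIrrCharacter T ψ' := by
    have h1 : ψ' = fun t : T => (((γT * θ₀) t : ℂˣ) : ℂ) := by
      rw [hψ'def, hψdef]
      funext t
      rw [MonoidHom.mul_apply, Units.val_mul]
    rw [h1]
    exact isIrrCharacter_of_monoidHom (γT * θ₀)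
  have hχ₁cf : IsClassFunction G χ₁ := IsIrrCharacter.isClassFunction hχirr
  have hinner1 : classInner (fun t : T => χ₁ t) ψ = 1 := by
    rw [← classInner_conj_symm, ← frobenius_reciprocity T _ hχ₁cf, ← hχ₁def,
      classInner_irr_self hχirr]
    simp
  have hψ'eq : ψ' = ψ := by
    by_contra hne
    have h1 : classInner (fun t : T => χ₁ t) ψ' ≠ 0 := by
      have h2 : classInner (fun t : T => χ₁ t) ψ' = classInner (fun t : T => χ₁ t) ψ := by
        rw [hψ'def]
        unfold classInner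
        congr 1
        refine Finset.sum_congr rfl (fun t _ => ?_)
        rw [map_mul, hγT t, hγreal, ← mul_assoc, mul_comm (χ₁ (t : G)), hγfix]
      rw [h2, hinner1]
      exact one_ne_zero
    have h3 := huniq' ψ' hψ'irr hne h1
    have h4 : (fun n : N => ψ' ⟨n, hNT n.2⟩) = φ := by
      funext n
      rw [hψ'def]
      show ((γT ⟨n, hNT n.2⟩ : ℂˣ) : ℂ) * ψ ⟨n, hNT n.2⟩ = φ n
      rw [hγT, hres n]
      have h5 : γ (n : G) = 1 := by
        apply hodd γ n n.2
        apply Units.ext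
        rw [Units.val_mul, Units.val_one]
        exact hγsq n
      rw [h5, Units.val_one, one_mul]
    rw [h4, classInner_irr_self hφ] at h3
    exact one_ne_zero h3
  have h1 := congrFun hψ'eq ⟨x, hx⟩
  rw [hψ'def, hψdef] at h1
  have h2 : ((γT ⟨x, hx⟩ : ℂˣ) : ℂ) * ((θ₀ ⟨x, hx⟩ : ℂˣ) : ℂ) = ((θ₀ ⟨x, hx⟩ : ℂˣ) : ℂ) := h1
  have h3 : ((γT ⟨x, hx⟩ : ℂˣ) : ℂ) = 1 := by
    have h4 : ((θ₀ ⟨x, hx⟩ : ℂˣ) : ℂ) ≠ 0 := Units.ne_zero _
    have h5 : ((γT ⟨x, hx⟩ : ℂˣ) : ℂ) * ((θ₀ ⟨x, hx⟩ : ℂˣ) : ℂ)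
        = 1 * ((θ₀ ⟨x, hx⟩ : ℂˣ) : ℂ) := by rw [h2, one_mul]
    exact mul_right_cancel₀ h4 h5
  rw [hγT] at h3
  apply Units.ext
  rw [h3, Units.val_one]

end Cfsg.Agent.Lib.Helper1.AbTwo
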