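import Cfsg.Agent.Lib.Helper1.CharSolvExt
import Cfsg.Agent.Lib.Helper25.Brauer5

set_option autoImplicit false
set_option linter.unusedSectionVars false
set_option linter.unusedVariables false

/-!
# Extension of invariant characters with coprime degree (via Brauer's characterisation)
-/

namespace Cfsg.Agent.Lib.Helper1

open Representation Module
open scoped ComplexConjugate

universe u

theorem norm_of_coset_sums {G : Type u} [Group G] [Fintype G] (N : Subgroup G) [Fintype N]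
    (θ : G → ℂ)
    (hcoset : ∀ g : G, ∑ n : N, θ ((n : G) * g) * conj (θ ((n : G) * g)) = (Nat.card N : ℂ)) :
    Cfsg.classInner θ θ = 1 := by
  have hNne : (Nat.card N : ℂ) ≠ 0 := by
    have := Nat.card_pos (α := N)
    exact_mod_cast this.ne'
  have hGne : (Nat.card G : ℂ) ≠ 0 := by
    have := Nat.card_pos (α := G)
    exact_mod_cast this.ne'
  unfold Cfsg.classInner
  have h1 : ∀ n : N, ∑ g : G, θ ((n : G) * g) * conj (θ ((n : G) * g)) =
      ∑ g : G, θ g * conj (θ g) := by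
    intro n
    have h := Equiv.sum_comp (Equiv.mulLeft (n : G)) (fun g : G => θ g * conj (θ g))
    rw [← h]
    rfl
  have h2 : (Nat.card N : ℂ) * ∑ g : G, θ g * conj (θ g) =
      (Nat.card N : ℂ) * (Nat.card G : ℂ) := by
    calc (Nat.card N : ℂ) * ∑ g : G, θ g * conj (θ g)
        = ∑ n : N, ∑ g : G, θ ((n : G) * g) * conj (θ ((n : G) * g)) := by
          rw [Finset.sum_congr rfl (fun n _ => h1 n), Finset.sum_const, Finset.card_univ,
            nsmul_eq_mul, ← Nat.card_eq_fintype_card]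
      _ = ∑ g : G, ∑ n : N, θ ((n : G) * g) * conj (θ ((n : G) * g)) := Finset.sum_comm
      _ = (Nat.card N : ℂ) * (Nat.card G : ℂ) := by
          rw [Finset.sum_congr rfl (fun g _ => hcoset g), Finset.sum_const, Finset.card_univ,
            nsmul_eq_mul, ← Nat.card_eq_fintype_card, mul_comm]
  have h3 := mul_left_cancel₀ hNne h2
  rw [h3, inv_mul_cancel₀ hGne]

section detext2

variable {G : Type u} [Group G] [Finite G] (N : Subgroup G) [hN : N.Normal]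

/-- `ψ` is an extension of `ϑ` to `H` with determinant `μ`. -/
def IsDetExt (ϑ : N → ℂ) (μ : G →* ℂˣ) (H : Subgroup G) (ψ : H → ℂ) : Prop :=
  Cfsg.IsIrrCharacter H ψ ∧ (∀ (n : N) (h : (n : G) ∈ H), ψ ⟨n, h⟩ = ϑ n) ∧
    ∀ x : H, Cfsg.detChar ψ x = ((μ (x : G) : ℂˣ) : ℂ)

theorem exists_unique_detExt {ϑ : N → ℂ} (hϑ : Cfsg.IsIrrCharacter N ϑ)
    (hinv : ∀ (g : G) (n : N), ϑ ⟨g * n * g⁻¹, hN.conj_mem (n : G) n.2 g⟩ = ϑ n)
    (d : ℕ) (hd : ϑ 1 = d) (hcop : Nat.Coprime N.index d) (μ : G →* ℂˣ)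
    (hμN : ∀ n : N, ((μ n : ℂˣ) : ℂ) = Cfsg.detChar ϑ n)
    (H : Subgroup G) (hNH : N ≤ H) (hsolv : Group.IsSolvable (H ⧸ N.subgroupOf H)) :
    ∃! ψ : H → ℂ, IsDetExt N ϑ μ H ψ := by
  let N' : Subgroup H := N.subgroupOf H
  have hN'n : N'.Normal := inferInstance
  let e : N' ≃* N := Subgroup.subgroupOfEquivOfLe hNH
  let ϑ' : N' → ℂ := ϑ ∘ e
  have hϑ' : Cfsg.IsIrrCharacter N' ϑ' := IsIrrCharacter.comp_mulEquiv hϑ e
  have hinv' : ∀ (m : H) (x : N'), ϑ' ⟨m * x * m⁻¹, hN'n.conj_mem (x : H) x.2 m⟩ = ϑ' x := by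
    intro m x
    exact hinv (m : G) (e x)
  have hd' : ϑ' 1 = d := by
    show ϑ (e 1) = d
    rw [map_one]
    exact hd
  have hcop' : Nat.Coprime N'.index d :=
    Nat.Coprime.coprime_dvd_left (Subgroup.relIndex_dvd_index_of_le hNH) hcop
  let μ' : H →* ℂˣ := μ.comp H.subtype
  have hμ' : ∀ x : N', ((μ' x : ℂˣ) : ℂ) = Cfsg.detChar ϑ' x := by
    intro x
    have h1 := detChar_comp (IsIrrCharacter.isCharacter hϑ) e.toMonoidHom
    have h2 : Cfsg.detChar ϑ' x = Cfsg.detChar ϑ (e x) := congrFun h1 x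
    rw [h2, ← hμN (e x)]
    rfl
  obtain ⟨η₀, hη₀, hη₀N⟩ := ext_solvable N' hsolv hϑ' hinv' d hd' hcop' μ' hμ'
  obtain ⟨η, ⟨hη, hηN, hηdet⟩, huniq⟩ :=
    exists_unique_ext_det N' hϑ' d hd' hcop' hη₀ hη₀N μ' hμ'
  refine ⟨η, ⟨hη, fun n h => ?_, fun x => congrFun hηdet x⟩, ?_⟩
  · exact hηN ⟨⟨n, h⟩, n.2⟩
  · rintro ψ ⟨h1, h2, h3⟩
    exact huniq ψ ⟨h1, fun x => h2 (e x) (x : H).2, funext h3⟩

theorem IsDetExt.comp {ϑ : N → ℂ} (hϑ : Cfsg.IsIrrCharacter N ϑ) {μ : G →* ℂˣ}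
    {H H' : Subgroup G} (hNH : N ≤ H) (f : H →* H')
    (hf : ∀ n : N, ∃ (n' : N) (h' : (n' : G) ∈ H'), f ⟨n, hNH n.2⟩ = ⟨n', h'⟩ ∧ ϑ n' = ϑ n)
    (hμ : ∀ y : H, μ (f y : G) = μ (y : G)) {ψ' : H' → ℂ} (h : IsDetExt N ϑ μ H' ψ') :
    IsDetExt N ϑ μ H (ψ' ∘ f) := by
  obtain ⟨h1, h2, h3⟩ := h
  have hres : ∀ (n : N) (hn : (n : G) ∈ H), (ψ' ∘ f) ⟨n, hn⟩ = ϑ n := by
    intro n hn
    obtain ⟨n', h', hfe, hϑe⟩ := hf n
    show ψ' (f ⟨n, hn⟩) = ϑ n
    rw [hfe, h2 n' h', hϑe]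
  have hchar : Cfsg.IsCharacter H (ψ' ∘ f) :=
    IsCharacter.comp (IsIrrCharacter.isCharacter h1) f
  refine ⟨?_, hres, fun x => ?_⟩
  · apply isIrr_of_comp_irr (Subgroup.inclusion hNH) hchar
    have h4 : ((ψ' ∘ f) ∘ (Subgroup.inclusion hNH)) = ϑ := by
      funext n
      exact hres n (hNH n.2)
    rw [h4]
    exact hϑ
  · have h4 := detChar_comp (IsIrrCharacter.isCharacter h1) f
    rw [h4]
    show Cfsg.detChar ψ' (f x) = _
    rw [h3, hμ]

theorem IsDetExt.restrict {ϑ : N → ℂ} (hϑ : Cfsg.IsIrrCharacter N ϑ) {μ : G →* ℂˣ}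
    {K H : Subgroup G} (hNK : N ≤ K) (hKH : K ≤ H) {ψ : H → ℂ} (h : IsDetExt N ϑ μ H ψ) :
    IsDetExt N ϑ μ K (fun k => ψ ⟨k, hKH k.2⟩) :=
  IsDetExt.comp N hϑ hNK (Subgroup.inclusion hKH) (fun n => ⟨n, hKH (hNK n.2), rfl, rfl⟩)
    (fun y => rfl) h

theorem IsDetExt.conj {ϑ : N → ℂ} (hϑ : Cfsg.IsIrrCharacter N ϑ)
    (hinv : ∀ (g : G) (n : N), ϑ ⟨g * n * g⁻¹, hN.conj_mem (n : G) n.2 g⟩ = ϑ n)
    {μ : G →* ℂˣ} {H H' : Subgroup G} (hNH : N ≤ H) (x : G)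
    (hx : ∀ h ∈ H, x * h * x⁻¹ ∈ H') {ψ' : H' → ℂ} (h : IsDetExt N ϑ μ H' ψ') :
    IsDetExt N ϑ μ H (fun h => ψ' ⟨x * h * x⁻¹, hx h h.2⟩) := by
  let f : H →* H' := MonoidHom.mk' (fun h => ⟨x * h * x⁻¹, hx h h.2⟩) (by
    intro a b
    apply Subtype.ext
    show x * ((a * b : H) : G) * x⁻¹ = (x * a * x⁻¹) * (x * b * x⁻¹)
    rw [Subgroup.coe_mul]
    group)
  exact IsDetExt.comp N hϑ hNH f
    (fun n => ⟨⟨x * n * x⁻¹, hN.conj_mem n n.2 x⟩, hx n (hNH n.2), rfl, hinv x n⟩)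
    (fun y => by
      show μ (x * y * x⁻¹) = μ y
      rw [map_mul, map_mul, map_inv, mul_comm (μ x), mul_assoc, mul_inv_cancel, mul_one]) h

theorem solvable_sup_quot (S : Subgroup G) [hS : Group.IsSolvable S] :
    Group.IsSolvable ((N ⊔ S : Subgroup G) ⧸ N.subgroupOf (N ⊔ S)) := by
  let f : S →* (N ⊔ S : Subgroup G) ⧸ N.subgroupOf (N ⊔ S) :=
    (QuotientGroup.mk' _).comp (Subgroup.inclusion le_sup_right)
  have hf : Function.Surjective f := by
    intro q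
    induction q using QuotientGroup.induction_on with
    | H y =>
      have hy : (y : G) ∈ ((N ⊔ S : Subgroup G) : Set G) := y.2
      rw [Subgroup.normal_mul] at hy
      obtain ⟨a, ha, b, hb, hab⟩ := Set.mem_mul.mp hy
      refine ⟨⟨b, hb⟩, ?_⟩
      show QuotientGroup.mk (Subgroup.inclusion le_sup_right ⟨b, hb⟩) = QuotientGroup.mk y
      rw [QuotientGroup.eq]
      rw [Subgroup.mem_subgroupOf]
      show b⁻¹ * (y : G) ∈ N
      rw [← hab]
      have h1 : b⁻¹ * (a * b) = b⁻¹ * a * b⁻¹⁻¹ := by group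
      rw [h1]
      exact hN.conj_mem a ha b⁻¹
  exact solvable_of_surjective hf

/-- Isaacs 8.16: an invariant irreducible character of degree prime to the index extends as
soon as its determinant does (no solvability assumption). -/
theorem ext_of_det_ext {ϑ : N → ℂ} (hϑ : Cfsg.IsIrrCharacter N ϑ)
    (hinv : ∀ (g : G) (n : N), ϑ ⟨g * n * g⁻¹, hN.conj_mem (n : G) n.2 g⟩ = ϑ n)
    (d : ℕ) (hd : ϑ 1 = d) (hcop : Nat.Coprime N.index d) (μ : G →* ℂˣ)
    (hμN : ∀ n : N, ((μ n : ℂˣ) : ℂ) = Cfsg.detChar ϑ n) :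
    ∃ χ : G → ℂ, Cfsg.IsIrrCharacter G χ ∧ (∀ n : N, χ n = ϑ n) ∧
      Cfsg.detChar χ = fun g => ((μ g : ℂˣ) : ℂ) := by
  classical
  have hfinG := Fintype.ofFinite G
  have hfinN := Fintype.ofFinite N
  obtain ⟨K, hKdef⟩ : ∃ K : G → Subgroup G, ∀ g, K g = N ⊔ Subgroup.zpowers g :=
    ⟨_, fun _ => rfl⟩
  have hNK : ∀ g, N ≤ K g := fun g => by
    rw [hKdef]
    exact le_sup_left
  have hgK : ∀ g, g ∈ K g := fun g => by
    rw [hKdef]
    exact (le_sup_right : Subgroup.zpowers g ≤ N ⊔ Subgroup.zpowers g) (Subgroup.mem_zpowers g)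
  have hKle : ∀ g (H : Subgroup G), N ≤ H → g ∈ H → K g ≤ H := fun g H h1 h2 => by
    rw [hKdef]
    exact sup_le h1 (Subgroup.zpowers_le.mpr h2)
  have hsolvK : ∀ g, Group.IsSolvable (K g ⧸ N.subgroupOf (K g)) := by
    intro g
    rw [hKdef]
    haveI : Group.IsSolvable (Subgroup.zpowers g) := isSolvable_of_comm (fun a b => by
      obtain ⟨i, hi⟩ := Subgroup.mem_zpowers_iff.mp a.2
      obtain ⟨j, hj⟩ := Subgroup.mem_zpowers_iff.mp b.2
      apply Subtype.ext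
      show (a : G) * b = b * a
      rw [← hi, ← hj, ← zpow_add, ← zpow_add, add_comm])
    exact solvable_sup_quot N (Subgroup.zpowers g)
  have hex : ∀ (H : Subgroup G) (hNH : N ≤ H), Group.IsSolvable (H ⧸ N.subgroupOf H) →
      ∃! ψ : H → ℂ, IsDetExt N ϑ μ H ψ :=
    fun H hNH hs => exists_unique_detExt N hϑ hinv d hd hcop μ hμN H hNH hs
  choose Ψ hΨ using fun g => (hex (K g) (hNK g) (hsolvK g)).exists
  have hΨu : ∀ g (ψ : K g → ℂ), IsDetExt N ϑ μ (K g) ψ → ψ = Ψ g := fun g ψ hψ =>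
    (hex (K g) (hNK g) (hsolvK g)).unique hψ (hΨ g)
  obtain ⟨θ, hθdef⟩ : ∃ θ : G → ℂ, ∀ g, θ g = Ψ g ⟨g, hgK g⟩ :=
    ⟨fun g => Ψ g ⟨g, hgK g⟩, fun g => rfl⟩
  have hθH : ∀ (H : Subgroup G) (hNH : N ≤ H) (ψ : H → ℂ), IsDetExt N ϑ μ H ψ →
      ∀ x : H, θ x = ψ x := by
    intro H hNH ψ hψ x
    have hKH : K (x : G) ≤ H := hKle _ H hNH x.2
    have h1 := hΨu (x : G) _ (IsDetExt.restrict N hϑ (hNK _) hKH hψ)
    have h2 := congrFun h1 ⟨(x : G), hgK _⟩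
    rw [hθdef]
    exact h2.symm
  have hclass : Cfsg.IsClassFunction G θ := by
    intro g x
    have hx : ∀ h ∈ K g, x * h * x⁻¹ ∈ K (x * g * x⁻¹) := by
      intro h hh
      have hle : K g ≤ (K (x * g * x⁻¹)).comap (MulAut.conj x).toMonoidHom := by
        apply hKle
        · intro n hn
          show (MulAut.conj x) n ∈ K (x * g * x⁻¹)
          rw [MulAut.conj_apply]
          exact hNK _ (hN.conj_mem n hn x)
        · show (MulAut.conj x) g ∈ K (x * g * x⁻¹)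
          rw [MulAut.conj_apply]
          exact hgK _
      have h1 : (MulAut.conj x) h ∈ K (x * g * x⁻¹) := hle hh
      rw [MulAut.conj_apply] at h1
      exact h1
    have h1 := hΨu g _ (IsDetExt.conj N hϑ hinv (hNK g) x hx (hΨ (x * g * x⁻¹)))
    have h2 := congrFun h1 ⟨g, hgK g⟩
    rw [hθdef, hθdef]
    exact h2
  have hgen : Cfsg.IsGeneralizedCharacter G θ := by
    apply Cfsg.Agent.Lib.Helper25.Brauer.brauer_char hclass
    intro E p hp hE
    haveI : Fact p.Prime := ⟨hp⟩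
    haveI : Group.IsNilpotent E := Cfsg.Agent.Lib.Helper25.Brauer.IsElementary.nilpotent hE
    haveI : Group.IsSolvable E := inferInstance
    obtain ⟨ψ, hψ, -⟩ := hex (N ⊔ E) le_sup_left (solvable_sup_quot N E)
    have h1 : (fun e : E => θ e) = ψ ∘ (Subgroup.inclusion (le_sup_right : E ≤ N ⊔ E)) := by
      funext e
      exact hθH (N ⊔ E) le_sup_left ψ hψ ⟨e, (le_sup_right : E ≤ N ⊔ E) e.2⟩
    rw [h1]
    exact Cfsg.Agent.Lib.Helper25.Brauer.isGen_of_char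
      (IsCharacter.comp (IsIrrCharacter.isCharacter hψ.1) _)
  have hθN : ∀ n : N, θ n = ϑ n := fun n => by
    rw [hθdef]
    exact (hΨ (n : G)).2.1 n (hgK (n : G))
  have hcoset : ∀ g : G, ∑ n : N, θ ((n : G) * g) * conj (θ ((n : G) * g)) =
      (Nat.card N : ℂ) := by
    intro g
    have hfK : Fintype (K g) := Fintype.ofFinite _
    have hfN' : Fintype (N.subgroupOf (K g)) := Fintype.ofFinite _
    have hres : Cfsg.IsIrrCharacter (N.subgroupOf (K g))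
        (fun n' : N.subgroupOf (K g) => Ψ g n') := by
      have h1 : (fun n' : N.subgroupOf (K g) => Ψ g n') =
          ϑ ∘ (Subgroup.subgroupOfEquivOfLe (hNK g)) := by
        funext n'
        exact (hΨ g).2.1 (Subgroup.subgroupOfEquivOfLe (hNK g) n') (n' : K g).2
      rw [h1]
      exact IsIrrCharacter.comp_mulEquiv hϑ _
    have h2 := coset_sum_norm (N.subgroupOf (K g)) (hΨ g).1 hres ⟨g, hgK g⟩
    have h3 : (Nat.card (N.subgroupOf (K g)) : ℂ) = Nat.card N := by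
      rw [Nat.card_congr (Subgroup.subgroupOfEquivOfLe (hNK g)).toEquiv]
    rw [h3] at h2
    rw [← h2]
    have h4 := Equiv.sum_comp (Subgroup.subgroupOfEquivOfLe (hNK g)).toEquiv
      (fun n : N => θ ((n : G) * g) * conj (θ ((n : G) * g)))
    rw [← h4]
    refine Finset.sum_congr rfl (fun n' _ => ?_)
    have h5 := hθH (K g) (hNK g) (Ψ g) (hΨ g) ((n' : K g) * ⟨g, hgK g⟩)
    have h6 : (((n' : K g) * ⟨g, hgK g⟩ : K g) : G) =
        ((Subgroup.subgroupOfEquivOfLe (hNK g) n' : N) : G) * g := rfl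
    rw [h6] at h5
    show θ (((Subgroup.subgroupOfEquivOfLe (hNK g) n' : N) : G) * g) *
      conj (θ (((Subgroup.subgroupOfEquivOfLe (hNK g) n' : N) : G) * g)) = _
    rw [h5]
  have hnorm : Cfsg.classInner θ θ = 1 := norm_of_coset_sums N θ hcoset
  have hθ1 : θ 1 = d := by
    have h1 := hθN 1
    rw [Subgroup.coe_one] at h1
    rw [h1, hd]
  have hint : ∀ χ : G → ℂ, Cfsg.IsIrrCharacter G χ →
      ∃ n : ℤ, Cfsg.classInner θ χ = (n : ℂ) := by
    intro χ hχ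
    obtain ⟨χ₁, χ₂, h1, h2, h3⟩ := hgen
    obtain ⟨n₁, hn₁⟩ := IsCharacter.classInner_irr_nat h1 hχ
    obtain ⟨n₂, hn₂⟩ := IsCharacter.classInner_irr_nat h2 hχ
    refine ⟨(n₁ : ℤ) - n₂, ?_⟩
    rw [h3, classInner_sub_left, hn₁, hn₂]
    push_cast
    rfl
  have hdpos : 0 < d := by
    obtain ⟨m, hm, hm1⟩ := IsIrrCharacter.degree_pos hϑ
    rw [hd] at hm1
    have h1 : d = m := by exact_mod_cast hm1
    omega
  have hθirr : Cfsg.IsIrrCharacter G θ := by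
    apply isIrr_of_int_norm_one hclass hint hnorm
    rw [hθ1]
    simp only [Complex.natCast_re]
    exact_mod_cast hdpos
  refine ⟨θ, hθirr, hθN, ?_⟩
  funext g
  have h1 := detChar_restrict (IsIrrCharacter.isCharacter hθirr) (K g)
  have h2 : (fun x : K g => θ x) = Ψ g :=
    funext (fun x => hθH (K g) (hNK g) (Ψ g) (hΨ g) x)
  rw [h2] at h1
  have h3 := congrFun h1 ⟨g, hgK g⟩
  rw [← h3, (hΨ g).2.2]

end detext2

end Cfsg.Agent.Lib.Helper1
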