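import Cfsg.Agent.Lib.Helper1.CharCoprime

set_option autoImplicit false
set_option linter.unusedSectionVars false
set_option linter.unusedVariables false
set_option linter.style.haveILetI false

/-!
# Coprime actions on characters: invariant characters above (Isaacs 13.28)
-/

namespace Cfsg.Agent.Lib.Helper1

open Representation Module
open scoped ComplexConjugate

universe u

section transitive

variable {K : Type u} [Group K] [Fintype K]

/-- the linear characters of an abelian quotient `K / M` act transitively on the irreducible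
characters of `K` over a given irreducible character of `M` -/
theorem linear_transitive (M : Subgroup K) [hM : M.Normal] [Fintype M]
    (hab : ∀ a b : K, a * b * a⁻¹ * b⁻¹ ∈ M) {χ χ' : K → ℂ}
    (hχ : Cfsg.IsIrrCharacter K χ) (hχ' : Cfsg.IsIrrCharacter K χ') {θ : M → ℂ}
    (hθ : Cfsg.IsIrrCharacter M θ) (h1 : Cfsg.classInner (fun m : M => χ m) θ ≠ 0)
    (h2 : Cfsg.classInner (fun m : M => χ' m) θ ≠ 0) :
    ∃ μ : K →* ℂˣ, (∀ m ∈ M, μ m = 1) ∧ χ' = fun k => ((μ k : ℂˣ) : ℂ) * χ k := by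
  classical
  letI : CommGroup (K ⧸ M) :=
    { (inferInstance : Group (K ⧸ M)) with
      mul_comm := by
        intro a b
        obtain ⟨a, rfl⟩ := QuotientGroup.mk_surjective a
        obtain ⟨b, rfl⟩ := QuotientGroup.mk_surjective b
        rw [← QuotientGroup.mk_mul, ← QuotientGroup.mk_mul, QuotientGroup.eq]
        have := hab b⁻¹ a⁻¹
        have h2 : (a * b)⁻¹ * (b * a) = b⁻¹ * a⁻¹ * b⁻¹⁻¹ * a⁻¹⁻¹ := by group
        rw [h2]
        exact this }
  haveI : NeZero (Monoid.exponent (K ⧸ M)) := ⟨Monoid.exponent_ne_zero_of_finite⟩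
  have hcard := CommGroup.card_monoidHom_of_hasEnoughRootsOfUnity (K ⧸ M) ℂ
  have hfin : Finite ((K ⧸ M) →* ℂˣ) := by
    apply Nat.finite_of_card_ne_zero
    rw [hcard]
    exact Nat.card_pos.ne'
  have := Fintype.ofFinite ((K ⧸ M) →* ℂˣ)
  -- orthogonality
  have horth : ∀ k : K, k ∉ M → ∑ ν : (K ⧸ M) →* ℂˣ, ((ν (k : K ⧸ M) : ℂˣ) : ℂ) = 0 := by
    intro k hk
    have hne : ((k : K ⧸ M)) ≠ 1 := by
      intro h
      exact hk ((QuotientGroup.eq_one_iff k).mp h)
    obtain ⟨ν₀, hν₀⟩ := CommGroup.exists_apply_ne_one_of_hasEnoughRootsOfUnity (K ⧸ M) ℂ hne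
    have hsum : ∑ ν : (K ⧸ M) →* ℂˣ, ((ν (k : K ⧸ M) : ℂˣ) : ℂ) =
        ((ν₀ (k : K ⧸ M) : ℂˣ) : ℂ) * ∑ ν : (K ⧸ M) →* ℂˣ, ((ν (k : K ⧸ M) : ℂˣ) : ℂ) := by
      rw [Finset.mul_sum, ← Equiv.sum_comp (Equiv.mulLeft ν₀)]
      refine Finset.sum_congr rfl (fun ν _ => ?_)
      simp [MonoidHom.mul_apply]
    have hne' : ((ν₀ (k : K ⧸ M) : ℂˣ) : ℂ) ≠ 1 := by
      intro h
      exact hν₀ (Units.ext h)
    have h3 : (1 - ((ν₀ (k : K ⧸ M) : ℂˣ) : ℂ)) *
        ∑ ν : (K ⧸ M) →* ℂˣ, ((ν (k : K ⧸ M) : ℂˣ) : ℂ) = 0 := by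
      linear_combination hsum
    rcases mul_eq_zero.mp h3 with h | h
    · exact absurd (sub_eq_zero.mp h).symm hne'
    · exact h
  have hin : ∀ k : K, k ∈ M → ∑ ν : (K ⧸ M) →* ℂˣ, ((ν (k : K ⧸ M) : ℂˣ) : ℂ) =
      (Nat.card (K ⧸ M) : ℂ) := by
    intro k hk
    rw [(QuotientGroup.eq_one_iff k).mpr hk]
    simp only [map_one, Units.val_one, Finset.sum_const, Finset.card_univ, nsmul_eq_mul, mul_one]
    rw [← hcard, Nat.card_eq_fintype_card]
  -- the inner product of the restrictions is nonzero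
  have hirrM : Fintype (Cfsg.IrrCharacter M) := irrFintype
  have hχM := IsCharacter.restrict (IsIrrCharacter.isCharacter hχ) M
  have hχ'M := IsCharacter.restrict (IsIrrCharacter.isCharacter hχ') M
  obtain ⟨m, hm1, hm2⟩ := IsCharacter.eq_sum_irr hχM
  obtain ⟨m', hm1', hm2'⟩ := IsCharacter.eq_sum_irr hχ'M
  have hres : Cfsg.classInner (fun k : M => χ' k) (fun k : M => χ k) =
      ((∑ ψ : Cfsg.IrrCharacter M, m' ψ * m ψ : ℕ) : ℂ) := by
    have h := congrArg (fun F => Cfsg.classInner F (fun k : M => χ k)) hm2'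
    rw [h, classInner_sum_left]
    push_cast
    refine Finset.sum_congr rfl (fun ψ _ => ?_)
    rw [classInner_smul_left, ← classInner_conj_symm, hm1, Complex.conj_natCast]
  have hpos : 0 < ∑ ψ : Cfsg.IrrCharacter M, m' ψ * m ψ := by
    have hle : m' ⟨θ, hθ⟩ * m ⟨θ, hθ⟩ ≤ ∑ ψ : Cfsg.IrrCharacter M, m' ψ * m ψ :=
      Finset.single_le_sum (f := fun ψ : Cfsg.IrrCharacter M => m' ψ * m ψ)
        (fun _ _ => Nat.zero_le _) (Finset.mem_univ _)
    have ha : m ⟨θ, hθ⟩ ≠ 0 := by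
      intro h
      have := hm1 ⟨θ, hθ⟩
      rw [h] at this
      exact h1 (by simpa using this)
    have hb : m' ⟨θ, hθ⟩ ≠ 0 := by
      intro h
      have := hm1' ⟨θ, hθ⟩
      rw [h] at this
      exact h2 (by simpa using this)
    have : 0 < m' ⟨θ, hθ⟩ * m ⟨θ, hθ⟩ := Nat.mul_pos (Nat.pos_of_ne_zero hb) (Nat.pos_of_ne_zero ha)
    omega
  have hresne : Cfsg.classInner (fun k : M => χ' k) (fun k : M => χ k) ≠ 0 := by
    rw [hres]
    exact_mod_cast hpos.ne'
  -- some twist is not orthogonal to `χ'`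
  have hex : ∃ ν : (K ⧸ M) →* ℂˣ, Cfsg.classInner χ'
      (fun k => ((ν (k : K ⧸ M) : ℂˣ) : ℂ) * χ k) ≠ 0 := by
    by_contra hcon
    push Not at hcon
    apply hresne
    have hsum : ∑ ν : (K ⧸ M) →* ℂˣ, ∑ k : K,
        χ' k * conj (((ν (k : K ⧸ M) : ℂˣ) : ℂ) * χ k) = 0 := by
      apply Finset.sum_eq_zero
      intro ν _
      have h := hcon ν
      unfold Cfsg.classInner at h
      rcases mul_eq_zero.mp h with h | h
      · exfalso
        have hK : (Nat.card K : ℂ) ≠ 0 := by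
          have := Nat.card_pos (α := K)
          exact_mod_cast this.ne'
        exact inv_ne_zero hK h
      · exact h
    rw [Finset.sum_comm] at hsum
    have hsum2 : ∑ k : K, (if k ∈ M then (Nat.card (K ⧸ M) : ℂ) * (χ' k * conj (χ k)) else 0) = 0 := by
      refine Eq.trans (Finset.sum_congr rfl (fun k _ => ?_)) hsum
      have e1 : ∑ ν : (K ⧸ M) →* ℂˣ, χ' k * conj (((ν (k : K ⧸ M) : ℂˣ) : ℂ) * χ k) =
          χ' k * conj (χ k) * conj (∑ ν : (K ⧸ M) →* ℂˣ, ((ν (k : K ⧸ M) : ℂˣ) : ℂ)) := by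
        rw [map_sum, Finset.mul_sum]
        refine Finset.sum_congr rfl (fun ν _ => ?_)
        rw [map_mul]
        ring
      rw [e1]
      by_cases hk : k ∈ M
      · rw [if_pos hk, hin k hk, Complex.conj_natCast]
        ring
      · rw [if_neg hk, horth k hk, map_zero, mul_zero]
    unfold Cfsg.classInner
    rw [sum_subgroup_eq M (fun k => χ' k * conj (χ k))]
    have hQ : (Nat.card (K ⧸ M) : ℂ) ≠ 0 := by
      have := Nat.card_pos (α := K ⧸ M)
      exact_mod_cast this.ne'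
    have hsum3 : (Nat.card (K ⧸ M) : ℂ) *
        ∑ k : K, (if k ∈ M then χ' k * conj (χ k) else 0) = 0 := by
      rw [Finset.mul_sum]
      refine Eq.trans (Finset.sum_congr rfl (fun k _ => ?_)) hsum2
      by_cases hk : k ∈ M
      · rw [if_pos hk, if_pos hk]
      · rw [if_neg hk, if_neg hk, mul_zero]
    rcases mul_eq_zero.mp hsum3 with h | h
    · exact absurd h hQ
    · rw [h, mul_zero]
  obtain ⟨ν, hν⟩ := hex
  refine ⟨ν.comp (QuotientGroup.mk' M), ?_, ?_⟩
  · intro k hk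
    simp only [MonoidHom.coe_comp, QuotientGroup.coe_mk', Function.comp_apply]
    rw [(QuotientGroup.eq_one_iff k).mpr hk, map_one]
  · by_contra hne
    apply hν
    exact classInner_irr_ne hχ' (IsIrrCharacter.mul_linear hχ (ν.comp (QuotientGroup.mk' M))) hne

end transitive

section actions

/-- multiplication by linear characters, as an action on the irreducible characters -/
noncomputable def linAct (K : Type u) [Group K] [Fintype K] :
    MulAction (K →* ℂˣ) (Cfsg.IrrCharacter K) where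
  smul μ χ := ⟨fun k => ((μ k : ℂˣ) : ℂ) * (χ : K → ℂ) k, IsIrrCharacter.mul_linear χ.2 μ⟩
  one_smul χ := by
    apply Subtype.ext
    funext k
    show (((1 : K →* ℂˣ) k : ℂˣ) : ℂ) * (χ : K → ℂ) k = (χ : K → ℂ) k
    simp
  mul_smul a b χ := by
    apply Subtype.ext
    funext k
    show (((a * b) k : ℂˣ) : ℂ) * (χ : K → ℂ) k =
      ((a k : ℂˣ) : ℂ) * (((b k : ℂˣ) : ℂ) * (χ : K → ℂ) k)
    simp [mul_assoc]

/-- the action of a normalizing subgroup on the irreducible characters of a subgroup -/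
noncomputable def normActIrr {Γ : Type u} [Group Γ] (M Y : Subgroup Γ) [Finite M]
    (hY : Y ≤ Subgroup.normalizer (M : Set Γ)) : MulAction Y (Cfsg.IrrCharacter M) where
  smul y θ := ⟨(θ : M → ℂ) ∘ (normEquiv M (y : Γ) (hY y.2)).symm,
    IsIrrCharacter.comp_mulEquiv θ.2 _⟩
  one_smul θ := by
    apply Subtype.ext
    exact (normAct M Y hY).one_smul (θ : M → ℂ)
  mul_smul a b θ := by
    apply Subtype.ext
    exact (normAct M Y hY).mul_smul a b (θ : M → ℂ)

theorem le_normalizer_of_conj_mem {Γ : Type u} [Group Γ] (G S : Subgroup Γ)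
    (hnorm : ∀ s ∈ S, ∀ g ∈ G, s * g * s⁻¹ ∈ G) : S ≤ Subgroup.normalizer (G : Set Γ) := by
  intro s hs
  rw [Subgroup.mem_normalizer_iff]
  intro g
  constructor
  · intro hg
    exact hnorm s hs g hg
  · intro hg
    have h1 := hnorm s⁻¹ (S.inv_mem hs) _ hg
    simpa [mul_assoc] using h1

end actions

section abelian

variable {Γ : Type u} [Group Γ] [Fintype Γ]

/-- Isaacs 13.28 for an abelian quotient: an invariant irreducible character of `N` lies under
an invariant irreducible character of `G`. -/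
theorem coprime_abelian_above (G S N : Subgroup Γ) [Fintype G] [Fintype N]
    (hSG : S ≤ Subgroup.normalizer (G : Set Γ)) (hSN : S ≤ Subgroup.normalizer (N : Set Γ))
    (hNG : N ≤ G) [hNn : (N.subgroupOf G).Normal]
    (hab : ∀ a b : G, a * b * a⁻¹ * b⁻¹ ∈ N.subgroupOf G)
    (hcop : (N.relIndex G).Coprime (Nat.card S))
    (θ : N → ℂ) (hθ : Cfsg.IsIrrCharacter N θ)
    (hinv : ∀ s ∈ S, ∀ g g' : N, (g' : Γ) = s * g * s⁻¹ → θ g' = θ g) :
    ∃ χ : G → ℂ, Cfsg.IsIrrCharacter G χ ∧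
      Cfsg.classInner (fun n : N => χ ⟨n, hNG n.2⟩) θ ≠ 0 ∧
      (∀ s ∈ S, ∀ g g' : G, (g' : Γ) = s * g * s⁻¹ → χ g' = χ g) := by
  classical
  haveI : Fintype (N.subgroupOf G) := Fintype.ofFinite _
  haveI hirrG : Fintype (Cfsg.IrrCharacter G) := irrFintype
  obtain ⟨e, he⟩ : ∃ e : N.subgroupOf G ≃* N, ∀ m, ((e m : N) : Γ) = ((m : G) : Γ) :=
    ⟨Subgroup.subgroupOfEquivOfLe hNG, fun m => rfl⟩
  have hθe : Cfsg.IsIrrCharacter (N.subgroupOf G) (θ ∘ e) := IsIrrCharacter.comp_mulEquiv hθ e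
  have hres : ∀ χ : G → ℂ,
      (fun m : N.subgroupOf G => χ m) = (fun n : N => χ ⟨n, hNG n.2⟩) ∘ e := by
    intro χ
    funext m
    show χ m = χ ⟨(e m : N), _⟩
    congr 1
    apply Subtype.ext
    exact (he m).symm
  -- the two actions, as homomorphisms to the permutation group
  obtain ⟨fL, hfL⟩ : ∃ fL : (G →* ℂˣ) →* Equiv.Perm (Cfsg.IrrCharacter G),
      ∀ (μ : G →* ℂˣ) (χ : Cfsg.IrrCharacter G), ((fL μ χ : Cfsg.IrrCharacter G) : G → ℂ) =
        fun k => ((μ k : ℂˣ) : ℂ) * (χ : G → ℂ) k :=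
    ⟨@MulAction.toPermHom _ _ _ (linAct G), fun _ _ => rfl⟩
  obtain ⟨fS, hfS⟩ : ∃ fS : S →* Equiv.Perm (Cfsg.IrrCharacter G),
      ∀ (s : S) (χ : Cfsg.IrrCharacter G), ((fS s χ : Cfsg.IrrCharacter G) : G → ℂ) =
        (χ : G → ℂ) ∘ (normEquiv G (s : Γ) (hSG s.2)).symm :=
    ⟨@MulAction.toPermHom _ _ _ (normActIrr G S hSG), fun _ _ => rfl⟩
  obtain ⟨KL, hKL⟩ : ∃ KL : Subgroup (G →* ℂˣ),
      ∀ μ, μ ∈ KL ↔ ∀ m ∈ N.subgroupOf G, μ m = 1 :=
    ⟨{ carrier := {μ | ∀ m ∈ N.subgroupOf G, μ m = 1}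
       one_mem' := fun m _ => rfl
       mul_mem' := by
         intro a b ha hb m hm
         show (a * b) m = 1
         rw [MonoidHom.mul_apply, ha m hm, hb m hm, one_mul]
       inv_mem' := by
         intro a ha m hm
         show a⁻¹ m = 1
         rw [MonoidHom.inv_apply, ha m hm, inv_one] }, fun μ => Iff.rfl⟩
  obtain ⟨Gh, hGh⟩ : ∃ Gh : Subgroup (Equiv.Perm (Cfsg.IrrCharacter G)), Gh = KL.map fL :=
    ⟨_, rfl⟩
  obtain ⟨Sh, hSh⟩ : ∃ Sh : Subgroup (Equiv.Perm (Cfsg.IrrCharacter G)), Sh = fS.range :=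
    ⟨_, rfl⟩
  obtain ⟨Y, hYdef⟩ : ∃ Y : Subgroup (Equiv.Perm (Cfsg.IrrCharacter G)), Y = Gh ⊔ Sh :=
    ⟨_, rfl⟩
  have hGY : Gh ≤ Y := by rw [hYdef]; exact le_sup_left
  have hSY : Sh ≤ Y := by rw [hYdef]; exact le_sup_right
  -- `Sh` normalizes `Gh`
  have hconj : ∀ (s : S) (μ : G →* ℂˣ), μ ∈ KL → fS s * fL μ * (fS s)⁻¹ ∈ Gh := by
    intro s μ hμ
    rw [hGh]
    refine ⟨μ.comp (normEquiv G (s : Γ) (hSG s.2)).symm.toMonoidHom, ?_, ?_⟩
    · rw [SetLike.mem_coe, hKL]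
      intro m hm
      show μ ((normEquiv G (s : Γ) (hSG s.2)).symm m) = 1
      apply (hKL μ).mp hμ
      rw [Subgroup.mem_subgroupOf]
      show (s : Γ)⁻¹ * (m : Γ) * (s : Γ) ∈ N
      exact (Subgroup.mem_normalizer_iff''.mp (hSN s.2) _).mp (Subgroup.mem_subgroupOf.mp hm)
    · apply Equiv.ext
      intro χ
      apply Subtype.ext
      rw [hfL]
      show _ = ((fS s (fL μ ((fS s)⁻¹ χ)) : Cfsg.IrrCharacter G) : G → ℂ)
      rw [hfS, hfL]
      funext k
      show ((μ ((normEquiv G (s : Γ) (hSG s.2)).symm k) : ℂˣ) : ℂ) * (χ : G → ℂ) k =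
        ((μ ((normEquiv G (s : Γ) (hSG s.2)).symm k) : ℂˣ) : ℂ) *
          (((fS s)⁻¹ χ : Cfsg.IrrCharacter G) : G → ℂ) ((normEquiv G (s : Γ) (hSG s.2)).symm k)
      congr 1
      have h1 : (fS s)⁻¹ χ = fS s⁻¹ χ := by rw [map_inv]
      rw [h1, hfS]
      show (χ : G → ℂ) k = (χ : G → ℂ) ((normEquiv G ((s⁻¹ : S) : Γ) (hSG (s⁻¹).2)).symm
        ((normEquiv G (s : Γ) (hSG s.2)).symm k))
      refine congrArg (χ : G → ℂ) (Subtype.ext ?_)
      show (k : Γ) = (((s⁻¹ : S) : Γ))⁻¹ * ((s : Γ)⁻¹ * k * s) * ((s⁻¹ : S) : Γ)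
      simp [mul_assoc]
  have hSGh : Sh ≤ Subgroup.normalizer (Gh : Set (Equiv.Perm (Cfsg.IrrCharacter G))) := by
    apply le_normalizer_of_conj_mem
    intro x hx h hh
    rw [hSh] at hx
    obtain ⟨s, rfl⟩ := hx
    rw [hGh] at hh
    obtain ⟨μ, hμ, rfl⟩ := hh
    exact hconj s μ hμ
  have hYGh : Y ≤ Subgroup.normalizer (Gh : Set (Equiv.Perm (Cfsg.IrrCharacter G))) := by
    rw [hYdef]
    exact sup_le Subgroup.le_normalizer hSGh
  haveI hGn : (Gh.subgroupOf Y).Normal :=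
    (Subgroup.normal_subgroupOf_iff_le_normalizer hGY).mpr hYGh
  have hGS' : Gh.subgroupOf Y ⊔ Sh.subgroupOf Y = ⊤ := by
    rw [← Subgroup.subgroupOf_sup hGY hSY, ← hYdef, Subgroup.subgroupOf_self]
  -- the exponent of `Gh`
  have hexp : ∀ x ∈ Gh, x ^ (N.relIndex G) = 1 := by
    intro x hx
    rw [hGh] at hx
    obtain ⟨μ, hμ, rfl⟩ := hx
    rw [← map_pow]
    have h1 : μ ^ (N.relIndex G) = 1 := by
      apply MonoidHom.ext
      intro g
      rw [MonoidHom.pow_apply, ← map_pow]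
      exact (hKL μ).mp hμ _ (Subgroup.pow_index_mem (N.subgroupOf G) g)
    rw [h1, map_one]
  have hcop' : ((⊥ : Subgroup Y).relIndex (Gh.subgroupOf Y)).Coprime
      (Nat.card (Sh.subgroupOf Y)) := by
    rw [Subgroup.relIndex_bot_left, Nat.card_congr (Subgroup.subgroupOfEquivOfLe hGY).toEquiv,
      Nat.card_congr (Subgroup.subgroupOfEquivOfLe hSY).toEquiv]
    apply Nat.coprime_of_dvd
    intro p hp hp1 hp2
    haveI := Fact.mk hp
    obtain ⟨x, hx⟩ := exists_prime_orderOf_dvd_card' p hp1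
    have h1 : x ^ (N.relIndex G) = 1 := by
      apply Subtype.ext
      exact hexp x x.2
    have h2 : p ∣ N.relIndex G := by
      rw [← hx]
      exact orderOf_dvd_of_pow_eq_one h1
    have h3 : p ∣ Nat.card S := by
      rw [hSh] at hp2
      exact hp2.trans (Subgroup.card_range_dvd fS)
    have h4 := Nat.dvd_gcd h2 h3
    rw [Nat.Coprime] at hcop
    rw [hcop] at h4
    exact hp.one_lt.ne' (Nat.dvd_one.mp h4)
  have hsolv' : Group.IsSolvable (Sh.subgroupOf Y) ∨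
      Group.IsSolvable ((Gh.subgroupOf Y).map (QuotientGroup.mk' (⊥ : Subgroup Y))) := by
    right
    apply Group.isSolvable_of_comm
    rintro ⟨_, x, hx, rfl⟩ ⟨_, y, hy, rfl⟩
    apply Subtype.ext
    show QuotientGroup.mk' _ x * QuotientGroup.mk' _ y =
      QuotientGroup.mk' _ y * QuotientGroup.mk' _ x
    rw [← map_mul, ← map_mul]
    congr 1
    apply Subtype.ext
    have hx' := Subgroup.mem_subgroupOf.mp hx
    have hy' := Subgroup.mem_subgroupOf.mp hy
    rw [hGh] at hx' hy'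
    obtain ⟨μ, hμ, hx''⟩ := hx'
    obtain ⟨ν, hν, hy''⟩ := hy'
    show (x : Equiv.Perm (Cfsg.IrrCharacter G)) * (y : Equiv.Perm (Cfsg.IrrCharacter G)) = y * x
    rw [← hx'', ← hy'', ← map_mul, ← map_mul, mul_comm μ ν]
  -- the set of irreducible characters over `θ`
  obtain ⟨O, hOdef⟩ : ∃ O : Set (Cfsg.IrrCharacter G), O = {χ : Cfsg.IrrCharacter G |
      Cfsg.classInner (fun n : N => (χ : G → ℂ) ⟨n, hNG n.2⟩) θ ≠ 0} := ⟨_, rfl⟩
  have hO : O.Nonempty := by
    obtain ⟨χ, hχ, hc⟩ := exists_irr_above (N.subgroupOf G) hθe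
    refine ⟨⟨χ, hχ⟩, ?_⟩
    rw [hOdef]
    show Cfsg.classInner (fun n : N => χ ⟨n, hNG n.2⟩) θ ≠ 0
    rw [hres χ, classInner_comp_mulEquiv] at hc
    exact hc
  obtain ⟨I, hI⟩ : ∃ I : Subgroup (Equiv.Perm (Cfsg.IrrCharacter G)),
      ∀ p, p ∈ I ↔ ∀ ω, ω ∈ O ↔ p ω ∈ O := by
    refine ⟨{ carrier := {p | ∀ ω, ω ∈ O ↔ p ω ∈ O}
              one_mem' := fun ω => Iff.rfl
              mul_mem' := by
                intro p q hp hq ω
                exact (hq ω).trans (hp (q ω))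
              inv_mem' := by
                intro p hp ω
                have h := hp (p⁻¹ ω)
                have e1 : p (p⁻¹ ω) = ω := p.apply_symm_apply ω
                rw [e1] at h
                exact h.symm }, fun p => Iff.rfl⟩
  have hGI : Gh ≤ I := by
    intro x hx
    rw [hGh] at hx
    obtain ⟨μ, hμ, rfl⟩ := hx
    rw [hI]
    intro ω
    rw [hOdef]
    show Cfsg.classInner (fun n : N => (ω : G → ℂ) ⟨n, hNG n.2⟩) θ ≠ 0 ↔
      Cfsg.classInner (fun n : N => ((fL μ ω : Cfsg.IrrCharacter G) : G → ℂ) ⟨n, hNG n.2⟩) θ ≠ 0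
    have h1 : (fun n : N => ((fL μ ω : Cfsg.IrrCharacter G) : G → ℂ) ⟨n, hNG n.2⟩) =
        (fun n : N => (ω : G → ℂ) ⟨n, hNG n.2⟩) := by
      funext n
      rw [hfL]
      show ((μ ⟨n, hNG n.2⟩ : ℂˣ) : ℂ) * _ = _
      rw [(hKL μ).mp hμ ⟨n, hNG n.2⟩ (Subgroup.mem_subgroupOf.mpr n.2)]
      simp
    rw [h1]
  have hSI : Sh ≤ I := by
    intro x hx
    rw [hSh] at hx
    obtain ⟨s, rfl⟩ := hx
    rw [hI]
    intro ω
    rw [hOdef]
    show Cfsg.classInner (fun n : N => (ω : G → ℂ) ⟨n, hNG n.2⟩) θ ≠ 0 ↔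
      Cfsg.classInner (fun n : N => ((fS s ω : Cfsg.IrrCharacter G) : G → ℂ) ⟨n, hNG n.2⟩) θ ≠ 0
    have h1 : (fun n : N => ((fS s ω : Cfsg.IrrCharacter G) : G → ℂ) ⟨n, hNG n.2⟩) =
        (fun n : N => (ω : G → ℂ) ⟨n, hNG n.2⟩) ∘ (normEquiv N (s : Γ) (hSN s.2)).symm := by
      funext n
      rw [hfS]
      show (ω : G → ℂ) _ = (ω : G → ℂ) _
      refine congrArg (ω : G → ℂ) (Subtype.ext ?_)
      rfl
    have h2 : θ = θ ∘ (normEquiv N (s : Γ) (hSN s.2)).symm := by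
      funext n
      exact hinv s s.2 ((normEquiv N (s : Γ) (hSN s.2)).symm n) n (by
        show (n : Γ) = s * ((s : Γ)⁻¹ * n * s) * (s : Γ)⁻¹
        simp [mul_assoc])
    have h3 : Cfsg.classInner ((fun n : N => (ω : G → ℂ) ⟨n, hNG n.2⟩) ∘
        (normEquiv N (s : Γ) (hSN s.2)).symm) θ =
        Cfsg.classInner (fun n : N => (ω : G → ℂ) ⟨n, hNG n.2⟩) θ := by
      have h4 := classInner_comp_mulEquiv (normEquiv N (s : Γ) (hSN s.2)).symm
        (fun n : N => (ω : G → ℂ) ⟨n, hNG n.2⟩) θ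
      rw [← h2] at h4
      exact h4
    rw [h1, h3]
  have hstab : ∀ y : Y, ∀ ω ∈ O, y • ω ∈ O := by
    intro y ω hω
    have hle : Y ≤ I := by
      rw [hYdef]
      exact sup_le hGI hSI
    have hy : (y : Equiv.Perm (Cfsg.IrrCharacter G)) ∈ I := hle y.2
    exact ((hI _).mp hy ω).mp hω
  have hNfix : ∀ n ∈ (⊥ : Subgroup Y), ∀ ω ∈ O, n • ω = ω := by
    intro n hn ω _
    rw [Subgroup.mem_bot.mp hn, one_smul]
  have htrans : ∀ ω ∈ O, ∀ ω' ∈ O, ∃ g ∈ Gh.subgroupOf Y, g • ω = ω' := by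
    intro ω hω ω' hω'
    rw [hOdef] at hω hω'
    have hc1 : Cfsg.classInner (fun m : N.subgroupOf G => (ω : G → ℂ) m) (θ ∘ e) ≠ 0 := by
      rw [hres, classInner_comp_mulEquiv]
      exact hω
    have hc2 : Cfsg.classInner (fun m : N.subgroupOf G => (ω' : G → ℂ) m) (θ ∘ e) ≠ 0 := by
      rw [hres, classInner_comp_mulEquiv]
      exact hω'
    obtain ⟨μ, hμ1, hμ2⟩ := linear_transitive (N.subgroupOf G) hab ω.2 ω'.2 hθe hc1 hc2
    have hμKL : μ ∈ KL := (hKL μ).mpr hμ1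
    have hmem : fL μ ∈ Gh := by
      rw [hGh]
      exact Subgroup.mem_map_of_mem fL hμKL
    refine ⟨⟨fL μ, hGY hmem⟩, Subgroup.mem_subgroupOf.mpr hmem, ?_⟩
    apply Subtype.ext
    show ((fL μ ω : Cfsg.IrrCharacter G) : G → ℂ) = ω'
    rw [hfL, hμ2]
  obtain ⟨ω, hωO, hωS⟩ := glauberman_lemma (Gh.subgroupOf Y) ⊥ (Sh.subgroupOf Y) bot_le hGS'
    hcop' hsolv' O hO hstab hNfix htrans
  rw [hOdef] at hωO
  refine ⟨ω, ω.2, hωO, ?_⟩
  intro s hs g g' hgg'
  have hmem : fS ⟨s, hs⟩ ∈ Sh := by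
    rw [hSh]
    exact ⟨_, rfl⟩
  have h1 := hωS ⟨fS ⟨s, hs⟩, hSY hmem⟩ (Subgroup.mem_subgroupOf.mpr hmem)
  have h2 : (fS ⟨s, hs⟩ ω : Cfsg.IrrCharacter G) = ω := h1
  have h3 := congrFun (congrArg Subtype.val h2) g'
  rw [hfS] at h3
  rw [← h3]
  show (ω : G → ℂ) ((normEquiv G s (hSG hs)).symm g') = (ω : G → ℂ) g
  refine congrArg (ω : G → ℂ) (Subtype.ext ?_)
  show (s : Γ)⁻¹ * g' * s = g
  rw [hgg']
  simp [mul_assoc]

end abelian

section main

variable {Γ : Type u} [Group Γ] [Fintype Γ]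

theorem coprime_invariant_above_aux (G S : Subgroup Γ) [Fintype G]
    (hSG : S ≤ Subgroup.normalizer (G : Set Γ)) :
    ∀ (n : ℕ) (N : Subgroup Γ) [Fintype N] (hNG : N ≤ G) (hNn : (N.subgroupOf G).Normal)
      (hSN : S ≤ Subgroup.normalizer (N : Set Γ))
      (hder : derivedSeries G n ≤ N.subgroupOf G)
      (hcop : (N.relIndex G).Coprime (Nat.card S))
      (θ : N → ℂ) (hθ : Cfsg.IsIrrCharacter N θ)
      (hinv : ∀ s ∈ S, ∀ g g' : N, (g' : Γ) = s * g * s⁻¹ → θ g' = θ g),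
      ∃ χ : G → ℂ, Cfsg.IsIrrCharacter G χ ∧
        Cfsg.classInner (fun n : N => χ ⟨n, hNG n.2⟩) θ ≠ 0 ∧
        (∀ s ∈ S, ∀ g g' : G, (g' : Γ) = s * g * s⁻¹ → χ g' = χ g) := by
  classical
  intro n
  induction n with
  | zero =>
    intro N _ hNG hNn hSN hder hcop θ hθ hinv
    have hGN : G ≤ N := by
      intro g hg
      have h1 : (⟨g, hg⟩ : G) ∈ N.subgroupOf G :=
        hder (by rw [derivedSeries_zero]; exact Subgroup.mem_top _)
      exact Subgroup.mem_subgroupOf.mp h1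
    refine ⟨fun g => θ ⟨g, hGN g.2⟩, ?_, ?_, ?_⟩
    · obtain ⟨e, he⟩ : ∃ e : G ≃* N, ∀ g : G, e g = ⟨g, hGN g.2⟩ :=
        ⟨{ toFun := fun g => ⟨g, hGN g.2⟩
           invFun := fun n => ⟨n, hNG n.2⟩
           left_inv := fun g => rfl
           right_inv := fun n => rfl
           map_mul' := fun a b => rfl }, fun g => rfl⟩
      have h1 : (fun g : G => θ ⟨g, hGN g.2⟩) = θ ∘ e := by
        funext g
        show _ = θ (e g)
        rw [he]
      rw [h1]
      exact IsIrrCharacter.comp_mulEquiv hθ e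
    · have h1 : (fun n : N => θ ⟨((⟨n, hNG n.2⟩ : G) : Γ), hGN (⟨n, hNG n.2⟩ : G).2⟩) = θ := by
        funext n
        rfl
      rw [h1, classInner_irr_self hθ]
      exact one_ne_zero
    · intro s hs g g' h
      exact hinv s hs ⟨g, hGN g.2⟩ ⟨g', hGN g'.2⟩ h
  | succ n ih =>
    intro N _ hNG hNn hSN hder hcop θ hθ hinv
    haveI := hNn
    obtain ⟨D, hD⟩ : ∃ D : Subgroup G, D = derivedSeries G n := ⟨_, rfl⟩
    haveI hDn : D.Normal := by
      rw [hD]
      exact derivedSeries_normal G n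
    obtain ⟨M₁, hM₁⟩ : ∃ M₁ : Subgroup G, M₁ = D ⊔ N.subgroupOf G := ⟨_, rfl⟩
    haveI hM₁n : M₁.Normal := by
      rw [hM₁]
      infer_instance
    obtain ⟨M, hMdef⟩ : ∃ M : Subgroup Γ, M = M₁.map G.subtype := ⟨_, rfl⟩
    have hMG : M ≤ G := by
      rw [hMdef]
      exact Subgroup.map_subtype_le M₁
    have hMsub : M.subgroupOf G = M₁ := by
      rw [hMdef]
      ext x
      rw [Subgroup.mem_subgroupOf]
      constructor
      · rintro ⟨y, hy, hxy⟩
        have h1 : y = x := Subtype.ext hxy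
        rw [← h1]
        exact hy
      · intro hx
        exact ⟨x, hx, rfl⟩
    have hNM : N ≤ M := by
      intro x hx
      rw [hMdef]
      refine ⟨⟨x, hNG hx⟩, ?_, rfl⟩
      rw [SetLike.mem_coe, hM₁]
      exact (le_sup_right : N.subgroupOf G ≤ _) (Subgroup.mem_subgroupOf.mpr hx)
    have hSM : S ≤ Subgroup.normalizer (M : Set Γ) := by
      apply le_normalizer_of_conj_mem
      intro s hs m hm
      rw [hMdef] at hm ⊢
      obtain ⟨m₁, hm₁, rfl⟩ := hm
      refine ⟨normEquiv G s (hSG hs) m₁, ?_, rfl⟩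
      have hmap : M₁.map (normEquiv G s (hSG hs)).toMonoidHom ≤ M₁ := by
        rw [hM₁, Subgroup.map_sup]
        apply sup_le
        · refine le_trans ?_ le_sup_left
          rw [hD, map_derivedSeries_eq (f := (normEquiv G s (hSG hs)).toMonoidHom)
            (normEquiv G s (hSG hs)).surjective]
        · refine le_trans ?_ le_sup_right
          rintro _ ⟨x, hx, rfl⟩
          rw [Subgroup.mem_subgroupOf]
          show (s : Γ) * x * s⁻¹ ∈ N
          exact (Subgroup.mem_normalizer_iff.mp (hSN hs) _).mp (Subgroup.mem_subgroupOf.mp hx)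
      exact hmap (Subgroup.mem_map_of_mem _ hm₁)
    haveI : Fintype M := Fintype.ofFinite _
    haveI hNMn : (N.subgroupOf M).Normal :=
      (Subgroup.normal_subgroupOf_iff_le_normalizer hNM).mpr
        (hMG.trans ((Subgroup.normal_subgroupOf_iff_le_normalizer hNG).mp hNn))
    have habM : ∀ a b : M, a * b * a⁻¹ * b⁻¹ ∈ N.subgroupOf M := by
      have key : ∀ a ∈ M₁, ∀ b ∈ M₁, a * b * a⁻¹ * b⁻¹ ∈ N.subgroupOf G := by
        intro a ha b hb
        have hbot : ⁅D.map (QuotientGroup.mk' (N.subgroupOf G)),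
            D.map (QuotientGroup.mk' (N.subgroupOf G))⁆ = ⊥ := by
          rw [← Subgroup.map_commutator, eq_bot_iff]
          rintro _ ⟨x, hx, rfl⟩
          rw [Subgroup.mem_bot, QuotientGroup.mk'_apply, QuotientGroup.eq_one_iff]
          apply hder
          rw [derivedSeries_succ, ← hD]
          exact hx
        have hcent := Subgroup.commutator_eq_bot_iff_le_centralizer.mp hbot
        have hmapM : ∀ x ∈ M₁, QuotientGroup.mk' (N.subgroupOf G) x ∈
            D.map (QuotientGroup.mk' (N.subgroupOf G)) := by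
          intro x hx
          have h1 : M₁.map (QuotientGroup.mk' (N.subgroupOf G)) ≤
              D.map (QuotientGroup.mk' (N.subgroupOf G)) := by
            rw [hM₁, Subgroup.map_sup]
            apply sup_le le_rfl
            rintro _ ⟨y, hy, rfl⟩
            have h2 : QuotientGroup.mk' (N.subgroupOf G) y = 1 := by
              rw [QuotientGroup.mk'_apply, QuotientGroup.eq_one_iff]
              exact hy
            rw [h2]
            exact Subgroup.one_mem _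
          exact h1 (Subgroup.mem_map_of_mem _ hx)
        have hcomm := Subgroup.mem_centralizer_iff.mp (hcent (hmapM a ha)) _ (hmapM b hb)
        have h3 : QuotientGroup.mk' (N.subgroupOf G) (a * b * a⁻¹ * b⁻¹) = 1 := by
          rw [map_mul, map_mul, map_mul, map_inv, map_inv, ← hcomm, mul_inv_cancel_right,
            mul_inv_cancel]
        exact (QuotientGroup.eq_one_iff _).mp h3
      intro a b
      rw [Subgroup.mem_subgroupOf]
      have ha : (⟨a, hMG a.2⟩ : G) ∈ M₁ := by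
        rw [← hMsub, Subgroup.mem_subgroupOf]
        exact a.2
      have hb : (⟨b, hMG b.2⟩ : G) ∈ M₁ := by
        rw [← hMsub, Subgroup.mem_subgroupOf]
        exact b.2
      exact Subgroup.mem_subgroupOf.mp (key _ ha _ hb)
    have hrel := Subgroup.relIndex_mul_relIndex N M G hNM hMG
    have hcop1 : (N.relIndex M).Coprime (Nat.card S) :=
      Nat.Coprime.coprime_dvd_left (Dvd.intro _ hrel) hcop
    have hcop2 : (M.relIndex G).Coprime (Nat.card S) :=
      Nat.Coprime.coprime_dvd_left (Dvd.intro_left _ hrel) hcop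
    obtain ⟨φ, hφ, hφθ, hφinv⟩ := coprime_abelian_above M S N hSM hSN hNM habM hcop1 θ hθ hinv
    obtain ⟨χ, hχ, hχφ, hχinv⟩ := ih M hMG (by rw [hMsub]; exact hM₁n) hSM
      (by rw [hMsub, hM₁, ← hD]; exact le_sup_left) hcop2 φ hφ hφinv
    refine ⟨χ, hχ, ?_, hχinv⟩
    haveI : Fintype (N.subgroupOf M) := Fintype.ofFinite _
    obtain ⟨e, he⟩ : ∃ e : N.subgroupOf M ≃* N, ∀ m, ((e m : N) : Γ) = ((m : M) : Γ) :=
      ⟨Subgroup.subgroupOfEquivOfLe hNM, fun m => rfl⟩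
    have hχM : Cfsg.IsCharacter M (fun m : M => χ ⟨m, hMG m.2⟩) :=
      IsCharacter.comp (IsIrrCharacter.isCharacter hχ) (Subgroup.inclusion hMG)
    have hφe : Cfsg.classInner (fun m : N.subgroupOf M => φ m) (θ ∘ e) ≠ 0 := by
      have h1 : (fun m : N.subgroupOf M => φ m) = (fun n : N => φ ⟨n, hNM n.2⟩) ∘ e := by
        funext m
        show φ m = φ ⟨(e m : N), _⟩
        refine congrArg φ (Subtype.ext ?_)
        exact (he m).symm
      rw [h1, classInner_comp_mulEquiv]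
      exact hφθ
    have h3 := classInner_restrict_ne_zero (N.subgroupOf M) hχM hφ hχφ
      (IsIrrCharacter.comp_mulEquiv hθ e) hφe
    have h4 : (fun n : N.subgroupOf M => (fun m : M => χ ⟨m, hMG m.2⟩) n) =
        (fun n : N => χ ⟨n, hNG n.2⟩) ∘ e := by
      funext m
      show χ _ = χ _
      refine congrArg χ (Subtype.ext ?_)
      exact (he m).symm
    rw [h4, classInner_comp_mulEquiv] at h3
    exact h3

/-- Isaacs 13.28: with `G / N` solvable, an invariant irreducible character of `N` lies under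
an invariant irreducible character of `G`. -/
theorem coprime_invariant_above (G S N : Subgroup Γ) [Fintype G] [Fintype N]
    (hnorm : ∀ s ∈ S, ∀ g ∈ G, s * g * s⁻¹ ∈ G) (hNG : N ≤ G) [hNn : (N.subgroupOf G).Normal]
    (hNS : ∀ s ∈ S, ∀ n ∈ N, s * n * s⁻¹ ∈ N) (hcop : (N.relIndex G).Coprime (Nat.card S))
    (hsolv : Group.IsSolvable (G ⧸ N.subgroupOf G))
    (θ : N → ℂ) (hθ : Cfsg.IsIrrCharacter N θ)
    (hinv : ∀ s ∈ S, ∀ g g' : N, (g' : Γ) = s * g * s⁻¹ → θ g' = θ g) :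
    ∃ χ : G → ℂ, Cfsg.IsIrrCharacter G χ ∧
      Cfsg.classInner (fun n : N => χ ⟨n, hNG n.2⟩) θ ≠ 0 ∧
      (∀ s ∈ S, ∀ g g' : G, (g' : Γ) = s * g * s⁻¹ → χ g' = χ g) := by
  obtain ⟨n, hn⟩ := hsolv.solvable
  have hder : derivedSeries G n ≤ N.subgroupOf G := by
    intro x hx
    have h1 : QuotientGroup.mk' (N.subgroupOf G) x ∈ derivedSeries (G ⧸ N.subgroupOf G) n :=
      map_derivedSeries_le_derivedSeries (QuotientGroup.mk' (N.subgroupOf G)) n
        (Subgroup.mem_map_of_mem _ hx)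
    rw [hn, Subgroup.mem_bot, QuotientGroup.mk'_apply, QuotientGroup.eq_one_iff] at h1
    exact h1
  exact coprime_invariant_above_aux G S (le_normalizer_of_conj_mem G S hnorm) n N hNG hNn
    (le_normalizer_of_conj_mem N S hNS) hder hcop θ hθ hinv

end main

end Cfsg.Agent.Lib.Helper1
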