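import Cfsg.Agent.Lib.Helper1.CharDet

set_option autoImplicit false
set_option linter.unusedSectionVars false
set_option linter.unusedVariables false

/-!
# Extension of an invariant irreducible character over a cyclic quotient
-/

namespace Cfsg.Agent.Lib.Helper1

open Representation Module
open scoped ComplexConjugate

universe u v w

section homext

variable {G : Type u} [Group G] {U : Type w} [Group U]

/-- Iterating a conjugation relation. -/
theorem conj_zpow_rel (N : Subgroup G) [hN : N.Normal] (g : G) (φ : N →* U) (a : U)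
    (hconj : ∀ n : N, φ ⟨g * n * g⁻¹, hN.conj_mem n n.2 g⟩ = a * φ n * a⁻¹)
    (i : ℤ) (n : N) (h : g ^ i * n * g ^ (-i) ∈ N) :
    φ ⟨g ^ i * n * g ^ (-i), h⟩ = a ^ i * φ n * a ^ (-i) := by
  have hnat : ∀ (k : ℕ) (n : N) (h : g ^ k * n * (g ^ k)⁻¹ ∈ N),
      φ ⟨g ^ k * n * (g ^ k)⁻¹, h⟩ = a ^ k * φ n * (a ^ k)⁻¹ := by
    intro k
    induction k with
    | zero =>
      intro n h
      have h1 : (⟨g ^ 0 * n * (g ^ 0)⁻¹, h⟩ : N) = n := Subtype.ext (by simp)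
      rw [h1]
      simp
    | succ k ih =>
      intro n h
      have hk : g ^ k * n * (g ^ k)⁻¹ ∈ N := hN.conj_mem n n.2 (g ^ k)
      have h1 : (⟨g ^ (k + 1) * n * (g ^ (k + 1))⁻¹, h⟩ : N) =
          ⟨g * (⟨g ^ k * n * (g ^ k)⁻¹, hk⟩ : N) * g⁻¹, hN.conj_mem _ hk g⟩ :=
        Subtype.ext (by
          show g ^ (k + 1) * n * (g ^ (k + 1))⁻¹ = g * (g ^ k * n * (g ^ k)⁻¹) * g⁻¹
          rw [pow_succ']
          group)
      rw [h1, hconj, ih n hk]
      rw [pow_succ']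
      group
  rcases Int.eq_nat_or_neg i with ⟨k, rfl | rfl⟩
  · have h' : g ^ k * n * (g ^ k)⁻¹ ∈ N := hN.conj_mem n n.2 (g ^ k)
    have h1 : (⟨g ^ (k : ℤ) * n * g ^ (-(k : ℤ)), h⟩ : N) = ⟨g ^ k * n * (g ^ k)⁻¹, h'⟩ :=
      Subtype.ext (by simp)
    rw [h1, hnat k n h']
    simp
  · -- negative exponent
    let n' : N := ⟨g ^ (-(k : ℤ)) * n * g ^ (-(-(k : ℤ))), h⟩
    have h' : g ^ k * n' * (g ^ k)⁻¹ ∈ N := hN.conj_mem n' n'.2 (g ^ k)
    have h2 := hnat k n' h'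
    have h3 : (⟨g ^ k * n' * (g ^ k)⁻¹, h'⟩ : N) = n := Subtype.ext (by
      show g ^ k * (g ^ (-(k : ℤ)) * n * g ^ (-(-(k : ℤ)))) * (g ^ k)⁻¹ = n
      simp only [neg_neg, zpow_neg, zpow_natCast]
      group)
    rw [h3] at h2
    show φ n' = _
    rw [h2]
    simp only [neg_neg, zpow_neg, zpow_natCast]
    group

/-- Extension of a homomorphism from a normal subgroup `N` with `G = N⟨g⟩`. -/
theorem exists_hom_ext (N : Subgroup G) [hN : N.Normal] (g : G)
    (hgen : ∀ x : G, ∃ i : ℤ, x * g ^ (-i) ∈ N) (φ : N →* U) (a : U)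
    (hconj : ∀ n : N, φ ⟨g * n * g⁻¹, hN.conj_mem n n.2 g⟩ = a * φ n * a⁻¹)
    (hpow : ∀ (k : ℤ) (hk : g ^ k ∈ N), φ ⟨g ^ k, hk⟩ = a ^ k) :
    ∃ Φ : G →* U, (∀ n : N, Φ n = φ n) ∧ Φ g = a := by
  classical
  let e : G → ℤ := fun x => Classical.choose (hgen x)
  have he : ∀ x, x * g ^ (-(e x)) ∈ N := fun x => Classical.choose_spec (hgen x)
  let F : G → U := fun x => φ ⟨x * g ^ (-(e x)), he x⟩ * a ^ (e x)
  have hK : ∀ (x : G) (i : ℤ) (h : x * g ^ (-i) ∈ N), F x = φ ⟨x * g ^ (-i), h⟩ * a ^ i := by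
    intro x i h
    have hmem : g ^ (e x - i) ∈ N := by
      have h1 : g ^ (e x - i) = (x * g ^ (-(e x)))⁻¹ * (x * g ^ (-i)) := by
        rw [zpow_sub]
        group
      rw [h1]
      exact N.mul_mem (N.inv_mem (he x)) h
    have h2 : (⟨x * g ^ (-i), h⟩ : N) = ⟨x * g ^ (-(e x)), he x⟩ * ⟨g ^ (e x - i), hmem⟩ :=
      Subtype.ext (by
        show x * g ^ (-i) = x * g ^ (-(e x)) * g ^ (e x - i)
        rw [zpow_sub]
        group)
    rw [h2, map_mul, hpow _ hmem]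
    show φ ⟨x * g ^ (-(e x)), he x⟩ * a ^ (e x) = _
    rw [mul_assoc, ← zpow_add]
    congr 2
    ring
  have hmul : ∀ x y : G, F (x * y) = F x * F y := by
    intro x y
    have hc : g ^ (e x) * (⟨y * g ^ (-(e y)), he y⟩ : N) * g ^ (-(e x)) ∈ N := by
      have := hN.conj_mem _ (he y) (g ^ (e x))
      rw [zpow_neg (a := g) (n := e x)]
      exact this
    have hxy : x * y * g ^ (-(e x + e y)) ∈ N := by
      have h1 : x * y * g ^ (-(e x + e y)) =
          (x * g ^ (-(e x))) * (g ^ (e x) * (y * g ^ (-(e y))) * g ^ (-(e x))) := by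
        rw [neg_add, zpow_add]
        group
      rw [h1]
      exact N.mul_mem (he x) hc
    rw [hK (x * y) (e x + e y) hxy]
    have h2 : (⟨x * y * g ^ (-(e x + e y)), hxy⟩ : N) =
        ⟨x * g ^ (-(e x)), he x⟩ *
          ⟨g ^ (e x) * (⟨y * g ^ (-(e y)), he y⟩ : N) * g ^ (-(e x)), hc⟩ :=
      Subtype.ext (by
        show x * y * g ^ (-(e x + e y)) =
          (x * g ^ (-(e x))) * (g ^ (e x) * (y * g ^ (-(e y))) * g ^ (-(e x)))
        rw [neg_add, zpow_add]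
        group)
    rw [h2, map_mul, conj_zpow_rel N g φ a hconj (e x) _ hc]
    show _ = φ ⟨x * g ^ (-(e x)), he x⟩ * a ^ (e x) * (φ ⟨y * g ^ (-(e y)), he y⟩ * a ^ (e y))
    rw [zpow_add]
    group
  refine ⟨MonoidHom.mk' F hmul, fun n => ?_, ?_⟩
  · show F n = φ n
    have h0 : (n : G) * g ^ (-(0 : ℤ)) ∈ N := by simp
    rw [hK n 0 h0]
    have h1 : (⟨(n : G) * g ^ (-(0 : ℤ)), h0⟩ : N) = n := Subtype.ext (by simp)
    rw [h1]
    simp
  · show F g = a
    have h0 : g * g ^ (-(1 : ℤ)) ∈ N := by simp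
    rw [hK g 1 h0]
    have h1 : (⟨g * g ^ (-(1 : ℤ)), h0⟩ : N) = 1 := Subtype.ext (by simp)
    rw [h1]
    simp

end homext

section repext

variable {G : Type u} [Group G]

theorem isIrreducible_of_comp {H : Type w} [Group H] {V : Type v} [AddCommGroup V] [Module ℂ V]
    (f : H →* G) (Y : Representation ℂ G V) (ρ : Representation ℂ H V)
    (hρ : ∀ h : H, Y (f h) = ρ h) (hirr : ρ.IsIrreducible) : Y.IsIrreducible := by
  have hnt : Nontrivial (Subrepresentation Y) := by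
    refine ⟨⊥, ⊤, ?_⟩
    intro h0
    have h2 : (⊥ : Submodule ℂ V) = ⊤ := congrArg Subrepresentation.toSubmodule h0
    have h3 : (⊥ : Subrepresentation ρ) = ⊤ := Subrepresentation.toSubmodule_injective h2
    exact bot_ne_top h3
  refine { toNontrivial := hnt, eq_bot_or_eq_top := ?_ }
  intro W
  let W' : Subrepresentation ρ := ⟨W.toSubmodule, fun h v hv => by
    rw [← hρ h]
    exact W.apply_mem_toSubmodule (f h) hv⟩
  rcases hirr.eq_bot_or_eq_top W' with h | h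
  · left
    apply Subrepresentation.toSubmodule_injective
    have h' : W'.toSubmodule = (⊥ : Subrepresentation ρ).toSubmodule :=
      congrArg Subrepresentation.toSubmodule h
    exact h'
  · right
    apply Subrepresentation.toSubmodule_injective
    have h' : W'.toSubmodule = (⊤ : Subrepresentation ρ).toSubmodule :=
      congrArg Subrepresentation.toSubmodule h
    exact h'

/-- Scalars as central units of the endomorphism ring. -/
noncomputable def scalarUnit (V : Type v) [AddCommGroup V] [Module ℂ V] :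
    ℂˣ →* (Module.End ℂ V)ˣ :=
  Units.map ((algebraMap ℂ (Module.End ℂ V)) : ℂ →* Module.End ℂ V)

theorem scalarUnit_val (V : Type v) [AddCommGroup V] [Module ℂ V] (c : ℂˣ) :
    ((scalarUnit V c : (Module.End ℂ V)ˣ) : Module.End ℂ V) =
      ((c : ℂˣ) : ℂ) • (LinearMap.id : V →ₗ[ℂ] V) := by
  show algebraMap ℂ (Module.End ℂ V) (c : ℂ) = _
  rw [Module.algebraMap_end_eq_smul_id]

theorem scalarUnit_comm (V : Type v) [AddCommGroup V] [Module ℂ V] (c : ℂˣ)
    (u : (Module.End ℂ V)ˣ) : scalarUnit V c * u = u * scalarUnit V c := by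
  apply Units.ext
  rw [Units.val_mul, Units.val_mul]
  exact Algebra.commutes (c : ℂ) (u : Module.End ℂ V)

theorem exists_rep_ext [Finite G] (N : Subgroup G) [hN : N.Normal] (g : G)
    (hgen : ∀ x : G, ∃ i : ℤ, x * g ^ (-i) ∈ N)
    {V : Type v} [AddCommGroup V] [Module ℂ V] [FiniteDimensional ℂ V]
    (ρ : Representation ℂ N V) [hirr : ρ.IsIrreducible]
    (hinv : ∀ n : N, ρ.character ⟨g * n * g⁻¹, hN.conj_mem n n.2 g⟩ = ρ.character n) :
    ∃ Y : Representation ℂ G V, ∀ n : N, Y n = ρ n := by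
  classical
  have hfinN := Fintype.ofFinite N
  have hV := nontrivial_of_isIrreducible ρ
  let c : N →* N := (MulAut.conjNormal g : MulAut N).toMonoidHom
  have hc : ∀ n : N, c n = ⟨g * n * g⁻¹, hN.conj_mem n n.2 g⟩ := fun n => Subtype.ext (by
    show ((MulAut.conjNormal g : MulAut N) n : G) = g * n * g⁻¹
    rw [MulAut.conjNormal_apply])
  let σ : Representation ℂ N V := ρ.comp c
  have hσ : ρ.character = σ.character := by
    funext n
    show ρ.character n = ρ.character (c n)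
    rw [hc, hinv]
  obtain ⟨φe⟩ := equiv_of_char_eq ρ σ hσ
  let e : V ≃ₗ[ℂ] V := φe.toLinearEquiv
  have he : ∀ n : N, ρ (c n) = e.toLinearMap ∘ₗ ρ n ∘ₗ e.symm.toLinearMap := by
    intro n
    have h := φe.isIntertwining' n
    ext w
    have h3 := congrArg (fun F => F (e.symm w)) h
    simp only [LinearMap.comp_apply] at h3
    simp only [LinearMap.comp_apply, LinearEquiv.coe_coe]
    have h4 : φe.toLinearMap (e.symm w) = w := e.apply_symm_apply w
    rw [h4] at h3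
    exact h3.symm
  -- units
  let φ₀ : N →* (Module.End ℂ V)ˣ := MonoidHom.toHomUnits ρ
  have hφ₀ : ∀ n : N, ((φ₀ n : (Module.End ℂ V)ˣ) : Module.End ℂ V) = ρ n := fun n =>
    MonoidHom.coe_toHomUnits ρ n
  let A₀ : (Module.End ℂ V)ˣ := ⟨e.toLinearMap, e.symm.toLinearMap,
    by ext w; simp, by ext w; simp⟩
  have hconj₀ : ∀ n : N, φ₀ ⟨g * n * g⁻¹, hN.conj_mem n n.2 g⟩ = A₀ * φ₀ n * A₀⁻¹ := by
    intro n
    apply Units.ext
    rw [← hc, hφ₀, he]
    rfl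
  -- the order of g modulo N
  let m : ℕ := orderOf (QuotientGroup.mk g : G ⧸ N)
  have hm : 0 < m := orderOf_pos _
  have hgm : g ^ m ∈ N := by
    rw [← QuotientGroup.eq_one_iff, QuotientGroup.mk_pow]
    exact pow_orderOf_eq_one _
  let n₀ : N := ⟨g ^ m, hgm⟩
  have hdvd : ∀ k : ℤ, g ^ k ∈ N → (m : ℤ) ∣ k := by
    intro k hk
    rw [← QuotientGroup.eq_one_iff, QuotientGroup.mk_zpow] at hk
    exact orderOf_dvd_iff_zpow_eq_one.mpr hk
  -- B commutes with everything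
  let B : (Module.End ℂ V)ˣ := (φ₀ n₀)⁻¹ * A₀ ^ m
  have hB : ∀ n : N, B * φ₀ n = φ₀ n * B := by
    intro n
    have hmem : g ^ (m : ℤ) * n * g ^ (-(m : ℤ)) ∈ N := by
      have := hN.conj_mem n n.2 (g ^ (m : ℤ))
      rw [zpow_neg]
      exact this
    have h1 := conj_zpow_rel N g φ₀ A₀ hconj₀ (m : ℤ) n hmem
    have h2 : (⟨g ^ (m : ℤ) * n * g ^ (-(m : ℤ)), hmem⟩ : N) = n₀ * n * n₀⁻¹ :=
      Subtype.ext (by
        show g ^ (m : ℤ) * n * g ^ (-(m : ℤ)) = g ^ m * n * (g ^ m)⁻¹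
        simp)
    rw [h2, map_mul, map_mul, map_inv] at h1
    simp only [zpow_neg, zpow_natCast] at h1
    show (φ₀ n₀)⁻¹ * A₀ ^ m * φ₀ n = φ₀ n * ((φ₀ n₀)⁻¹ * A₀ ^ m)
    have h3 : A₀ ^ m * φ₀ n = φ₀ n₀ * φ₀ n * (φ₀ n₀)⁻¹ * A₀ ^ m := by
      rw [h1]
      group
    rw [mul_assoc, h3]
    group
  have hBscal : ∃ s : ℂˣ, B = scalarUnit V s := by
    have h1 := schur_scalar ρ (B : Module.End ℂ V) (fun n => by
      have h2 := congrArg (fun u : (Module.End ℂ V)ˣ => (u : Module.End ℂ V)) (hB n)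
      simp only [Units.val_mul, hφ₀] at h2
      exact h2)
    set s₀ : ℂ := LinearMap.trace ℂ V (B : Module.End ℂ V) / (Module.finrank ℂ V : ℂ) with hs₀
    have hs : s₀ ≠ 0 := by
      intro h0
      rw [h0, zero_smul] at h1
      have h2 : (B : Module.End ℂ V) * ((B⁻¹ : (Module.End ℂ V)ˣ) : Module.End ℂ V) = 1 :=
        B.mul_inv
      rw [h1, zero_mul] at h2
      exact zero_ne_one h2
    refine ⟨Units.mk0 s₀ hs, Units.ext ?_⟩
    rw [scalarUnit_val, h1]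
    rfl
  obtain ⟨s, hs⟩ := hBscal
  obtain ⟨t₀, ht₀⟩ := IsAlgClosed.exists_pow_nat_eq (s : ℂ) hm
  have ht₀' : t₀ ≠ 0 := by
    intro h0
    rw [h0, zero_pow hm.ne'] at ht₀
    exact s.ne_zero ht₀.symm
  let t : ℂˣ := Units.mk0 t₀ ht₀'
  have hts : t ^ m = s := Units.ext (by
    rw [Units.val_pow_eq_pow_val]
    exact ht₀)
  let A : (Module.End ℂ V)ˣ := (scalarUnit V t)⁻¹ * A₀
  have hzc : ∀ u : (Module.End ℂ V)ˣ, (scalarUnit V t)⁻¹ * u = u * (scalarUnit V t)⁻¹ := by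
    intro u
    have h1 := scalarUnit_comm V t u
    calc (scalarUnit V t)⁻¹ * u = (scalarUnit V t)⁻¹ * (u * scalarUnit V t) * (scalarUnit V t)⁻¹ := by
          group
      _ = (scalarUnit V t)⁻¹ * (scalarUnit V t * u) * (scalarUnit V t)⁻¹ := by rw [h1]
      _ = u * (scalarUnit V t)⁻¹ := by group
  have hAm : A ^ m = φ₀ n₀ := by
    have h1 : A ^ m = ((scalarUnit V t)⁻¹) ^ m * A₀ ^ m :=
      (show Commute (scalarUnit V t)⁻¹ A₀ from hzc A₀).mul_pow m
    have h2 : A₀ ^ m = φ₀ n₀ * B := by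
      show A₀ ^ m = φ₀ n₀ * ((φ₀ n₀)⁻¹ * A₀ ^ m)
      group
    rw [h1, h2, hs, inv_pow, ← map_pow, hts]
    rw [← scalarUnit_comm V s (φ₀ n₀)]
    group
  have hconj : ∀ n : N, φ₀ ⟨g * n * g⁻¹, hN.conj_mem n n.2 g⟩ = A * φ₀ n * A⁻¹ := by
    intro n
    rw [hconj₀]
    have h1 : A * φ₀ n * A⁻¹ = (scalarUnit V t)⁻¹ * (A₀ * φ₀ n * A₀⁻¹) * (scalarUnit V t) := by
      show (scalarUnit V t)⁻¹ * A₀ * φ₀ n * ((scalarUnit V t)⁻¹ * A₀)⁻¹ = _
      group
    rw [h1, hzc]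
    group
  have hpow : ∀ (k : ℤ) (hk : g ^ k ∈ N), φ₀ ⟨g ^ k, hk⟩ = A ^ k := by
    intro k hk
    obtain ⟨q, rfl⟩ := hdvd k hk
    have h1 : (⟨g ^ ((m : ℤ) * q), hk⟩ : N) = n₀ ^ q := Subtype.ext (by
      rw [Subgroup.coe_zpow]
      show g ^ ((m : ℤ) * q) = (g ^ m) ^ q
      rw [zpow_mul, zpow_natCast])
    rw [h1, map_zpow, ← hAm, zpow_mul, zpow_natCast]
  obtain ⟨Φ, hΦ, -⟩ := exists_hom_ext N g hgen φ₀ A hconj hpow
  refine ⟨(Units.coeHom (Module.End ℂ V)).comp Φ, fun n => ?_⟩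
  show ((Φ n : (Module.End ℂ V)ˣ) : Module.End ℂ V) = ρ n
  rw [hΦ, hφ₀]

/-- An invariant irreducible character of a normal subgroup with cyclic quotient extends. -/
theorem extend_of_cyclic [Finite G] (N : Subgroup G) [hN : N.Normal] (hcyc : IsCyclic (G ⧸ N))
    {ϑ : N → ℂ} (hϑ : Cfsg.IsIrrCharacter N ϑ)
    (hinv : ∀ (g : G) (n : N), ϑ ⟨g * n * g⁻¹, hN.conj_mem (n : G) n.2 g⟩ = ϑ n) :
    ∃ χ : G → ℂ, Cfsg.IsIrrCharacter G χ ∧ ∀ n : N, χ n = ϑ n := by
  obtain ⟨d, ρ, hρ, rfl⟩ := hϑ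
  obtain ⟨q, hq⟩ := hcyc.exists_generator
  obtain ⟨g, rfl⟩ := QuotientGroup.mk_surjective q
  have hgen : ∀ x : G, ∃ i : ℤ, x * g ^ (-i) ∈ N := by
    intro x
    obtain ⟨i, hi⟩ := Subgroup.mem_zpowers_iff.mp (hq (QuotientGroup.mk x))
    refine ⟨i, ?_⟩
    rw [← QuotientGroup.eq_one_iff, QuotientGroup.mk_mul, QuotientGroup.mk_zpow, ← hi]
    group
  obtain ⟨Y, hY⟩ := exists_rep_ext N g hgen ρ (fun n => hinv g n)
  have hYirr : Y.IsIrreducible := isIrreducible_of_comp N.subtype Y ρ hY hρ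
  refine ⟨Y.character, isIrrCharacter_character Y, fun n => ?_⟩
  rw [character_apply, character_apply, hY]

end repext

end Cfsg.Agent.Lib.Helper1
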