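import Mathlib

set_option autoImplicit false
set_option linter.unusedSectionVars false
set_option linter.unusedVariables false

namespace Cfsg.Agent.Lib.Helper1

universe u

section ringlemmas

variable {R : Type*} [Ring R] (p : ℕ) [hp : Fact p.Prime]

/-- `N(x) = Σ_{i : ZMod p} x^i`. -/
noncomputable def normSum (x : R) : R := ∑ i : ZMod p, x ^ i.val

theorem pow_val_add_one {x : R} (hx : x ^ p = 1) (i : ZMod p) :
    x ^ (i + 1).val = x ^ (i.val + 1) := by
  have h1 : (i + 1).val = (i.val + (1 : ZMod p).val) % p := ZMod.val_add i 1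
  haveI : Fact (1 < p) := ⟨hp.out.one_lt⟩
  have h2 : (1 : ZMod p).val = 1 := ZMod.val_one p
  rw [h1, h2, ← pow_eq_pow_mod _ hx]

theorem mul_normSum {x : R} (hx : x ^ p = 1) : x * normSum p x = normSum p x := by
  unfold normSum
  rw [Finset.mul_sum]
  rw [← Equiv.sum_comp (Equiv.addRight (1 : ZMod p)) (fun i => x ^ i.val)]
  refine Finset.sum_congr rfl (fun i _ => ?_)
  simp only [Equiv.coe_addRight]
  rw [pow_val_add_one p hx, pow_succ']

theorem pow_val_mul {x : R} (hx : x ^ p = 1) (c i : ZMod p) :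
    x ^ (c * i).val = x ^ (c.val * i.val) := by
  rw [ZMod.val_mul, ← pow_eq_pow_mod _ hx]

theorem normSum_identity {x y : R} (hxy : Commute y x) (hx : x ^ p = 1) :
    ∑ c : ZMod p, normSum p (y * x ^ c.val) + normSum p x =
      (p : R) + normSum p y * normSum p x := by
  unfold normSum
  have h1 : ∀ c i : ZMod p, (y * x ^ c.val) ^ i.val = y ^ i.val * x ^ (c * i).val := by
    intro c i
    rw [(hxy.pow_right c.val).mul_pow, ← pow_mul, pow_val_mul p hx]
  have h2 : ∑ c : ZMod p, ∑ i : ZMod p, (y * x ^ c.val) ^ i.val =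
      ∑ i : ZMod p, y ^ i.val * ∑ c : ZMod p, x ^ (c * i).val := by
    rw [Finset.sum_comm]
    refine Finset.sum_congr rfl (fun i _ => ?_)
    rw [Finset.mul_sum]
    exact Finset.sum_congr rfl (fun c _ => h1 c i)
  rw [h2]
  have h3 : ∀ i : ZMod p, i ≠ 0 → ∑ c : ZMod p, x ^ (c * i).val = ∑ c : ZMod p, x ^ c.val := by
    intro i hi
    exact Equiv.sum_comp (Equiv.mulRight₀ i hi) (fun c => x ^ c.val)
  have h4 : ∑ c : ZMod p, x ^ (c * (0 : ZMod p)).val = (p : R) := by
    simp [ZMod.card]
  rw [← Finset.add_sum_erase Finset.univ _ (Finset.mem_univ (0 : ZMod p))]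
  rw [ZMod.val_zero, pow_zero, one_mul, h4]
  have h5 : ∑ i ∈ Finset.univ.erase (0 : ZMod p), y ^ i.val * ∑ c : ZMod p, x ^ (c * i).val =
      ∑ i ∈ Finset.univ.erase (0 : ZMod p), y ^ i.val * ∑ c : ZMod p, x ^ c.val := by
    refine Finset.sum_congr rfl (fun i hi => ?_)
    rw [h3 i (Finset.ne_of_mem_erase hi)]
  rw [h5, ← Finset.sum_mul]
  have h6 : ∑ i ∈ Finset.univ.erase (0 : ZMod p), y ^ i.val = ∑ i : ZMod p, y ^ i.val - 1 := by
    rw [← Finset.add_sum_erase Finset.univ _ (Finset.mem_univ (0 : ZMod p)), ZMod.val_zero,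
      pow_zero]
    abel
  rw [h6, sub_mul, one_mul]
  abel

end ringlemmas

section fpf

theorem fpf_commuting_pair {A : Type*} [AddCommGroup A] (p : ℕ) [hp : Fact p.Prime]
    (Z W : AddMonoid.End A) (hZW : Commute W Z) (hZ : Z ^ p = 1) (hW : W ^ p = 1)
    (hfZ : ∀ a : A, Z a = a → a = 0)
    (hfW : ∀ (c : ℕ) (a : A), (W * Z ^ c) a = a → a = 0) :
    ∀ a : A, p • a = 0 := by
  have hN : ∀ g : AddMonoid.End A, g ^ p = 1 → (∀ a : A, g a = a → a = 0) →
      normSum p g = 0 := by
    intro g hg hf
    ext a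
    have h1 := mul_normSum p hg
    have h2 : g (normSum p g a) = normSum p g a := by
      have := congrArg (fun f : AddMonoid.End A => f a) h1
      exact this
    exact hf _ h2
  have hWZ : ∀ c : ℕ, (W * Z ^ c) ^ p = 1 := by
    intro c
    rw [(hZW.pow_right c).mul_pow, hW, ← pow_mul, mul_comm c p, pow_mul, hZ, one_pow, one_mul]
  have hid := normSum_identity p hZW hZ
  rw [hN Z hZ hfZ] at hid
  have h0 : ∑ c : ZMod p, normSum p (W * Z ^ c.val) = 0 :=
    Finset.sum_eq_zero (fun c _ => hN _ (hWZ c.val) (hfW c.val))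
  rw [h0, mul_zero, add_zero, add_zero] at hid
  intro a
  have h3 := congrArg (fun f : AddMonoid.End A => f a) hid
  simp only [AddMonoid.End.zero_apply, AddMonoid.End.natCast_apply] at h3
  exact h3.symm

theorem fpf_commuting_pair_mul {P : Type*} [Group P] {M : Type*} [CommGroup M]
    (φ : P →* MulAut M) (p : ℕ) [hp : Fact p.Prime] (z w : P) (hz : z ^ p = 1) (hw : w ^ p = 1)
    (hzw : w * z = z * w) (hfZ : ∀ m : M, φ z m = m → m = 1)
    (hfW : ∀ (c : ℕ) (m : M), φ (w * z ^ c) m = m → m = 1) :
    ∀ m : M, m ^ p = 1 := by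
  let Φ : P →* AddMonoid.End (Additive M) :=
    { toFun := fun g => MonoidHom.toAdditive (φ g).toMonoidHom
      map_one' := by
        rw [map_one]
        rfl
      map_mul' := by
        intro g h
        rw [map_mul]
        rfl }
  have hΦ : ∀ (g : P) (a : Additive M), Φ g a = Additive.ofMul (φ g a.toMul) := fun g a => rfl
  have key := fpf_commuting_pair (A := Additive M) p (Φ z) (Φ w)
    (by
      show Φ w * Φ z = Φ z * Φ w
      rw [← map_mul, ← map_mul, hzw])
    (by rw [← map_pow, hz, map_one])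
    (by rw [← map_pow, hw, map_one])
    (by
      intro a ha
      rw [hΦ] at ha
      have h1 : φ z a.toMul = a.toMul := congrArg Additive.toMul ha
      have h2 := hfZ _ h1
      exact congrArg Additive.ofMul h2)
    (by
      intro c a ha
      rw [← map_pow, ← map_mul, hΦ] at ha
      have h1 : φ (w * z ^ c) a.toMul = a.toMul := congrArg Additive.toMul ha
      have h2 := hfW c _ h1
      exact congrArg Additive.ofMul h2)
  intro m
  have h1 := key (Additive.ofMul m)
  have h2 : Additive.ofMul (m ^ p) = (0 : Additive M) := by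
    rw [ofMul_pow]; exact h1
  exact congrArg Additive.toMul h2

end fpf

section unique

variable {G : Type u} [Group G]

theorem unique_order_p_of_fpf [Finite G] (p : ℕ) [hp : Fact p.Prime]
    (S V : Subgroup G) (hS : IsPGroup p S) (hV1 : V ≠ ⊥)
    (hVc : ∀ a ∈ V, ∀ b ∈ V, a * b = b * a)
    (hVp : ∀ v ∈ V, v ^ p = 1 → v = 1)
    (hnorm : ∀ s ∈ S, ∀ v ∈ V, s * v * s⁻¹ ∈ V)
    (hfpf : ∀ s ∈ S, orderOf s = p → ∀ v ∈ V, s * v = v * s → v = 1) :
    ∀ a ∈ S, ∀ b ∈ S, orderOf a = p → orderOf b = p → b ∈ Subgroup.zpowers a := by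
  intro a ha b hb hoa hob
  by_contra hba
  have ha1 : a ≠ 1 := by
    intro h; rw [h, orderOf_one] at hoa; exact hp.out.one_lt.ne' hoa.symm
  -- a central element of order p
  haveI : Nontrivial S := ⟨⟨⟨a, ha⟩, 1, fun h => ha1 (congrArg Subtype.val h)⟩⟩
  haveI hcnt : Nontrivial (Subgroup.center S) := hS.center_nontrivial
  have hcp : IsPGroup p (Subgroup.center S) := hS.to_subgroup _
  have hpc : p ∣ Nat.card (Subgroup.center S) := by
    obtain ⟨n, hn⟩ := IsPGroup.iff_card.mp hcp
    rw [hn]
    have : n ≠ 0 := by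
      intro h0
      rw [h0, pow_zero] at hn
      have := (Nat.card_eq_one_iff_unique.mp hn).1
      exact not_subsingleton _ this
    exact dvd_pow_self p this
  obtain ⟨z₀, hz₀⟩ := exists_prime_orderOf_dvd_card' (G := Subgroup.center S) p hpc
  obtain ⟨z, hzdef⟩ : ∃ z : G, z = ((z₀ : S) : G) := ⟨_, rfl⟩
  have hzS : z ∈ S := by rw [hzdef]; exact (z₀ : S).2
  have hoz : orderOf z = p := by
    rw [hzdef, Subgroup.orderOf_coe, Subgroup.orderOf_coe]; exact hz₀
  have hzc : ∀ s ∈ S, s * z = z * s := by
    intro s hs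
    have h1 := Subgroup.mem_center_iff.mp z₀.2 ⟨s, hs⟩
    have h2 := congrArg Subtype.val h1
    rw [hzdef]; exact h2
  -- a second element w of order p outside ⟨z⟩
  obtain ⟨w, hwS, how, hwz⟩ : ∃ w ∈ S, orderOf w = p ∧ w ∉ Subgroup.zpowers z := by
    by_cases haz : a ∈ Subgroup.zpowers z
    · refine ⟨b, hb, hob, ?_⟩
      intro hbz
      apply hba
      have hle : Subgroup.zpowers a ≤ Subgroup.zpowers z := by
        rw [Subgroup.zpowers_le]; exact haz
      have hcard : Nat.card (Subgroup.zpowers z) ≤ Nat.card (Subgroup.zpowers a) := by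
        rw [Nat.card_zpowers, Nat.card_zpowers, hoa, hoz]
      have heq := Subgroup.eq_of_le_of_card_ge hle hcard
      rw [heq]; exact hbz
    · exact ⟨a, ha, hoa, haz⟩
  have hwzc : w * z = z * w := hzc w hwS
  -- the commutative group structure on `V`
  letI : CommGroup V :=
    { (inferInstance : Group V) with
      mul_comm := fun x y => Subtype.ext (hVc x x.2 y y.2) }
  let φ : S →* MulAut V :=
    { toFun := fun s =>
        { toFun := fun v => ⟨(s : G) * v * (s : G)⁻¹, hnorm s s.2 v v.2⟩
          invFun := fun v => ⟨(s : G)⁻¹ * v * (s : G), by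
            have := hnorm (s : G)⁻¹ (S.inv_mem s.2) v v.2
            simpa using this⟩
          left_inv := fun v => by apply Subtype.ext; simp [mul_assoc]
          right_inv := fun v => by apply Subtype.ext; simp [mul_assoc]
          map_mul' := fun v v' => by apply Subtype.ext; simp [mul_assoc] }
      map_one' := by
        ext v
        simp
      map_mul' := by
        intro s t
        ext v
        simp [mul_assoc] }
  have hφ : ∀ (s : S) (v : V), ((φ s v : V) : G) = (s : G) * v * (s : G)⁻¹ := fun s v => rfl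
  have key := fpf_commuting_pair_mul φ p (⟨z, hzS⟩ : S) (⟨w, hwS⟩ : S)
    (by apply Subtype.ext; simp only [Subgroup.coe_pow, Subgroup.coe_one]; rw [← hoz]; exact pow_orderOf_eq_one z)
    (by apply Subtype.ext; simp only [Subgroup.coe_pow, Subgroup.coe_one]; rw [← how]; exact pow_orderOf_eq_one w)
    (by apply Subtype.ext; exact hwzc)
    (by
      intro v hv
      have h1 : z * (v : G) * z⁻¹ = (v : G) := by
        have := congrArg Subtype.val hv
        rw [hφ] at this; exact this
      have h2 : z * (v : G) = (v : G) * z := by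
        calc z * (v : G) = z * (v : G) * z⁻¹ * z := by group
          _ = (v : G) * z := by rw [h1]
      exact Subtype.ext (hfpf z hzS hoz v v.2 h2))
    (by
      intro c v hv
      have h1 : (w * z ^ c) * (v : G) * (w * z ^ c)⁻¹ = (v : G) := by
        have := congrArg Subtype.val hv
        rw [hφ] at this
        simpa using this
      have h2 : (w * z ^ c) * (v : G) = (v : G) * (w * z ^ c) := by
        calc (w * z ^ c) * (v : G) = (w * z ^ c) * (v : G) * (w * z ^ c)⁻¹ * (w * z ^ c) := by
              group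
          _ = (v : G) * (w * z ^ c) := by rw [h1]
      have hg1 : w * z ^ c ≠ 1 := by
        intro h
        apply hwz
        have : w = (z ^ c)⁻¹ := eq_inv_of_mul_eq_one_left h
        rw [this]
        exact Subgroup.inv_mem _ (Subgroup.pow_mem _ (Subgroup.mem_zpowers z) c)
      have hgp : (w * z ^ c) ^ p = 1 := by
        have hc : Commute w (z ^ c) := (show Commute w z from hwzc).pow_right c
        rw [hc.mul_pow, ← how, pow_orderOf_eq_one, one_mul, ← pow_mul, mul_comm, pow_mul, how,
          ← hoz, pow_orderOf_eq_one, one_pow]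
      have hog : orderOf (w * z ^ c) = p := orderOf_eq_prime hgp hg1
      exact Subtype.ext (hfpf _ (S.mul_mem hwS (S.pow_mem hzS c)) hog v v.2 h2))
  apply hV1
  rw [Subgroup.eq_bot_iff_forall]
  intro v hv
  have h1 := key ⟨v, hv⟩
  have h2 : v ^ p = 1 := by
    have := congrArg Subtype.val h1
    simpa using this
  exact hVp v hv h2

end unique

end Cfsg.Agent.Lib.Helper1
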