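import Mathlib
import Cfsg.Agent.Lib.Helper1.FpfUnique
import Cfsg.Agent.Lib.Helper1.CharFrob
import Cfsg.Agent.Lib.Helper1.CharClifford3
import Cfsg.Agent.Lib.Helper1.CharMore
import Cfsg.Agent.Lib.Helper1.CharPRes
import Cfsg.Agent.Lib.Helper1.CharIto
import Cfsg.Agent.Lib.Helper1.CharPElem
import Cfsg.Agent.Lib.Helper1.CharFrobThm
import Cfsg.Agent.Lib.Helper9.Cores
import Cfsg.Agent.Lib.Lead.Cores
import Cfsg.Agent.Lib.Helper12.PSolvable
import Cfsg.Agent.Lib.Helper12.SylowBasic
import Cfsg.Agent.S3744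

set_option autoImplicit false
set_option linter.unusedSectionVars false
set_option linter.unusedVariables false
set_option linter.style.haveILetI false

namespace Cfsg.Agent.Lib.Helper1

open Representation Module
open scoped ComplexConjugate

universe u

section defzero

variable {G : Type u} [Group G] [Fintype G]

/-- If no element of prime order `l` fixes the irreducible constituent `θ` of `χ_N`, then
`χ(1)` has full `l`-part. -/
theorem full_part_of_stab (N : Subgroup G) [hN : N.Normal] [Fintype N] (l : ℕ)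
    [hl : Fact l.Prime]
    {χ : G → ℂ} (hχ : Cfsg.IsIrrCharacter G χ) {θ : N → ℂ} (hθ : Cfsg.IsIrrCharacter N θ)
    (hc : Cfsg.classInner (fun n : N => χ n) θ ≠ 0)
    (hstab : ∀ g : G, orderOf g = l → conjChar N θ g ≠ θ) :
    (Cfsg.charDegree χ).factorization l = (Nat.card G).factorization l := by
  classical
  have h1 := card_orbit_mul_card_stab N θ
  have h2 := clifford_degree N hχ hθ hc
  have h3 : ¬ l ∣ Nat.card (charStab N θ) := by
    intro hdvd
    obtain ⟨t, ht⟩ := exists_prime_orderOf_dvd_card' l hdvd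
    apply hstab (t : G)
    · rw [Subgroup.orderOf_coe]; exact ht
    · exact (mem_charStab N θ t).mp t.2
  obtain ⟨d, hd1, hd2, hd3⟩ := IsIrrCharacter.degree_dvd_card hχ
  obtain ⟨e, he⟩ := IsCharacter.classInner_irr_nat
    (IsCharacter.restrict (IsIrrCharacter.isCharacter hχ) N) hθ
  obtain ⟨t, ht0, ht⟩ := IsIrrCharacter.degree_pos hθ
  rw [charDegree_eq hd1]
  obtain ⟨o, ho⟩ : ∃ o : ℕ, o = (Finset.univ.image (fun g : G => conjChar N θ g)).card :=
    ⟨_, rfl⟩
  rw [← ho] at h1 h2
  have h4 : d = e * o * t := by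
    rw [hd1, he, ht] at h2
    exact_mod_cast h2
  have ho0 : o ≠ 0 := by
    intro h0; rw [h0, zero_mul] at h1; exact Nat.card_pos.ne' h1.symm
  have h5 : (Nat.card G).factorization l = o.factorization l := by
    rw [← h1, Nat.factorization_mul ho0 Nat.card_pos.ne', Finsupp.add_apply,
      Nat.factorization_eq_zero_of_not_dvd h3, add_zero]
  apply le_antisymm
  · exact (Nat.factorization_le_iff_dvd hd3.ne' Nat.card_pos.ne').mpr hd2 l
  · rw [h5]
    have : o ∣ d := ⟨e * t, by rw [h4]; ring⟩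
    exact (Nat.factorization_le_iff_dvd ho0 hd3.ne').mpr this l

open scoped Classical in
theorem exists_irr_not_fixed (α : G ≃* G) (g : G) (hg : ¬ IsConj (α g) g) :
    ∃ θ : Cfsg.IrrCharacter G, (θ : G → ℂ) ∘ α ≠ (θ : G → ℂ) := by
  by_contra hcon
  push Not at hcon
  have h1 := card_fixed_classes_eq_card_fixed_irr α
  have hirr : Fintype (Cfsg.IrrCharacter G) := irrFintype
  have h2 : Nat.card {χ : Cfsg.IrrCharacter G // (χ : G → ℂ) ∘ α = (χ : G → ℂ)} =
      Nat.card (Cfsg.IrrCharacter G) := Nat.card_congr (Equiv.subtypeUnivEquiv hcon)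
  have h3 : Nat.card {C : ConjClasses G // ConjClasses.map α.toMonoidHom C = C} <
      Nat.card (ConjClasses G) := by
    rw [Nat.card_eq_fintype_card, Nat.card_eq_fintype_card]
    apply Fintype.card_subtype_lt (x := ConjClasses.mk g)
    intro h
    apply hg
    exact ConjClasses.mk_eq_mk_iff_isConj.mp h
  rw [h1, h2, card_irr] at h3
  exact lt_irrefl _ h3

open scoped Classical in
theorem eq_one_of_fixed_of_classes (α : G ≃* G) (hfix : ∀ g : G, IsConj (α g) g → g = 1)
    (θ : G → ℂ) (hθ : Cfsg.IsIrrCharacter G θ) (hfixθ : θ ∘ α = θ) : θ = fun _ => 1 := by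
  have h1 := card_fixed_classes_eq_card_fixed_irr α
  have h2 : Nat.card {C : ConjClasses G // ConjClasses.map α.toMonoidHom C = C} = 1 := by
    rw [Nat.card_eq_one_iff_unique]
    have hall : ∀ C : ConjClasses G, ConjClasses.map α.toMonoidHom C = C → C = ConjClasses.mk 1 := by
      intro C hC
      obtain ⟨g, rfl⟩ := ConjClasses.mk_surjective C
      have : g = 1 := hfix g (ConjClasses.mk_eq_mk_iff_isConj.mp hC)
      rw [this]
    refine ⟨⟨?_⟩, ⟨⟨ConjClasses.mk 1, ?_⟩⟩⟩
    · rintro ⟨C, hC⟩ ⟨C', hC'⟩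
      apply Subtype.ext
      show C = C'
      rw [hall C hC, hall C' hC']
    · show ConjClasses.mk (α 1) = ConjClasses.mk 1
      rw [map_one]
  rw [h1, Nat.card_eq_one_iff_unique] at h2
  obtain ⟨hsub, -⟩ := h2
  have := hsub.elim (⟨⟨θ, hθ⟩, hfixθ⟩ : {χ : Cfsg.IrrCharacter G // (χ : G → ℂ) ∘ α = (χ : G → ℂ)})
    ⟨⟨fun _ => 1, isIrrCharacter_one⟩, rfl⟩
  exact congrArg Subtype.val (congrArg Subtype.val this)

end defzero

section grp

variable {X : Type*} [Group X] [Finite X]

theorem dvd_orderOf_of_pgroup (p : ℕ) [hp : Fact p.Prime] (H : Subgroup X) (hH : IsPGroup p H)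
    (n : X) (hn : n ∈ H) (hn1 : n ≠ 1) : p ∣ orderOf n := by
  obtain ⟨j, hj⟩ := hH ⟨n, hn⟩
  have h1 : orderOf n ∣ p ^ j :=
    orderOf_dvd_of_pow_eq_one (by simpa using congrArg Subtype.val hj)
  obtain ⟨i, hi, hi2⟩ := (Nat.dvd_prime_pow hp.out).mp h1
  cases i with
  | zero => exact absurd (orderOf_eq_one_iff.mp (by simpa using hi2)) hn1
  | succ i => rw [hi2]; exact dvd_pow_self p (Nat.succ_ne_zero i)

theorem no_comm_of_dvd (p q : ℕ) [hp : Fact p.Prime] [hq : Fact q.Prime]
    (hno : ∀ a b : X, orderOf a = p → orderOf b = q → a * b ≠ b * a)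
    (n w : X) (hpn : p ∣ orderOf n) (hqw : q ∣ orderOf w) : n * w ≠ w * n := by
  intro hcomm
  have h1 : orderOf (n ^ (orderOf n / p)) = p :=
    orderOf_pow_orderOf_div (orderOf_pos n).ne' hpn
  have h2 : orderOf (w ^ (orderOf w / q)) = q :=
    orderOf_pow_orderOf_div (orderOf_pos w).ne' hqw
  apply hno _ _ h1 h2
  exact (Commute.pow_pow (show Commute n w from hcomm) _ _).eq

theorem hno_quotient (p q : ℕ) [hp : Fact p.Prime] [hq : Fact q.Prime] (hpq : p ≠ q)
    (hno : ∀ a b : X, orderOf a = p → orderOf b = q → a * b ≠ b * a) (K : Subgroup X)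
    [K.Normal] :
    ∀ a b : X ⧸ K, orderOf a = p → orderOf b = q → a * b ≠ b * a := by
  intro a b ha hb hab
  obtain ⟨g, hg⟩ := QuotientGroup.mk_surjective (a * b)
  have h1 : orderOf (a * b) = p * q := by
    rw [Commute.orderOf_mul_eq_mul_orderOf_of_coprime hab, ha, hb]
    rw [ha, hb]
    exact (Nat.coprime_primes hp.out hq.out).mpr hpq
  have h2 : p * q ∣ orderOf g := by
    rw [← h1, ← hg]; exact orderOf_map_dvd (QuotientGroup.mk' K) g
  exact no_comm_of_dvd p q hno g g (dvd_of_mul_right_dvd h2) (dvd_of_mul_left_dvd h2) rfl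

theorem fixed_class_trivial (p q : ℕ) [hp : Fact p.Prime] [hq : Fact q.Prime] (hpq : p ≠ q)
    (hno : ∀ a b : X, orderOf a = p → orderOf b = q → a * b ≠ b * a)
    (N : Subgroup X) [N.Normal] (hN : IsPGroup p N) (y : X) (hy : orderOf y = q)
    (n k : X) (hn : n ∈ N) (hk : k ∈ N) (h : y * n * y⁻¹ = k * n * k⁻¹) : n = 1 := by
  by_contra hn1
  have hpn : p ∣ orderOf n := dvd_orderOf_of_pgroup p N hN n hn hn1
  have hqw : q ∣ orderOf (k⁻¹ * y) := by
    have h1 := orderOf_map_dvd (QuotientGroup.mk' N) (k⁻¹ * y)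
    have h2 : (QuotientGroup.mk' N) (k⁻¹ * y) = (QuotientGroup.mk' N) y := by
      have hk1 : (QuotientGroup.mk' N) k = 1 := (QuotientGroup.eq_one_iff k).mpr hk
      rw [map_mul, map_inv, hk1]; simp
    have h3 : orderOf ((QuotientGroup.mk' N) y) = q := by
      apply orderOf_eq_prime
      · rw [← map_pow, ← hy, pow_orderOf_eq_one, map_one]
      · intro h1'
        have hyN : y ∈ N := (QuotientGroup.eq_one_iff y).mp h1'
        have hy1 : y ≠ 1 := by
          intro h; rw [h, orderOf_one] at hy; exact hq.out.one_lt.ne' hy.symm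
        have := dvd_orderOf_of_pgroup p N hN y hyN hy1
        rw [hy] at this
        exact hpq ((Nat.prime_dvd_prime_iff_eq hp.out hq.out).mp this)
    rw [h2, h3] at h1; exact h1
  apply no_comm_of_dvd p q hno n (k⁻¹ * y) hpn hqw
  have h' : y * n = k * n * k⁻¹ * y := by rw [← h]; group
  have : k⁻¹ * y * n = n * (k⁻¹ * y) := by
    rw [mul_assoc, h']; group
  exact this.symm

end grp

section main

open Cfsg.Agent.Lib.Helper9 in
theorem defzero_psolv_aux {G : Type u} [Group G] [Finite G] (p q : ℕ) [hp : Fact p.Prime]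
    [hq : Fact q.Prime] (hpq : p ≠ q) (hpG : p ∣ Nat.card G)
    (hno : ∀ a b : G, orderOf a = p → orderOf b = q → a * b ≠ b * a)
    (hsolv : Cfsg.IsPSolvable p G) (K : Subgroup G) [hKn : K.Normal]
    (hKc : (Nat.card K).Coprime p) (hbot : Cfsg.pPrimeCore p (G ⧸ K) = ⊥) :
    (∃ χ : Cfsg.IrrCharacter G,
      (Cfsg.charDegree (χ : G → ℂ)).factorization p = (Nat.card G).factorization p) ∨
    (∃ χ : Cfsg.IrrCharacter G,
      (Cfsg.charDegree (χ : G → ℂ)).factorization q = (Nat.card G).factorization q) := by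
  classical
  have hfin : Fintype G := Fintype.ofFinite G
  have hpK : ¬ p ∣ Nat.card K := fun h =>
    (Nat.Prime.coprime_iff_not_dvd hp.out).mp hKc.symm h
  have hcard : Nat.card G = Nat.card (G ⧸ K) * Nat.card K :=
    Subgroup.card_eq_card_quotient_mul_card_subgroup K
  have hQs : Cfsg.IsPSolvable p (G ⧸ K) := Cfsg.Agent.S3744.isPSolvable_quotient hsolv K
  have htop : (⊤ : Subgroup (G ⧸ K)) ≠ ⊥ := by
    intro h
    have h1 : Nat.card (G ⧸ K) = 1 := by
      rw [← Subgroup.card_top (G := G ⧸ K), h]; exact Subgroup.card_bot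
    rw [h1, one_mul] at hcard
    exact hpK (hcard ▸ hpG)
  obtain ⟨D, hDn, -, hD1, hD⟩ := Cfsg.Agent.Lib.Helper12.PSolvable.exists_normal_le hQs ⊤ htop
  have hDp : IsPGroup p D := by
    rcases hD with h | h
    · exact h
    · exfalso
      have h1 := le_pPrimeCore hDn h
      rw [hbot] at h1
      exact hD1 (le_bot_iff.mp h1)
  have hnoQ := hno_quotient p q hpq hno K
  have hfQ : Fintype (G ⧸ K) := Fintype.ofFinite _
  have hfD : Fintype D := Fintype.ofFinite _
  have hfK : Fintype K := Fintype.ofFinite _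
  obtain ⟨d₀, hd₀D, hd₀1⟩ : ∃ d ∈ D, d ≠ 1 := by
    by_contra hcon; push Not at hcon
    exact hD1 ((Subgroup.eq_bot_iff_forall D).mpr hcon)
  by_cases hqK : q ∣ Nat.card K
  · -- Case I
    left
    have Q₁ : Sylow q K := (Sylow.nonempty (p := q) (G := K)).some
    obtain ⟨Qg, hQg⟩ : ∃ Qg : Subgroup G, Qg = (Q₁ : Subgroup K).map K.subtype := ⟨_, rfl⟩
    have hfr : Subgroup.normalizer (Qg : Set G) ⊔ K = ⊤ := by
      rw [hQg]; exact Sylow.normalizer_sup_eq_top Q₁
    obtain ⟨M, hM⟩ : ∃ M : Subgroup G, M = Subgroup.normalizer (Qg : Set G) := ⟨_, rfl⟩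
    rw [← hM] at hfr
    have h1 : Nat.card G ∣ Nat.card M * Nat.card K := by
      have := card_sup_dvd M K
      rw [hfr, Subgroup.card_top] at this; exact this
    have S₀ : Sylow p M := (Sylow.nonempty (p := p) (G := M)).some
    obtain ⟨S, hS⟩ : ∃ S : Subgroup G, S = (S₀ : Subgroup M).map M.subtype := ⟨_, rfl⟩
    have hSp : IsPGroup p S := by rw [hS]; exact S₀.isPGroup'.map _
    have hSM : S ≤ M := by rw [hS]; exact Subgroup.map_subtype_le _
    have hScard : Nat.card S = p ^ (Nat.card G).factorization p := by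
      have e1 : Nat.card S = Nat.card S₀ := by
        rw [hS]; exact Subgroup.card_map_of_injective (Subgroup.subtype_injective M)
      rw [e1, Sylow.card_eq_multiplicity]
      congr 1
      apply le_antisymm
      · exact (Nat.factorization_le_iff_dvd Nat.card_pos.ne' Nat.card_pos.ne').mpr
          (Subgroup.card_subgroup_dvd_card M) p
      · have h2 := (Nat.factorization_le_iff_dvd Nat.card_pos.ne'
          (mul_ne_zero Nat.card_pos.ne' Nat.card_pos.ne')).mpr h1 p
        rw [Nat.factorization_mul Nat.card_pos.ne' Nat.card_pos.ne', Finsupp.add_apply,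
          Nat.factorization_eq_zero_of_not_dvd hpK, add_zero] at h2
        exact h2
    obtain ⟨SS, hSS⟩ : ∃ SS : Sylow p G, (SS : Subgroup G) = S :=
      ⟨Sylow.ofCard S hScard, Sylow.coe_ofCard S hScard⟩
    have hQgq : IsPGroup q Qg := by rw [hQg]; exact Q₁.isPGroup'.map _
    have hQg1 : Qg ≠ ⊥ := by
      intro h
      have e1 : Nat.card Qg = Nat.card Q₁ := by
        rw [hQg]; exact Subgroup.card_map_of_injective (Subgroup.subtype_injective K)
      rw [h, Subgroup.card_bot, Sylow.card_eq_multiplicity] at e1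
      have hpos : 0 < (Nat.card K).factorization q :=
        hq.out.factorization_pos_of_dvd Nat.card_pos.ne' hqK
      have h2 : q ^ (Nat.card K).factorization q ≠ 1 := by
        intro h'
        rcases Nat.pow_eq_one.mp h' with h | h
        · exact hq.out.one_lt.ne' h
        · omega
      exact h2 e1.symm
    obtain ⟨V, hV⟩ : ∃ V : Subgroup G, V = Qg ⊓ Subgroup.centralizer (Qg : Set G) := ⟨_, rfl⟩
    have hVQ : V ≤ Qg := by rw [hV]; exact inf_le_left
    have hV1 : V ≠ ⊥ := by
      haveI : Nontrivial Qg := (Subgroup.nontrivial_iff_ne_bot Qg).mpr hQg1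
      haveI hcen := IsPGroup.center_nontrivial hQgq
      obtain ⟨z, hz1⟩ := exists_ne (1 : Subgroup.center Qg)
      intro hbotV
      have hzV : ((z : Qg) : G) ∈ V := by
        rw [hV, Subgroup.mem_inf]
        refine ⟨(z : Qg).2, ?_⟩
        rw [Subgroup.mem_centralizer_iff]
        intro h hh
        have := (Subgroup.mem_center_iff.mp z.2) ⟨h, hh⟩
        exact congrArg Subtype.val this
      rw [hbotV, Subgroup.mem_bot] at hzV
      apply hz1
      apply Subtype.ext; apply Subtype.ext; exact hzV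
    have hVc : ∀ a ∈ V, ∀ b ∈ V, a * b = b * a := by
      intro a ha b hb
      rw [hV, Subgroup.mem_inf] at ha hb
      exact (Subgroup.mem_centralizer_iff.mp hb.2) a ha.1
    have hVq : ∀ v ∈ V, v ≠ 1 → q ∣ orderOf v := fun v hv hv1 =>
      dvd_orderOf_of_pgroup q Qg hQgq v (hVQ hv) hv1
    have hVp : ∀ v ∈ V, v ^ p = 1 → v = 1 := by
      intro v hv hvp
      by_contra hv1
      have h1 := hVq v hv hv1
      have h2 := orderOf_dvd_of_pow_eq_one hvp
      exact hpq.symm ((Nat.prime_dvd_prime_iff_eq hq.out hp.out).mp (h1.trans h2))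
    have hnorm : ∀ s ∈ S, ∀ v ∈ V, s * v * s⁻¹ ∈ V := by
      intro s hs v hv
      have hsM : s ∈ Subgroup.normalizer (Qg : Set G) := by rw [← hM]; exact hSM hs
      rw [Subgroup.mem_normalizer_iff] at hsM
      rw [hV, Subgroup.mem_inf] at hv ⊢
      refine ⟨(hsM v).mp hv.1, ?_⟩
      rw [Subgroup.mem_centralizer_iff]
      intro h hh
      have h3 : s⁻¹ * h * s ∈ Qg := by
        rw [hsM (s⁻¹ * h * s)]
        have : s * (s⁻¹ * h * s) * s⁻¹ = h := by group
        rw [this]; exact hh
      have h4 := (Subgroup.mem_centralizer_iff.mp hv.2) _ h3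
      calc h * (s * v * s⁻¹) = s * (s⁻¹ * h * s * v) * s⁻¹ := by group
        _ = s * (v * (s⁻¹ * h * s)) * s⁻¹ := by rw [h4]
        _ = s * v * s⁻¹ * h := by group
    have hfpf : ∀ s ∈ S, orderOf s = p → ∀ v ∈ V, s * v = v * s → v = 1 := by
      intro s hs hso v hv hsv
      by_contra hv1
      exact no_comm_of_dvd p q hno s v (by rw [hso]) (hVq v hv hv1) hsv
    have hU := unique_order_p_of_fpf p S V hSp hV1 hVc hVp hnorm hfpf
    have hDS : D ≤ S.map (QuotientGroup.mk' K) := by
      have := Cfsg.Agent.Lib.Helper12.SylowBasic.normal_pgroup_le_sylow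
        (SS.mapSurjective (QuotientGroup.mk'_surjective K)) D hDp
      rw [Sylow.coe_mapSurjective, hSS] at this
      exact this
    have hSK : ∀ z ∈ S, z ∈ K → z = 1 := by
      intro z hzS hzK
      by_contra hz1
      have h1 := dvd_orderOf_of_pgroup p S hSp z hzS hz1
      have h2 := orderOf_dvd_natCard (⟨z, hzK⟩ : K)
      rw [Subgroup.orderOf_mk] at h2
      exact hpK (h1.trans h2)
    have hpd₀ := dvd_orderOf_of_pgroup p D hDp d₀ hd₀D hd₀1
    obtain ⟨d, hd⟩ : ∃ d : G ⧸ K, d = d₀ ^ (orderOf d₀ / p) := ⟨_, rfl⟩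
    have hdo : orderOf d = p := by
      rw [hd]; exact orderOf_pow_orderOf_div (orderOf_pos d₀).ne' hpd₀
    have hdD : d ∈ D := by rw [hd]; exact D.pow_mem hd₀D _
    obtain ⟨x₀, hx₀S, hx₀d⟩ := Subgroup.mem_map.mp (hDS hdD)
    have hx₀ : orderOf x₀ = p := by
      apply orderOf_eq_prime
      · apply hSK _ (S.pow_mem hx₀S p)
        rw [← QuotientGroup.eq_one_iff]
        have : ((x₀ ^ p : G) : G ⧸ K) = (QuotientGroup.mk' K x₀) ^ p := rfl
        rw [this, hx₀d, ← hdo, pow_orderOf_eq_one]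
      · intro h
        rw [h, map_one] at hx₀d
        rw [← hx₀d, orderOf_one] at hdo
        exact hp.out.one_lt.ne' hdo.symm
    obtain ⟨u, hu⟩ := exists_prime_orderOf_dvd_card' q hqK
    have hnotconj : ¬ IsConj (conjNormal K x₀ u) u := by
      intro h
      obtain ⟨c, hc⟩ := isConj_iff.mp h
      have hc' : (c : G) * (x₀ * (u : G) * x₀⁻¹) * (c : G)⁻¹ = (u : G) := by
        have := congrArg Subtype.val hc
        simpa [conjNormal] using this
      have hw : ((c : G) * x₀) * (u : G) = (u : G) * ((c : G) * x₀) := by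
        calc (c : G) * x₀ * (u : G)
            = ((c : G) * (x₀ * (u : G) * x₀⁻¹) * (c : G)⁻¹) * ((c : G) * x₀) := by group
          _ = (u : G) * ((c : G) * x₀) := by rw [hc']
      have hpw : p ∣ orderOf ((c : G) * x₀) := by
        have h1 := orderOf_map_dvd (QuotientGroup.mk' K) ((c : G) * x₀)
        have hc1 : (QuotientGroup.mk' K) (c : G) = 1 :=
          (QuotientGroup.eq_one_iff (c : G)).mpr c.2
        rw [map_mul, hc1, one_mul, hx₀d, hdo] at h1
        exact h1
      exact no_comm_of_dvd p q hno _ (u : G) hpw (by rw [Subgroup.orderOf_coe, hu]) hw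
    obtain ⟨⟨θ, hθ⟩, hθfix⟩ := exists_irr_not_fixed (conjNormal K x₀) u hnotconj
    obtain ⟨χ, hχ, hχθ⟩ := exists_irr_above K hθ
    have hstab : ∀ x : G, orderOf x = p → conjChar K θ x ≠ θ := by
      intro x hx hfix
      have hzp : IsPGroup p (Subgroup.zpowers x) := by
        apply IsPGroup.of_card (n := 1)
        rw [Nat.card_zpowers, hx, pow_one]
      obtain ⟨g, hg⟩ := Cfsg.Agent.Lib.Helper12.SylowBasic.exists_conj_le_sylow SS
        (Subgroup.zpowers x) hzp
      have hgS : g * x * g⁻¹ ∈ S := by rw [← hSS]; exact hg x (Subgroup.mem_zpowers x)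
      have hgo : orderOf (g * x * g⁻¹) = p := by
        have := MulEquiv.orderOf_eq (MulAut.conj g) x
        rw [MulAut.conj_apply] at this
        rw [this, hx]
      have h1 : g * x * g⁻¹ ∈ Subgroup.zpowers x₀ := hU x₀ hx₀S _ hgS hx₀ hgo
      have h2 : (QuotientGroup.mk' K) x ∈ D := by
        have h3 : (QuotientGroup.mk' K) (g * x * g⁻¹) ∈ D := by
          obtain ⟨j, hj⟩ := Subgroup.mem_zpowers_iff.mp h1
          rw [← hj, map_zpow, hx₀d]; exact D.zpow_mem hdD j
        have h4 := hDn.conj_mem _ h3 ((QuotientGroup.mk' K) g)⁻¹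
        have h5 : ((QuotientGroup.mk' K) g)⁻¹ * (QuotientGroup.mk' K) (g * x * g⁻¹) *
            ((QuotientGroup.mk' K) g)⁻¹⁻¹ = (QuotientGroup.mk' K) x := by
          rw [map_mul, map_mul, map_inv]; group
        rw [h5] at h4; exact h4
      obtain ⟨s', hs'S, hs'⟩ := Subgroup.mem_map.mp (hDS h2)
      have hk : s'⁻¹ * x ∈ K := by
        rw [← QuotientGroup.eq_one_iff]
        have : ((s'⁻¹ * x : G) : G ⧸ K) =
            ((QuotientGroup.mk' K) s')⁻¹ * (QuotientGroup.mk' K) x := rfl
        rw [this, hs']; group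
      have hxK : x ∉ K := by
        intro hxK
        have := orderOf_dvd_natCard (⟨x, hxK⟩ : K)
        rw [Subgroup.orderOf_mk, hx] at this; exact hpK this
      have hs'ord : orderOf s' = p := by
        apply orderOf_eq_prime
        · apply hSK _ (S.pow_mem hs'S p)
          rw [← QuotientGroup.eq_one_iff]
          have : ((s' ^ p : G) : G ⧸ K) = ((QuotientGroup.mk' K) s') ^ p := rfl
          rw [this, hs', ← map_pow, ← hx, pow_orderOf_eq_one, map_one]
        · intro h1'
          rw [h1'] at hk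
          apply hxK
          simpa using hk
      have hx₀s' : x₀ ∈ Subgroup.zpowers s' := hU s' hs'S x₀ hx₀S hs'ord hx₀
      have h5 : conjChar K θ s' = θ := by
        have h6 : conjChar K (conjChar K θ s') (s'⁻¹ * x) = conjChar K θ s' :=
          conjChar_of_mem K (IsIrrCharacter.isClassFunction (conjChar_irr K hθ s')) hk
        rw [conjChar_mul, mul_inv_cancel_left] at h6
        rw [← h6]; exact hfix
      have h7 : x₀ ∈ charStab K θ := by
        have : Subgroup.zpowers s' ≤ charStab K θ := by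
          rw [Subgroup.zpowers_le]; exact h5
        exact this hx₀s'
      apply hθfix
      rw [← conjChar_eq_comp]; exact h7
    have hfac := full_part_of_stab K p hχ hθ hχθ hstab
    exact ⟨⟨χ, hχ⟩, hfac⟩
  · -- Case II
    right
    have hθex : ∃ θ : Cfsg.IrrCharacter D, (θ : D → ℂ) ≠ fun _ => 1 := by
      by_contra hcon; push Not at hcon
      have := eq_one_of_forall_irr_eq (⟨d₀, hd₀D⟩ : D) (fun ψ => by rw [hcon ψ])
      exact hd₀1 (congrArg Subtype.val this)
    obtain ⟨⟨θ, hθ⟩, hθ1⟩ := hθex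
    obtain ⟨χ, hχ, hχθ⟩ := exists_irr_above D hθ
    have hstab : ∀ y : G ⧸ K, orderOf y = q → conjChar D θ y ≠ θ := by
      intro y hy hfix
      apply hθ1
      apply eq_one_of_fixed_of_classes (conjNormal D y) _ θ hθ
      · rw [← conjChar_eq_comp]; exact hfix
      · intro n hn
        obtain ⟨c, hc⟩ := isConj_iff.mp hn
        have hc' : (c : G ⧸ K) * (y * (n : G ⧸ K) * y⁻¹) * (c : G ⧸ K)⁻¹ = (n : G ⧸ K) := by
          have := congrArg Subtype.val hc
          simpa [conjNormal] using this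
        have hc2 : y * (n : G ⧸ K) * y⁻¹ =
            (c : G ⧸ K)⁻¹ * ((c : G ⧸ K) * (y * (n : G ⧸ K) * y⁻¹) * (c : G ⧸ K)⁻¹) *
              (c : G ⧸ K)⁻¹⁻¹ := by group
        rw [hc'] at hc2
        have h2 := fixed_class_trivial p q hpq hnoQ D hDp y hy (n : G ⧸ K)
          ((c : G ⧸ K)⁻¹) n.2 (D.inv_mem c.2) hc2
        exact Subtype.ext h2
    have hfac := full_part_of_stab D q hχ hθ hχθ hstab
    refine ⟨⟨fun g => χ (g : G ⧸ K), IsIrrCharacter.inflate K hχ⟩, ?_⟩
    show (Cfsg.charDegree (fun g : G => χ (g : G ⧸ K))).factorization q = _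
    have h1 : Cfsg.charDegree (fun g : G => χ (g : G ⧸ K)) = Cfsg.charDegree χ := rfl
    rw [h1, hfac, hcard, Nat.factorization_mul Nat.card_pos.ne' Nat.card_pos.ne',
      Finsupp.add_apply, Nat.factorization_eq_zero_of_not_dvd hqK, add_zero]

open Cfsg.Agent.Lib.Helper9 in
theorem defzero_psolv {G : Type u} [Group G] [Finite G] (p q : ℕ) [hp : Fact p.Prime]
    [hq : Fact q.Prime] (hpq : p ≠ q) (hpG : p ∣ Nat.card G)
    (hno : ∀ a b : G, orderOf a = p → orderOf b = q → a * b ≠ b * a)
    (hsolv : Cfsg.IsPSolvable p G) :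
    (∃ χ : Cfsg.IrrCharacter G,
      (Cfsg.charDegree (χ : G → ℂ)).factorization p = (Nat.card G).factorization p) ∨
    (∃ χ : Cfsg.IrrCharacter G,
      (Cfsg.charDegree (χ : G → ℂ)).factorization q = (Nat.card G).factorization q) := by
  haveI : (Cfsg.pPrimeCore p G).Normal := Cfsg.Agent.Lib.Lead.Cores.pPrimeCore_normal p
  exact defzero_psolv_aux p q hpq hpG hno hsolv (Cfsg.pPrimeCore p G) (pPrimeCore_coprime p G)
    (pPrimeCore_quotient_eq_bot p G)

end main

end Cfsg.Agent.Lib.Helper1
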