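import Mathlib
import Cfsg.Agent.Lib.Helper1.CharDefZero
import Cfsg.Agent.Lib.Helper19.ProdDer
import Cfsg.Agent.S0065

set_option autoImplicit false
set_option linter.unusedSectionVars false
set_option linter.unusedVariables false
set_option linter.style.haveILetI false

namespace Cfsg.Agent.Lib.Helper1

open Representation Module
open scoped ComplexConjugate
open scoped commutatorElement

universe u

section dl

/-- the number of irreducible characters of degree divisible by `p` -/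
noncomputable def npSing (p : ℕ) (X : Type*) [Group X] : ℕ :=
  Nat.card {χ : Cfsg.IrrCharacter X // p ∣ Cfsg.charDegree (χ : X → ℂ)}

noncomputable def inflMap {G : Type u} [Group G] [Finite G] (p : ℕ) (N : Subgroup G) [N.Normal] :
    {χ : Cfsg.IrrCharacter (G ⧸ N) // p ∣ Cfsg.charDegree (χ : G ⧸ N → ℂ)} →
      {χ : Cfsg.IrrCharacter G // p ∣ Cfsg.charDegree (χ : G → ℂ)} :=
  fun χ => ⟨⟨fun g => (χ.1 : G ⧸ N → ℂ) (g : G ⧸ N), by
      classical
      haveI := Fintype.ofFinite G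
      haveI := Fintype.ofFinite (G ⧸ N)
      exact IsIrrCharacter.inflate N χ.1.2⟩, χ.2⟩

theorem inflMap_injective {G : Type u} [Group G] [Finite G] (p : ℕ) (N : Subgroup G)
    [N.Normal] : Function.Injective (inflMap p N) := by
  intro a b hab
  apply Subtype.ext
  apply Subtype.ext
  funext q
  obtain ⟨g, rfl⟩ := QuotientGroup.mk_surjective q
  have h1 := congrArg Subtype.val (congrArg Subtype.val hab)
  exact congrFun h1 g

theorem npSing_quotient_le {G : Type u} [Group G] [Finite G] (p : ℕ) (N : Subgroup G)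
    [N.Normal] : npSing p (G ⧸ N) ≤ npSing p G := by
  classical
  haveI := Fintype.ofFinite G
  haveI : Fintype (Cfsg.IrrCharacter G) := irrFintype
  exact Nat.card_le_card_of_injective _ (inflMap_injective p N)

theorem npSing_quotient_lt {G : Type u} [Group G] [Finite G] (p : ℕ) (N : Subgroup G)
    [N.Normal] (χ : Cfsg.IrrCharacter G) (hχ : p ∣ Cfsg.charDegree (χ : G → ℂ)) (n : G)
    (hn : n ∈ N) (hne : (χ : G → ℂ) n ≠ (χ : G → ℂ) 1) : npSing p (G ⧸ N) < npSing p G := by
  classical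
  haveI := Fintype.ofFinite G
  haveI := Fintype.ofFinite (G ⧸ N)
  haveI : Fintype (Cfsg.IrrCharacter G) := irrFintype
  haveI : Fintype (Cfsg.IrrCharacter (G ⧸ N)) := irrFintype
  unfold npSing
  rw [Nat.card_eq_fintype_card, Nat.card_eq_fintype_card]
  apply Fintype.card_lt_of_injective_of_notMem (inflMap p N) (inflMap_injective p N)
    (b := ⟨χ, hχ⟩)
  rintro ⟨ψ, hψ⟩
  apply hne
  have h1 : (fun g : G => (ψ.1 : G ⧸ N → ℂ) (g : G ⧸ N)) = (χ : G → ℂ) :=
    congrArg Subtype.val (congrArg Subtype.val hψ)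
  have h2 : (χ : G → ℂ) n = (ψ.1 : G ⧸ N → ℂ) (n : G ⧸ N) := by rw [← h1]
  have h3 : (χ : G → ℂ) 1 = (ψ.1 : G ⧸ N → ℂ) ((1 : G) : G ⧸ N) := by rw [← h1]
  rw [h2, h3, (QuotientGroup.eq_one_iff n).mpr hn]
  rfl

theorem derived_mem_of_map_bot {G : Type u} [Group G] (H : Subgroup G) (N : Subgroup G)
    [N.Normal] (k : ℕ)
    (h : derivedSeries ↥(H.map (QuotientGroup.mk' N)) k = ⊥) :
    ∀ d ∈ derivedSeries ↥H k, (d : G) ∈ N := by
  intro d hd
  have hsurj := MonoidHom.subgroupMap_surjective (QuotientGroup.mk' N) H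
  have h1 := map_derivedSeries_eq hsurj k
  have h2 : ((QuotientGroup.mk' N).subgroupMap H) d ∈
      (derivedSeries ↥H k).map ((QuotientGroup.mk' N).subgroupMap H) :=
    Subgroup.mem_map_of_mem _ hd
  rw [h1, h, Subgroup.mem_bot] at h2
  have h3 := congrArg Subtype.val h2
  exact (QuotientGroup.eq_one_iff (d : G)).mp h3

theorem derived_succ_eq_bot_of_comm {G : Type u} [Group G] (H A : Subgroup G) (k : ℕ)
    (hA : ∀ a ∈ A, ∀ b ∈ A, a * b = b * a) (h : ∀ d ∈ derivedSeries ↥H k, (d : G) ∈ A) :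
    derivedSeries ↥H (k + 1) = ⊥ := by
  rw [derivedSeries_succ, Subgroup.commutator_eq_bot_iff_le_centralizer]
  intro d hd
  rw [Subgroup.mem_centralizer_iff]
  intro e he
  apply Subtype.ext
  exact hA _ (h e he) _ (h d hd)

theorem eq_one_of_ppow_of_mem_coprime {X : Type*} [Group X] (p : ℕ) [hp : Fact p.Prime]
    (K : Subgroup X) [Finite K] (hK : (Nat.card K).Coprime p) (x : X) (hx : x ∈ K) (j : ℕ)
    (hj : x ^ (p ^ j) = 1) : x = 1 := by
  have h1 : orderOf x ∣ p ^ j := orderOf_dvd_of_pow_eq_one hj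
  have h2 : orderOf x ∣ Nat.card K := by
    have := orderOf_dvd_natCard (⟨x, hx⟩ : K)
    rwa [Subgroup.orderOf_mk] at this
  have h3 : orderOf x ∣ Nat.gcd (p ^ j) (Nat.card K) := Nat.dvd_gcd h1 h2
  have h4 : Nat.gcd (p ^ j) (Nat.card K) = 1 := Nat.Coprime.pow_left j hK.symm
  rw [h4] at h3
  exact orderOf_eq_one_iff.mp (Nat.dvd_one.mp h3)

variable {G : Type u} [Group G] [Fintype G]

theorem irr_re_le {ψ : G → ℂ} (hψ : Cfsg.IsIrrCharacter G ψ) (z : G) :
    0 ≤ (ψ 1 - ψ z).re := by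
  obtain ⟨n, ρ, hρ, rfl⟩ := hψ
  rw [char_one, Complex.sub_re, Complex.natCast_re]
  have h1 := norm_char_le ρ z
  have h2 := Complex.re_le_norm (ρ.character z)
  linarith

theorem irr_eq_of_re {ψ : G → ℂ} (hψ : Cfsg.IsIrrCharacter G ψ) (z : G)
    (h : (ψ 1 - ψ z).re = 0) : ψ z = ψ 1 := by
  obtain ⟨n, ρ, hρ, rfl⟩ := hψ
  rw [char_one, Complex.sub_re, Complex.natCast_re] at h
  rw [char_one]
  have h1 := norm_char_le ρ z
  have h2 : (ρ.character z).re = (Module.finrank ℂ (Fin n → ℂ) : ℝ) := by linarith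
  have h3 : ‖ρ.character z‖ ^ 2 ≤ (Module.finrank ℂ (Fin n → ℂ) : ℝ) ^ 2 :=
    pow_le_pow_left₀ (norm_nonneg _) h1 2
  rw [Complex.sq_norm, Complex.normSq_apply, h2] at h3
  have h4 : (ρ.character z).im = 0 := by nlinarith [mul_self_nonneg (ρ.character z).im]
  apply Complex.ext
  · rw [h2, Complex.natCast_re]
  · rw [h4, Complex.natCast_im]

/-- a constituent of the restriction of a character having `z` in its kernel has `z` in its
kernel -/
theorem constituent_ker (N : Subgroup G) [hN : N.Normal] [Fintype N]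
    {χ : G → ℂ} (hχ : Cfsg.IsIrrCharacter G χ) {θ : N → ℂ} (hθ : Cfsg.IsIrrCharacter N θ)
    (hc : Cfsg.classInner (fun n : N => χ n) θ ≠ 0) (z : N) (hz : χ z = χ 1) : θ z = θ 1 := by
  classical
  have hcl := clifford N hχ hθ hc
  have hset : {ψ : N → ℂ | ∃ g : G, ψ = conjChar N θ g} =
      ((Finset.univ.image (fun g : G => conjChar N θ g) : Finset (N → ℂ)) : Set (N → ℂ)) := by
    ext ψ
    simp [eq_comm]
  rw [hset, finsum_mem_coe_finset] at hcl
  have h1 := congrFun hcl 1
  have hzz := congrFun hcl z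
  simp only [Pi.smul_apply, Finset.sum_apply, smul_eq_mul] at h1 hzz
  have hsum : ∑ ψ ∈ Finset.univ.image (fun g : G => conjChar N θ g), (ψ 1 - ψ z) = 0 := by
    rw [Finset.sum_sub_distrib]
    have h5 : Cfsg.classInner (fun n : N => χ n) θ *
          ∑ ψ ∈ Finset.univ.image (fun g : G => conjChar N θ g), ψ 1 =
        Cfsg.classInner (fun n : N => χ n) θ *
          ∑ ψ ∈ Finset.univ.image (fun g : G => conjChar N θ g), ψ z := by
      rw [← h1, ← hzz]; exact hz.symm
    rw [mul_left_cancel₀ hc h5, sub_self]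
  have hre : ∀ ψ ∈ Finset.univ.image (fun g : G => conjChar N θ g), 0 ≤ (ψ 1 - ψ z).re := by
    intro ψ hψ
    obtain ⟨g, -, rfl⟩ := Finset.mem_image.mp hψ
    exact irr_re_le (conjChar_irr N hθ g) z
  have hre0 := (Finset.sum_eq_zero_iff_of_nonneg hre).mp (by rw [← Complex.re_sum, hsum]; rfl)
  have hθO : θ ∈ Finset.univ.image (fun g : G => conjChar N θ g) :=
    Finset.mem_image.mpr ⟨1, Finset.mem_univ _, conjChar_one N θ⟩
  exact irr_eq_of_re hθ z (hre0 θ hθO)

theorem clifford_nat (N : Subgroup G) [hN : N.Normal] [Fintype N] [DecidableEq (N → ℂ)]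
    {χ : G → ℂ} (hχ : Cfsg.IsIrrCharacter G χ) {θ : N → ℂ} (hθ : Cfsg.IsIrrCharacter N θ)
    (hc : Cfsg.classInner (fun n : N => χ n) θ ≠ 0) :
    ∃ e t : ℕ, θ 1 = (t : ℂ) ∧ t ∣ Nat.card N ∧ Cfsg.charDegree χ =
      e * (Finset.univ.image (fun g : G => conjChar N θ g)).card * t := by
  have h2 := clifford_degree N hχ hθ hc
  obtain ⟨d, hd1, hd2, hd3⟩ := IsIrrCharacter.degree_dvd_card hχ
  obtain ⟨e, he⟩ := IsCharacter.classInner_irr_nat
    (IsCharacter.restrict (IsIrrCharacter.isCharacter hχ) N) hθ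
  obtain ⟨t, ht, ht2, ht0⟩ := IsIrrCharacter.degree_dvd_card hθ
  refine ⟨e, t, ht, ht2, ?_⟩
  rw [charDegree_eq hd1]
  rw [hd1, he, ht] at h2
  exact_mod_cast h2

/-- if all `p`-singular irreducible characters of `G` are trivial on `Z(R)`, `R` a normal
`p`-subgroup, then `R` is abelian -/
theorem pgroup_abelian_of_ker (p : ℕ) [hp : Fact p.Prime] (R : Subgroup G) [hRn : R.Normal]
    (hRp : IsPGroup p R)
    (h : ∀ χ : Cfsg.IrrCharacter G, p ∣ Cfsg.charDegree (χ : G → ℂ) →
      ∀ z ∈ R ⊓ Subgroup.centralizer (R : Set G), (χ : G → ℂ) z = (χ : G → ℂ) 1) :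
    ∀ a ∈ R, ∀ b ∈ R, a * b = b * a := by
  classical
  by_contra hcon
  push Not at hcon
  obtain ⟨a, ha, b, hb, hab⟩ := hcon
  haveI hfR : Fintype R := Fintype.ofFinite R
  haveI hnil : Group.IsNilpotent R := hRp.isNilpotent
  have hne : commutator R ≠ ⊥ := by
    intro hbot
    apply hab
    have h1 : ⁅(⟨a, ha⟩ : R), (⟨b, hb⟩ : R)⁆ ∈ commutator R :=
      Subgroup.commutator_mem_commutator (Subgroup.mem_top _) (Subgroup.mem_top _)
    rw [hbot, Subgroup.mem_bot, commutatorElement_eq_one_iff_mul_comm] at h1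
    exact congrArg Subtype.val h1
  have hne2 := Cfsg.Agent.S0065.normal_inf_center_ne_bot (commutator R) hne
  obtain ⟨z, hz, hz1⟩ : ∃ z ∈ commutator R ⊓ Subgroup.center R, z ≠ 1 := by
    by_contra hcon2
    push Not at hcon2
    exact hne2 ((Subgroup.eq_bot_iff_forall _).mpr hcon2)
  obtain ⟨hzc, hzZ⟩ := Subgroup.mem_inf.mp hz
  have hθex : ∃ θ : Cfsg.IrrCharacter R, (θ : R → ℂ) z ≠ (θ : R → ℂ) 1 := by
    by_contra hcon2
    push Not at hcon2
    exact hz1 (eq_one_of_forall_irr_eq z hcon2)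
  obtain ⟨⟨θ, hθ⟩, hθz⟩ := hθex
  obtain ⟨χ, hχ, hc⟩ := exists_irr_above R hθ
  obtain ⟨e, t, ht, ht2, hdeg⟩ := clifford_nat R hχ hθ hc
  have ht1 : t ≠ 1 := by
    intro h1
    rw [h1, Nat.cast_one] at ht
    obtain ⟨μ, hμ⟩ := IsIrrCharacter.exists_monoidHom hθ ht
    apply hθz
    have h2 : μ z = 1 := (Abelianization.commutator_subset_ker μ) hzc
    show θ z = θ 1
    rw [hμ z, hμ 1, h2, map_one]
  have hpt : p ∣ t := by
    obtain ⟨n, hn⟩ := (IsPGroup.iff_card).mp hRp
    rw [hn] at ht2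
    obtain ⟨i, -, hi⟩ := (Nat.dvd_prime_pow hp.out).mp ht2
    cases i with
    | zero => exact absurd (by simpa using hi) ht1
    | succ i => rw [hi]; exact dvd_pow_self p (Nat.succ_ne_zero i)
  have hpχ : p ∣ Cfsg.charDegree χ := by
    rw [hdeg]; exact Dvd.dvd.mul_left hpt _
  have hzZ' : (z : G) ∈ R ⊓ Subgroup.centralizer (R : Set G) := by
    refine Subgroup.mem_inf.mpr ⟨z.2, ?_⟩
    rw [Subgroup.mem_centralizer_iff]
    intro x hx
    have := (Subgroup.mem_center_iff.mp hzZ) ⟨x, hx⟩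
    exact congrArg Subtype.val this
  have h3 := h ⟨χ, hχ⟩ hpχ (z : G) hzZ'
  exact hθz (constituent_ker R hχ hθ hc z h3)

/-- the conjugation action of a subgroup on a conjugacy class of a normal subgroup it
stabilises -/
@[reducible] def classAction (M : Subgroup G) [hM : M.Normal] (Y : Subgroup G) (t : M)
    (h : ∀ y ∈ Y, ∀ c : M, IsConj t c → IsConj t (conjNormal M y c)) :
    MulAction Y {c : M // IsConj t c} where
  smul y c := ⟨conjNormal M (y : G) c.1, h y y.2 c.1 c.2⟩
  one_smul c := by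
    apply Subtype.ext
    apply Subtype.ext
    show ((1 : Y) : G) * (c.1 : G) * ((1 : Y) : G)⁻¹ = (c.1 : G)
    simp
  mul_smul y₁ y₂ c := by
    apply Subtype.ext
    apply Subtype.ext
    show ((y₁ * y₂ : Y) : G) * (c.1 : G) * ((y₁ * y₂ : Y) : G)⁻¹ =
      (y₁ : G) * ((y₂ : G) * (c.1 : G) * (y₂ : G)⁻¹) * (y₁ : G)⁻¹
    simp [mul_assoc]

theorem card_class_dvd {X : Type*} [Group X] [Finite X] (t : X) :
    Nat.card {c : X // IsConj t c} ∣ Nat.card X := by
  have e : {c : X // IsConj t c} ≃ MulAction.orbit (ConjAct X) t :=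
    Equiv.subtypeEquivRight (fun c => by
      rw [ConjAct.mem_orbit_conjAct]; exact ⟨IsConj.symm, IsConj.symm⟩)
  rw [Nat.card_congr e, Nat.card_congr (MulAction.orbitEquivQuotientStabilizer (ConjAct X) t)]
  exact Subgroup.index_dvd_card (MulAction.stabilizer (ConjAct X) t)

/-- a `p`-element stabilising every class of a normal `p'`-subgroup centralises it -/
theorem centralizes_of_class_preserving (p : ℕ) [hp : Fact p.Prime] (M : Subgroup G)
    [hM : M.Normal] (hMc : (Nat.card M).Coprime p) (s : G) (j : ℕ) (hs : s ^ (p ^ j) = 1)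
    (hcls : ∀ y ∈ Subgroup.zpowers s, ∀ m : M, IsConj (conjNormal M y m) m) :
    ∀ m ∈ M, s * m = m * s := by
  classical
  have hY : IsPGroup p (Subgroup.zpowers s) := by
    have : orderOf s ∣ p ^ j := orderOf_dvd_of_pow_eq_one hs
    obtain ⟨i, -, hi⟩ := (Nat.dvd_prime_pow hp.out).mp this
    apply IsPGroup.of_card (n := i)
    rw [Nat.card_zpowers, hi]
  have htop : (Subgroup.centralizer ({s} : Set G)).subgroupOf M = ⊤ := by
    apply Cfsg.Agent.Lib.Helper19.eq_top_of_conj_cover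
    intro t
    have hact : ∀ y ∈ Subgroup.zpowers s, ∀ c : M, IsConj t c → IsConj t (conjNormal M y c) :=
      fun y hy c hc => hc.trans (hcls y hy c).symm
    letI := classAction M (Subgroup.zpowers s) t hact
    have hnd : ¬ p ∣ Nat.card {c : M // IsConj t c} := by
      intro hdvd
      have h1 := hdvd.trans (card_class_dvd t)
      exact (Nat.Prime.coprime_iff_not_dvd hp.out).mp hMc.symm h1
    obtain ⟨c₀, hc₀⟩ := IsPGroup.nonempty_fixed_point_of_prime_not_dvd_card hY
      {c : M // IsConj t c} hnd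
    have h2 := hc₀ ⟨s, Subgroup.mem_zpowers s⟩
    have h3 : s * (c₀.1 : G) * s⁻¹ = (c₀.1 : G) :=
      congrArg Subtype.val (congrArg Subtype.val h2)
    obtain ⟨u, hu⟩ := isConj_iff.mp c₀.2
    refine ⟨u⁻¹, ?_⟩
    rw [inv_inv, hu, Subgroup.mem_subgroupOf, Subgroup.mem_centralizer_iff]
    intro x hx
    rw [Set.mem_singleton_iff] at hx
    rw [hx]
    calc s * (c₀.1 : G) = (s * (c₀.1 : G) * s⁻¹) * s := by group
      _ = (c₀.1 : G) * s := by rw [h3]
  intro m hm
  have h1 : (⟨m, hm⟩ : M) ∈ (Subgroup.centralizer ({s} : Set G)).subgroupOf M := by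
    rw [htop]; exact Subgroup.mem_top _
  rw [Subgroup.mem_subgroupOf, Subgroup.mem_centralizer_iff] at h1
  exact h1 s rfl

open Cfsg.Agent.Lib.Helper9 in
theorem exists_sing_nontrivial {G : Type u} [Group G] [Finite G] (p : ℕ) [hp : Fact p.Prime]
    (hG : Cfsg.IsPSolvable p G) (hOp : Cfsg.pCore p G = ⊥) (hpG : p ∣ Nat.card G)
    (M : Subgroup G) [hMn : M.Normal] (hMc : (Nat.card M).Coprime p)
    (hbot : Cfsg.pPrimeCore p (G ⧸ M) = ⊥) :
    ∃ χ : Cfsg.IrrCharacter G, p ∣ Cfsg.charDegree (χ : G → ℂ) ∧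
      ∃ m ∈ M, (χ : G → ℂ) m ≠ (χ : G → ℂ) 1 := by
  classical
  have hfin : Fintype G := Fintype.ofFinite G
  have hfM : Fintype M := Fintype.ofFinite M
  by_contra hcon
  push Not at hcon
  have hpM : ¬ p ∣ Nat.card M := (Nat.Prime.coprime_iff_not_dvd hp.out).mp hMc.symm
  have hcard : Nat.card G = Nat.card (G ⧸ M) * Nat.card M :=
    Subgroup.card_eq_card_quotient_mul_card_subgroup M
  have hQs : Cfsg.IsPSolvable p (G ⧸ M) := Cfsg.Agent.S3744.isPSolvable_quotient hG M
  have htop : (⊤ : Subgroup (G ⧸ M)) ≠ ⊥ := by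
    intro h
    have h1 : Nat.card (G ⧸ M) = 1 := by
      rw [← Subgroup.card_top (G := G ⧸ M), h]; exact Subgroup.card_bot
    rw [h1, one_mul] at hcard
    exact hpM (hcard ▸ hpG)
  obtain ⟨D, hDn, -, hD1, hD⟩ := Cfsg.Agent.Lib.Helper12.PSolvable.exists_normal_le hQs ⊤ htop
  have hDp : IsPGroup p D := by
    rcases hD with h | h
    · exact h
    · exfalso
      have h1 := le_pPrimeCore hDn h
      rw [hbot] at h1
      exact hD1 (le_bot_iff.mp h1)
  have hdecomp : ∀ (P' : Sylow p G) (l : G), (QuotientGroup.mk' M) l ∈ D →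
      ∃ x ∈ (P' : Subgroup G), x⁻¹ * l ∈ M := by
    intro P' l hl
    have h1 := Cfsg.Agent.Lib.Helper12.SylowBasic.normal_pgroup_le_sylow
      (P'.mapSurjective (QuotientGroup.mk'_surjective M)) D hDp
    rw [Sylow.coe_mapSurjective] at h1
    obtain ⟨x, hx, hxl⟩ := Subgroup.mem_map.mp (h1 hl)
    refine ⟨x, hx, ?_⟩
    rw [← QuotientGroup.eq_one_iff]
    have : ((x⁻¹ * l : G) : G ⧸ M) =
        ((QuotientGroup.mk' M) x)⁻¹ * (QuotientGroup.mk' M) l := rfl
    rw [this, hxl]; group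
  have hπeq : ∀ x y : G, x⁻¹ * y ∈ M → (QuotientGroup.mk' M) x = (QuotientGroup.mk' M) y := by
    intro x y hxm
    have h1 : (QuotientGroup.mk' M) (x⁻¹ * y) = 1 := (QuotientGroup.eq_one_iff _).mpr hxm
    rw [map_mul, map_inv] at h1
    exact inv_mul_eq_one.mp h1
  have hinv : ∀ (θ : M → ℂ), Cfsg.IsIrrCharacter M θ → ∀ l : G,
      (QuotientGroup.mk' M) l ∈ D → conjChar M θ l = θ := by
    intro θ hθ l hl
    obtain ⟨χ, hχ, hc⟩ := exists_irr_above M hθ
    by_cases hpχ : p ∣ Cfsg.charDegree χ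
    · have h1 := hcon ⟨χ, hχ⟩ hpχ
      funext m
      show θ ⟨l * m * l⁻¹, _⟩ = θ m
      rw [constituent_ker M hχ hθ hc _ (h1 _ (hMn.conj_mem m m.2 l)),
        constituent_ker M hχ hθ hc m (h1 m m.2)]
    · obtain ⟨e, t, ht, ht2, hdeg⟩ := clifford_nat M hχ hθ hc
      have h1 := card_orbit_mul_card_stab M θ
      have h2 := Subgroup.index_mul_card (charStab M θ)
      have h3 : (charStab M θ).index =
          (Finset.univ.image (fun g : G => conjChar M θ g)).card :=
        Nat.eq_of_mul_eq_mul_right Nat.card_pos (h2.trans h1.symm)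
      have hpo : ¬ p ∣ (charStab M θ).index := by
        intro hdvd
        apply hpχ
        rw [hdeg, ← h3]
        exact Dvd.dvd.mul_right (Dvd.dvd.mul_left hdvd e) t
      have Q₀ : Sylow p (charStab M θ) := (Sylow.nonempty (p := p) (G := charStab M θ)).some
      have hQi : ¬ p ∣ ((Q₀ : Subgroup (charStab M θ)).map (charStab M θ).subtype).index := by
        rw [Subgroup.index_map_subtype]
        intro hdvd
        rcases (Nat.Prime.dvd_mul hp.out).mp hdvd with h | h
        · exact Q₀.not_dvd_index h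
        · exact hpo h
      obtain ⟨P', hP'⟩ : ∃ P' : Sylow p G, (P' : Subgroup G) =
          (Q₀ : Subgroup (charStab M θ)).map (charStab M θ).subtype :=
        ⟨(Q₀.isPGroup'.map _).toSylow hQi, rfl⟩
      obtain ⟨x, hx, hxl⟩ := hdecomp P' l hl
      have hxT : x ∈ charStab M θ := by
        rw [hP'] at hx; exact Subgroup.map_subtype_le _ hx
      have hmT : x⁻¹ * l ∈ charStab M θ :=
        le_charStab M (IsIrrCharacter.isClassFunction hθ) hxl
      have hl' : l = x * (x⁻¹ * l) := by group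
      have hlT : l ∈ charStab M θ := by rw [hl']; exact Subgroup.mul_mem _ hxT hmT
      exact (mem_charStab M θ l).mp hlT
  have hcls : ∀ l : G, (QuotientGroup.mk' M) l ∈ D →
      ∀ m : M, IsConj (conjNormal M l m) m := by
    intro l hl m
    by_contra hnc
    obtain ⟨θ, hθ⟩ := exists_irr_not_fixed (conjNormal M l) m hnc
    apply hθ
    rw [← conjChar_eq_comp]
    exact hinv θ θ.2 l hl
  have hcent : ∀ s : G, (QuotientGroup.mk' M) s ∈ D → ∀ j : ℕ, s ^ (p ^ j) = 1 →
      ∀ m ∈ M, s * m = m * s := by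
    intro s hs j hj
    apply centralizes_of_class_preserving p M hMc s j hj
    intro y hy m
    apply hcls y _ m
    obtain ⟨i, rfl⟩ := Subgroup.mem_zpowers_iff.mp hy
    rw [map_zpow]; exact D.zpow_mem hs i
  have P₁ : Sylow p G := (Sylow.nonempty (p := p) (G := G)).some
  obtain ⟨S, hS⟩ : ∃ S : Subgroup G,
      S = (P₁ : Subgroup G) ⊓ D.comap (QuotientGroup.mk' M) := ⟨_, rfl⟩
  have hSmem : ∀ x, x ∈ S ↔ x ∈ (P₁ : Subgroup G) ∧ (QuotientGroup.mk' M) x ∈ D := by
    intro x; rw [hS, Subgroup.mem_inf, Subgroup.mem_comap]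
  have hpl : ∀ y : G, (QuotientGroup.mk' M) y ∈ D → ∀ j : ℕ, y ^ (p ^ j) = 1 → y ∈ S := by
    intro y hy j hj
    obtain ⟨x, hxP, hxm⟩ := hdecomp P₁ y hy
    have hπ := hπeq x y hxm
    have hxD : (QuotientGroup.mk' M) x ∈ D := by rw [hπ]; exact hy
    obtain ⟨a, ha⟩ := P₁.isPGroup' ⟨x, hxP⟩
    have ha' : x ^ (p ^ a) = 1 := by simpa using congrArg Subtype.val ha
    have hcomm : Commute x (x⁻¹ * y) := hcent x hxD a ha' _ hxm
    have hy' : y = x * (x⁻¹ * y) := by group
    have h1 : (x * (x⁻¹ * y)) ^ (p ^ (a + j)) = 1 := by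
      rw [← hy', pow_add, pow_mul', hj, one_pow]
    rw [hcomm.mul_pow] at h1
    have h2 : x ^ (p ^ (a + j)) = 1 := by rw [pow_add, pow_mul, ha', one_pow]
    rw [h2, one_mul] at h1
    have h3 := eq_one_of_ppow_of_mem_coprime p M hMc _ hxm (a + j) h1
    rw [hy', h3, mul_one]
    exact (hSmem x).mpr ⟨hxP, hxD⟩
  have hSn : S.Normal := by
    constructor
    intro x hx g
    obtain ⟨hxP, hxD⟩ := (hSmem x).mp hx
    obtain ⟨a, ha⟩ := P₁.isPGroup' ⟨x, hxP⟩
    have ha' : x ^ (p ^ a) = 1 := by simpa using congrArg Subtype.val ha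
    apply hpl _ _ a
    · rw [conj_pow, ha']; group
    · have := hDn.conj_mem _ hxD ((QuotientGroup.mk' M) g)
      rw [map_mul, map_mul, map_inv]; exact this
  have hSp : IsPGroup p S := by rw [hS]; exact P₁.isPGroup'.to_le inf_le_left
  have hS1 : S ≠ ⊥ := by
    obtain ⟨d, hdD, hd1⟩ : ∃ d ∈ D, d ≠ 1 := by
      by_contra h
      push Not at h
      exact hD1 ((Subgroup.eq_bot_iff_forall D).mpr h)
    obtain ⟨y, rfl⟩ := QuotientGroup.mk'_surjective M d
    obtain ⟨x, hxP, hxm⟩ := hdecomp P₁ y hdD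
    have hπ := hπeq x y hxm
    intro hbotS
    have hxS : x ∈ S := (hSmem x).mpr ⟨hxP, by rw [hπ]; exact hdD⟩
    rw [hbotS, Subgroup.mem_bot] at hxS
    apply hd1
    rw [← hπ, hxS, map_one]
  have := le_pCore hSn hSp
  rw [hOp] at this
  exact hS1 (le_bot_iff.mp this)

theorem dl_R2 {G : Type u} [Group G] [Finite G] (p : ℕ) [hp : Fact p.Prime] (P : Sylow p G)
    (N : Subgroup G) [N.Normal]
    (hIH : derivedSeries ↥((P : Subgroup G).map (QuotientGroup.mk' N))
      (npSing p (G ⧸ N) + 1) = ⊥)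
    (hlt : npSing p (G ⧸ N) < npSing p G)
    (hab : ∀ a ∈ N, a ∈ (P : Subgroup G) → ∀ b ∈ N, b ∈ (P : Subgroup G) → a * b = b * a) :
    derivedSeries ↥(P : Subgroup G) (npSing p G + 1) = ⊥ := by
  have h2 : derivedSeries ↥((P : Subgroup G).map (QuotientGroup.mk' N)) (npSing p G) = ⊥ := by
    have := derivedSeries_antitone (G := ↥((P : Subgroup G).map (QuotientGroup.mk' N)))
      (Nat.succ_le_of_lt hlt)
    rw [hIH] at this; exact le_bot_iff.mp this
  have h3 := derived_mem_of_map_bot (P : Subgroup G) N _ h2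
  exact derived_succ_eq_bot_of_comm (P : Subgroup G) (N ⊓ (P : Subgroup G)) _
    (fun a ha b hb => hab a ha.1 ha.2 b hb.1 hb.2) (fun d hd => ⟨h3 d hd, d.2⟩)

open Cfsg.Agent.Lib.Helper9 in
theorem dl_case2 {G : Type u} [Group G] [Finite G] (p : ℕ) [hp : Fact p.Prime]
    (hG : Cfsg.IsPSolvable p G) (P : Sylow p G)
    (IH : ∀ (N : Subgroup G) [N.Normal], N ≠ ⊥ →
      derivedSeries ↥((P : Subgroup G).map (QuotientGroup.mk' N)) (npSing p (G ⧸ N) + 1) = ⊥)
    (R : Subgroup G) [hRn : R.Normal] (hRp : IsPGroup p R) (hR1 : R ≠ ⊥)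
    (hbot : Cfsg.pCore p (G ⧸ R) = ⊥) :
    derivedSeries ↥(P : Subgroup G) (npSing p G + 1) = ⊥ := by
  classical
  have hfin : Fintype G := Fintype.ofFinite G
  obtain ⟨Z, hZ⟩ : ∃ Z : Subgroup G, Z = R ⊓ Subgroup.centralizer (R : Set G) := ⟨_, rfl⟩
  have hZn : Z.Normal := by
    rw [hZ]
    haveI : (Subgroup.centralizer (R : Set G)).Normal := Subgroup.normal_centralizer
    exact Subgroup.normal_inf_normal _ _
  have hZab : ∀ a ∈ Z, ∀ b ∈ Z, a * b = b * a := by
    intro a ha b hb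
    rw [hZ, Subgroup.mem_inf] at ha hb
    exact ((Subgroup.mem_centralizer_iff.mp ha.2) b hb.1).symm
  have hZ1 : Z ≠ ⊥ := by
    haveI : Nontrivial R := (Subgroup.nontrivial_iff_ne_bot R).mpr hR1
    haveI hcen := IsPGroup.center_nontrivial hRp
    obtain ⟨z, hz1⟩ := exists_ne (1 : Subgroup.center R)
    intro hbotZ
    have hzZ : ((z : R) : G) ∈ Z := by
      rw [hZ, Subgroup.mem_inf]
      refine ⟨(z : R).2, ?_⟩
      rw [Subgroup.mem_centralizer_iff]
      intro h hh
      have := (Subgroup.mem_center_iff.mp z.2) ⟨h, hh⟩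
      exact congrArg Subtype.val this
    rw [hbotZ, Subgroup.mem_bot] at hzZ
    apply hz1
    apply Subtype.ext; apply Subtype.ext; exact hzZ
  by_cases h2a : ∃ χ : Cfsg.IrrCharacter G, p ∣ Cfsg.charDegree (χ : G → ℂ) ∧
      ∃ z ∈ Z, (χ : G → ℂ) z ≠ (χ : G → ℂ) 1
  · obtain ⟨χ, hχp, z, hz, hne⟩ := h2a
    have hlt := npSing_quotient_lt p Z χ hχp z hz hne
    exact dl_R2 p P Z (IH Z hZ1) hlt (fun a ha _ b hb _ => hZab a ha b hb)
  · push Not at h2a
    have hRab := pgroup_abelian_of_ker p R hRp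
      (fun χ hχ z hz => h2a χ hχ z (by rw [hZ]; exact hz))
    by_cases hpQ : p ∣ Nat.card (G ⧸ R)
    · haveI hMn : (Cfsg.pPrimeCore p (G ⧸ R)).Normal :=
        Cfsg.Agent.Lib.Lead.Cores.pPrimeCore_normal p
      obtain ⟨χ', hχ'p, m', hm', hne'⟩ := exists_sing_nontrivial p
        (Cfsg.Agent.S3744.isPSolvable_quotient hG R) hbot hpQ (Cfsg.pPrimeCore p (G ⧸ R))
        (pPrimeCore_coprime p (G ⧸ R)) (pPrimeCore_quotient_eq_bot p (G ⧸ R))
      obtain ⟨M, hM⟩ : ∃ M : Subgroup G,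
          M = (Cfsg.pPrimeCore p (G ⧸ R)).comap (QuotientGroup.mk' R) := ⟨_, rfl⟩
      have hMn' : M.Normal := by rw [hM]; exact Subgroup.Normal.comap hMn _
      have hRM : R ≤ M := by
        intro r hr
        rw [hM, Subgroup.mem_comap]
        have : (QuotientGroup.mk' R) r = 1 := (QuotientGroup.eq_one_iff r).mpr hr
        rw [this]; exact Subgroup.one_mem _
      have hM1 : M ≠ ⊥ := fun h => hR1 (le_bot_iff.mp (h ▸ hRM))
      obtain ⟨m, rfl⟩ := QuotientGroup.mk'_surjective R m'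
      have hmM : m ∈ M := by rw [hM, Subgroup.mem_comap]; exact hm'
      have hlt := npSing_quotient_lt p M (inflMap p R ⟨χ', hχ'p⟩).1 (inflMap p R ⟨χ', hχ'p⟩).2
        m hmM hne'
      refine dl_R2 p P M (IH M hM1) hlt ?_
      have hMP : ∀ a ∈ M, a ∈ (P : Subgroup G) → a ∈ R := by
        intro a haM haP
        rw [hM, Subgroup.mem_comap] at haM
        obtain ⟨j, hj⟩ := P.isPGroup' ⟨a, haP⟩
        have hj' : a ^ (p ^ j) = 1 := by simpa using congrArg Subtype.val hj
        have h1 := eq_one_of_ppow_of_mem_coprime p (Cfsg.pPrimeCore p (G ⧸ R))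
          (pPrimeCore_coprime p (G ⧸ R)) _ haM j (by rw [← map_pow, hj', map_one])
        exact (QuotientGroup.eq_one_iff a).mp h1
      intro a haM haP b hbM hbP
      exact hRab a (hMP a haM haP) b (hMP b hbM hbP)
    · have hPR : ∀ x ∈ (P : Subgroup G), x ∈ R := by
        intro x hx
        obtain ⟨j, hj⟩ := P.isPGroup' ⟨x, hx⟩
        have hj' : x ^ (p ^ j) = 1 := by simpa using congrArg Subtype.val hj
        have hcop : (Nat.card (⊤ : Subgroup (G ⧸ R))).Coprime p := by
          rw [Subgroup.card_top, Nat.coprime_comm]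
          exact (Nat.Prime.coprime_iff_not_dvd hp.out).mpr hpQ
        have h1 := eq_one_of_ppow_of_mem_coprime p (⊤ : Subgroup (G ⧸ R)) hcop
          ((QuotientGroup.mk' R) x) (Subgroup.mem_top _) j (by rw [← map_pow, hj', map_one])
        exact (QuotientGroup.eq_one_iff x).mp h1
      have h1 := derived_succ_eq_bot_of_comm (P : Subgroup G) R 0 hRab (fun d _ => hPR d d.2)
      have h2 := derivedSeries_antitone (G := ↥(P : Subgroup G))
        (show 0 + 1 ≤ npSing p G + 1 by omega)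
      rw [h1] at h2; exact le_bot_iff.mp h2

open Cfsg.Agent.Lib.Helper9 in
theorem dl_main (p : ℕ) [hp : Fact p.Prime] : ∀ (k : ℕ) (G : Type u) [Group G] [Finite G],
    Nat.card G = k → Cfsg.IsPSolvable p G → ∀ P : Sylow p G,
      derivedSeries ↥(P : Subgroup G) (npSing p G + 1) = ⊥ := by
  intro k
  induction k using Nat.strong_induction_on with
  | _ k ih =>
    intro G _ _ hk hG P
    have IH : ∀ (N : Subgroup G) [N.Normal], N ≠ ⊥ →
        derivedSeries ↥((P : Subgroup G).map (QuotientGroup.mk' N))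
          (npSing p (G ⧸ N) + 1) = ⊥ := by
      intro N _ hN1
      have hlt : Nat.card (G ⧸ N) < k := by
        rw [← hk, Subgroup.card_eq_card_quotient_mul_card_subgroup N]
        have h1 : 1 < Nat.card N := (Subgroup.one_lt_card_iff_ne_bot N).mpr hN1
        have h2 : 0 < Nat.card (G ⧸ N) := Nat.card_pos
        nlinarith
      exact ih _ hlt (G ⧸ N) rfl (Cfsg.Agent.S3744.isPSolvable_quotient hG N)
        (P.mapSurjective (QuotientGroup.mk'_surjective N))
    by_cases hK : Cfsg.pPrimeCore p G = ⊥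
    · by_cases htriv : ∀ x ∈ (P : Subgroup G), x = 1
      · rw [eq_bot_iff]
        intro d _
        rw [Subgroup.mem_bot]
        exact Subtype.ext (htriv d d.2)
      · have htop : (⊤ : Subgroup G) ≠ ⊥ := by
          intro h
          apply htriv
          intro x _
          have : x ∈ (⊤ : Subgroup G) := Subgroup.mem_top x
          rw [h] at this; exact Subgroup.mem_bot.mp this
        obtain ⟨D, hDn, -, hD1, hD⟩ :=
          Cfsg.Agent.Lib.Helper12.PSolvable.exists_normal_le hG ⊤ htop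
        have hDp : IsPGroup p D := by
          rcases hD with h | h
          · exact h
          · exfalso
            have h1 := le_pPrimeCore hDn h
            rw [hK] at h1
            exact hD1 (le_bot_iff.mp h1)
        haveI hRn : (Cfsg.pCore p G).Normal := Cfsg.Agent.Lib.Lead.Cores.pCore_normal p
        have hR1 : Cfsg.pCore p G ≠ ⊥ := by
          intro h
          have := le_pCore hDn hDp
          rw [h] at this; exact hD1 (le_bot_iff.mp this)
        exact dl_case2 p hG P IH (Cfsg.pCore p G) (pCore_isPGroup p G) hR1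
          (pCore_quotient_eq_bot p G)
    · haveI hKn : (Cfsg.pPrimeCore p G).Normal := Cfsg.Agent.Lib.Lead.Cores.pPrimeCore_normal p
      have h1 := IH (Cfsg.pPrimeCore p G) hK
      have h2 : derivedSeries ↥((P : Subgroup G).map (QuotientGroup.mk' (Cfsg.pPrimeCore p G)))
          (npSing p G + 1) = ⊥ := by
        have := derivedSeries_antitone
          (G := ↥((P : Subgroup G).map (QuotientGroup.mk' (Cfsg.pPrimeCore p G))))
          (Nat.add_le_add_right (npSing_quotient_le p (Cfsg.pPrimeCore p G)) 1)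
        rw [h1] at this; exact le_bot_iff.mp this
      have h3 := derived_mem_of_map_bot (P : Subgroup G) (Cfsg.pPrimeCore p G) _ h2
      rw [eq_bot_iff]
      intro d hd
      rw [Subgroup.mem_bot]
      apply Subtype.ext
      obtain ⟨j, hj⟩ := P.isPGroup' d
      have hj' : (d : G) ^ (p ^ j) = 1 := by simpa using congrArg Subtype.val hj
      exact eq_one_of_ppow_of_mem_coprime p (Cfsg.pPrimeCore p G) (pPrimeCore_coprime p G) _
        (h3 d hd) j hj'

end dl

end Cfsg.Agent.Lib.Helper1
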