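import Cfsg.Agent.Lib.Helper1.CharTransfer
import Cfsg.Prelude.Def_CharExt

set_option autoImplicit false
set_option linter.unusedSectionVars false
set_option linter.unusedVariables false

/-!
# The determinantal character

`Cfsg.detChar χ` does not depend on the representation affording `χ`; basic calculus.
-/

namespace Cfsg.Agent.Lib.Helper1

open Representation Module
open scoped ComplexConjugate

universe u v w

section det

variable {G : Type u} [Group G]

theorem det_eq_of_equiv {V : Type v} {W : Type w} [AddCommGroup V] [Module ℂ V]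
    [AddCommGroup W] [Module ℂ W]
    {ρ : Representation ℂ G V} {σ : Representation ℂ G W} (φ : ρ.Equiv σ) (g : G) :
    LinearMap.det (ρ g) = LinearMap.det (σ g) := by
  have h := φ.isIntertwining' g
  have h2 : σ g = φ.toLinearEquiv.conj (ρ g) := by
    ext w
    have h3 := congrArg (fun F => F (φ.toLinearEquiv.symm w)) h
    simp only [LinearMap.comp_apply] at h3
    rw [LinearEquiv.conj_apply]
    simp only [LinearMap.comp_apply, LinearEquiv.coe_coe]
    have h4 : φ.toLinearMap (φ.toLinearEquiv.symm w) = w := φ.toLinearEquiv.apply_symm_apply w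
    rw [h4] at h3
    rw [← h3]
  rw [h2]
  exact (LinearMap.det_conj (ρ g) φ.toLinearEquiv).symm

theorem detChar_character [Finite G] {V : Type v} [AddCommGroup V] [Module ℂ V]
    [FiniteDimensional ℂ V] (ρ : Representation ℂ G V) :
    Cfsg.detChar ρ.character = fun g => LinearMap.det (ρ g) := by
  have h : Cfsg.IsCharacter G ρ.character := isCharacter_character ρ
  unfold Cfsg.detChar
  rw [dif_pos h]
  funext g
  have hspec := Classical.choose_spec (Classical.choose_spec h)
  obtain ⟨φ⟩ := equiv_of_char_eq (Classical.choose (Classical.choose_spec h)) ρ hspec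
  exact det_eq_of_equiv φ g

theorem detChar_hom [Finite G] {χ : G → ℂ} (h : Cfsg.IsCharacter G χ) :
    ∃ δ : G →* ℂˣ, ∀ g, Cfsg.detChar χ g = ((δ g : ℂˣ) : ℂ) := by
  obtain ⟨n, ρ, rfl⟩ := h
  rw [detChar_character]
  refine ⟨((LinearMap.det : ((Fin n → ℂ) →ₗ[ℂ] (Fin n → ℂ)) →* ℂ).comp ρ).toHomUnits, fun g => ?_⟩
  rw [MonoidHom.coe_toHomUnits]
  rfl

theorem detChar_comp [Finite G] {H : Type w} [Group H] [Finite H] {χ : G → ℂ}
    (h : Cfsg.IsCharacter G χ) (f : H →* G) :
    Cfsg.detChar (χ ∘ f) = Cfsg.detChar χ ∘ f := by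
  obtain ⟨n, ρ, rfl⟩ := h
  let σ : Representation ℂ H (Fin n → ℂ) := ρ.comp f
  have h1 : ρ.character ∘ f = σ.character := rfl
  rw [h1, detChar_character, detChar_character]
  rfl

theorem detChar_restrict [Finite G] {χ : G → ℂ} (h : Cfsg.IsCharacter G χ) (H : Subgroup G) :
    Cfsg.detChar (fun x : H => χ x) = fun x : H => Cfsg.detChar χ x :=
  detChar_comp h H.subtype

/-- Twisting a representation by a linear character. -/
noncomputable def twistRep {V : Type v} [AddCommGroup V] [Module ℂ V]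
    (ρ : Representation ℂ G V) (β : G →* ℂˣ) : Representation ℂ G V where
  toFun g := ((β g : ℂˣ) : ℂ) • ρ g
  map_one' := by simp
  map_mul' a b := by
    rw [map_mul, map_mul, Units.val_mul, smul_mul_smul_comm]

theorem twistRep_character {V : Type v} [AddCommGroup V] [Module ℂ V] [FiniteDimensional ℂ V]
    (ρ : Representation ℂ G V) (β : G →* ℂˣ) :
    (twistRep ρ β).character = fun g => ρ.character g * ((β g : ℂˣ) : ℂ) := by
  funext g
  rw [character_apply, character_apply]
  show LinearMap.trace ℂ V (((β g : ℂˣ) : ℂ) • ρ g) = _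
  rw [map_smul, smul_eq_mul, mul_comm]

theorem detChar_mul_linear [Finite G] {χ : G → ℂ} (h : Cfsg.IsCharacter G χ) (β : G →* ℂˣ)
    (d : ℕ) (hd : χ 1 = d) :
    Cfsg.detChar (fun g => χ g * ((β g : ℂˣ) : ℂ)) =
      fun g => Cfsg.detChar χ g * ((β g : ℂˣ) : ℂ) ^ d := by
  obtain ⟨n, ρ, rfl⟩ := h
  rw [char_one] at hd
  have hn : n = d := by
    have h1 : Module.finrank ℂ (Fin n → ℂ) = n := by simp
    rw [h1] at hd
    exact_mod_cast hd
  subst hn
  rw [← twistRep_character, detChar_character, detChar_character]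
  funext g
  show LinearMap.det (((β g : ℂˣ) : ℂ) • ρ g) = _
  rw [LinearMap.det_smul]
  simp [mul_comm]

theorem detChar_linear [Finite G] (β : G →* ℂˣ) :
    Cfsg.detChar (fun g => ((β g : ℂˣ) : ℂ)) = fun g => ((β g : ℂˣ) : ℂ) := by
  have h1 := detChar_character (linRep β)
  rw [linRep_character] at h1
  rw [h1]
  funext g
  show LinearMap.det (((β g : ℂˣ) : ℂ) • (LinearMap.id : ℂ →ₗ[ℂ] ℂ)) = _
  rw [LinearMap.det_smul]
  simp

theorem detChar_one_eq [Finite G] {χ : G → ℂ} (h : Cfsg.IsCharacter G χ) :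
    Cfsg.detChar χ 1 = 1 := by
  obtain ⟨δ, hδ⟩ := detChar_hom h
  rw [hδ, map_one, Units.val_one]

theorem detChar_isCharacter [Finite G] {χ : G → ℂ} (h : Cfsg.IsCharacter G χ) :
    Cfsg.IsCharacter G (Cfsg.detChar χ) := by
  obtain ⟨δ, hδ⟩ := detChar_hom h
  have h1 : Cfsg.detChar χ = fun g => ((δ g : ℂˣ) : ℂ) := funext hδ
  rw [h1]
  exact IsIrrCharacter.isCharacter (isIrrCharacter_of_monoidHom δ)

end det

end Cfsg.Agent.Lib.Helper1
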