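import Cfsg.Agent.Lib.Helper1.CharCoprime2
import Cfsg.Agent.Lib.Helper1.CharCyc
import Cfsg.Agent.Lib.Helper1.CharMisc

set_option autoImplicit false
set_option linter.unusedSectionVars false
set_option linter.unusedVariables false
set_option linter.style.haveILetI false

/-!
# Fully ramified characters: no self-centralizing cyclic subgroup in the quotient
-/

namespace Cfsg.Agent.Lib.Helper1

open Representation Module
open scoped ComplexConjugate

universe u

section orth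

variable {K : Type u} [Group K]

open scoped Classical in
/-- the linear characters of an abelian quotient, with the orthogonality relation -/
theorem exists_linear_chars_orth [Finite K] (M : Subgroup K) [M.Normal]
    (hab : ∀ a b : K, a * b * a⁻¹ * b⁻¹ ∈ M) :
    ∃ Λ : Finset (K →* ℂˣ), (1 : K →* ℂˣ) ∈ Λ ∧ (∀ μ ∈ Λ, ∀ m ∈ M, μ m = 1) ∧
      ∀ k : K, ∑ μ ∈ Λ, ((μ k : ℂˣ) : ℂ) = if k ∈ M then (M.index : ℂ) else 0 := by
  classical
  letI : CommGroup (K ⧸ M) :=
    { (inferInstance : Group (K ⧸ M)) with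
      mul_comm := by
        intro a b
        obtain ⟨a, rfl⟩ := QuotientGroup.mk_surjective a
        obtain ⟨b, rfl⟩ := QuotientGroup.mk_surjective b
        rw [← QuotientGroup.mk_mul, ← QuotientGroup.mk_mul, QuotientGroup.eq]
        have := hab b⁻¹ a⁻¹
        have h2 : (a * b)⁻¹ * (b * a) = b⁻¹ * a⁻¹ * b⁻¹⁻¹ * a⁻¹⁻¹ := by group
        rw [h2]
        exact this }
  haveI : NeZero (Monoid.exponent (K ⧸ M)) := ⟨Monoid.exponent_ne_zero_of_finite⟩
  have hcard := CommGroup.card_monoidHom_of_hasEnoughRootsOfUnity (K ⧸ M) ℂ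
  have hfin : Finite ((K ⧸ M) →* ℂˣ) := by
    apply Nat.finite_of_card_ne_zero
    rw [hcard]
    exact Nat.card_pos.ne'
  have := Fintype.ofFinite ((K ⧸ M) →* ℂˣ)
  have hinj : Function.Injective
      (fun ν : (K ⧸ M) →* ℂˣ => ν.comp (QuotientGroup.mk' M)) := by
    intro ν ν' h
    apply MonoidHom.ext
    intro q
    obtain ⟨k, rfl⟩ := QuotientGroup.mk_surjective q
    exact DFunLike.congr_fun h k
  refine ⟨Finset.univ.image (fun ν : (K ⧸ M) →* ℂˣ => ν.comp (QuotientGroup.mk' M)), ?_, ?_, ?_⟩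
  · exact Finset.mem_image.mpr ⟨1, Finset.mem_univ _, rfl⟩
  · intro μ hμ m hm
    obtain ⟨ν, -, rfl⟩ := Finset.mem_image.mp hμ
    simp only [MonoidHom.coe_comp, QuotientGroup.coe_mk', Function.comp_apply]
    rw [(QuotientGroup.eq_one_iff m).mpr hm, map_one]
  · intro k
    rw [Finset.sum_image (fun a _ b _ h => hinj h)]
    show ∑ ν : (K ⧸ M) →* ℂˣ, ((ν (k : K ⧸ M) : ℂˣ) : ℂ) = _
    by_cases hk : k ∈ M
    · rw [if_pos hk, (QuotientGroup.eq_one_iff k).mpr hk]
      simp only [map_one, Units.val_one, Finset.sum_const, Finset.card_univ, nsmul_eq_mul, mul_one]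
      rw [← Nat.card_eq_fintype_card, hcard, Subgroup.index_eq_card]
    · rw [if_neg hk]
      have hne : ((k : K ⧸ M)) ≠ 1 := by
        intro h
        exact hk ((QuotientGroup.eq_one_iff k).mp h)
      obtain ⟨ν₀, hν₀⟩ := CommGroup.exists_apply_ne_one_of_hasEnoughRootsOfUnity (K ⧸ M) ℂ hne
      have hsum : ∑ ν : (K ⧸ M) →* ℂˣ, ((ν (k : K ⧸ M) : ℂˣ) : ℂ) =
          ((ν₀ (k : K ⧸ M) : ℂˣ) : ℂ) * ∑ ν : (K ⧸ M) →* ℂˣ, ((ν (k : K ⧸ M) : ℂˣ) : ℂ) := by
        rw [Finset.mul_sum, ← Equiv.sum_comp (Equiv.mulLeft ν₀)]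
        refine Finset.sum_congr rfl (fun ν _ => ?_)
        simp [MonoidHom.mul_apply]
      have hne' : ((ν₀ (k : K ⧸ M) : ℂˣ) : ℂ) ≠ 1 := by
        intro h
        exact hν₀ (Units.ext h)
      have h3 : (1 - ((ν₀ (k : K ⧸ M) : ℂˣ) : ℂ)) *
          ∑ ν : (K ⧸ M) →* ℂˣ, ((ν (k : K ⧸ M) : ℂˣ) : ℂ) = 0 := by
        linear_combination hsum
      rcases mul_eq_zero.mp h3 with h | h
      · exact absurd (sub_eq_zero.mp h).symm hne'
      · exact h

theorem monoidHom_conj [Finite K] (μ : K →* ℂˣ) (c : K) :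
    conj ((μ c : ℂˣ) : ℂ) = ((μ c⁻¹ : ℂˣ) : ℂ) := by
  have h1 := monoidHom_conj_mul_self μ c
  have h2 : ((μ c⁻¹ : ℂˣ) : ℂ) * ((μ c : ℂˣ) : ℂ) = 1 := by
    rw [← Units.val_mul, ← map_mul, inv_mul_cancel, map_one, Units.val_one]
  have h3 : ((μ c : ℂˣ) : ℂ) ≠ 0 := Units.ne_zero _
  exact mul_right_cancel₀ h3 (h1.trans h2.symm)

variable [Fintype K]

open scoped Classical in
/-- a weighted sum over the linear characters picks out a coset -/
theorem ram_coset_eq (M : Subgroup K) [M.Normal] (Λ : Finset (K →* ℂˣ))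
    (hΛ : ∀ k : K, ∑ μ ∈ Λ, ((μ k : ℂˣ) : ℂ) = if k ∈ M then (M.index : ℂ) else 0)
    (ψ Φ : K → ℂ) (c : K) :
    ∑ μ ∈ Λ, conj ((μ c : ℂˣ) : ℂ) *
        Cfsg.classInner (fun k => ((μ k : ℂˣ) : ℂ) * ψ k) Φ =
      (Nat.card K : ℂ)⁻¹ * ((M.index : ℂ) *
        ∑ a : K, (if c⁻¹ * a ∈ M then ψ a * conj (Φ a) else 0)) := by
  classical
  have h1 : ∀ μ ∈ Λ, conj ((μ c : ℂˣ) : ℂ) *
      Cfsg.classInner (fun k => ((μ k : ℂˣ) : ℂ) * ψ k) Φ =
      (Nat.card K : ℂ)⁻¹ * ∑ g : K, ((μ (c⁻¹ * g) : ℂˣ) : ℂ) * (ψ g * conj (Φ g)) := by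
    intro μ _
    unfold Cfsg.classInner
    rw [mul_left_comm, Finset.mul_sum]
    congr 1
    refine Finset.sum_congr rfl (fun g _ => ?_)
    rw [monoidHom_conj, map_mul, Units.val_mul]
    ring
  rw [Finset.sum_congr rfl h1, ← Finset.mul_sum, Finset.sum_comm]
  congr 1
  rw [Finset.mul_sum]
  refine Finset.sum_congr rfl (fun g _ => ?_)
  rw [← Finset.sum_mul, hΛ]
  by_cases hg : c⁻¹ * g ∈ M
  · rw [if_pos hg, if_pos hg]
  · rw [if_neg hg, if_neg hg, zero_mul, mul_zero]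

open scoped Classical in
theorem ram_coset_zero (M : Subgroup K) [M.Normal]
    (hab : ∀ a b : K, a * b * a⁻¹ * b⁻¹ ∈ M) (ψ Φ : K → ℂ)
    (hΦ : ∀ μ : K →* ℂˣ, (∀ m ∈ M, μ m = 1) →
      Cfsg.classInner (fun k => ((μ k : ℂˣ) : ℂ) * ψ k) Φ = 0) (c : K) :
    ∑ a : K, (if c⁻¹ * a ∈ M then ψ a * conj (Φ a) else 0) = 0 := by
  classical
  obtain ⟨Λ, -, hΛM, hΛ⟩ := exists_linear_chars_orth M hab
  have h1 := ram_coset_eq M Λ hΛ ψ Φ c
  have h2 : ∑ μ ∈ Λ, conj ((μ c : ℂˣ) : ℂ) *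
      Cfsg.classInner (fun k => ((μ k : ℂˣ) : ℂ) * ψ k) Φ = 0 := by
    apply Finset.sum_eq_zero
    intro μ hμ
    rw [hΦ μ (hΛM μ hμ), mul_zero]
  rw [h2] at h1
  have hK : (Nat.card K : ℂ)⁻¹ ≠ 0 := by
    apply inv_ne_zero
    have := Nat.card_pos (α := K)
    exact_mod_cast this.ne'
  have hidx : (M.index : ℂ) ≠ 0 := by
    have : M.index ≠ 0 := Subgroup.index_ne_zero_of_finite
    exact_mod_cast this
  rcases mul_eq_zero.mp h1.symm with h | h
  · exact absurd h hK
  · rcases mul_eq_zero.mp h with h | h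
    · exact absurd h hidx
    · exact h

open scoped Classical in
theorem ram_coset_norm (M : Subgroup K) [M.Normal] [Fintype M]
    (hab : ∀ a b : K, a * b * a⁻¹ * b⁻¹ ∈ M) {ψ : K → ℂ} (hψ : Cfsg.IsIrrCharacter K ψ)
    (hres : Cfsg.IsIrrCharacter M (fun m : M => ψ m)) (c : K) :
    ∑ a : K, (if c⁻¹ * a ∈ M then ψ a * conj (ψ a) else 0) = (Nat.card M : ℂ) := by
  classical
  obtain ⟨Λ, hΛ1, hΛM, hΛ⟩ := exists_linear_chars_orth M hab
  have hK : (Nat.card K : ℂ) ≠ 0 := by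
    have := Nat.card_pos (α := K)
    exact_mod_cast this.ne'
  have hM0 : (Nat.card M : ℂ) ≠ 0 := by
    have := Nat.card_pos (α := M)
    exact_mod_cast this.ne'
  have hidx : (Nat.card K : ℂ) = (M.index : ℂ) * (Nat.card M : ℂ) := by
    rw [← Nat.cast_mul, Subgroup.index_mul_card]
  have hirr : ∀ μ : K →* ℂˣ, Cfsg.IsIrrCharacter K (fun k => ((μ k : ℂˣ) : ℂ) * ψ k) :=
    fun μ => IsIrrCharacter.mul_linear hψ μ
  -- the twists by elements of `Λ` are distinct
  have hsum1 : ∑ μ ∈ Λ, Cfsg.classInner (fun k => ((μ k : ℂˣ) : ℂ) * ψ k) ψ = 1 := by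
    have h1 := ram_coset_eq M Λ hΛ ψ ψ 1
    have h2 : ∑ μ ∈ Λ, conj ((μ 1 : ℂˣ) : ℂ) *
        Cfsg.classInner (fun k => ((μ k : ℂˣ) : ℂ) * ψ k) ψ =
        ∑ μ ∈ Λ, Cfsg.classInner (fun k => ((μ k : ℂˣ) : ℂ) * ψ k) ψ := by
      refine Finset.sum_congr rfl (fun μ _ => ?_)
      rw [map_one, Units.val_one, map_one, one_mul]
    rw [h2] at h1
    rw [h1]
    have h3 : ∑ a : K, (if (1 : K)⁻¹ * a ∈ M then ψ a * conj (ψ a) else 0) =
        ∑ m : M, ψ m * conj (ψ m) := by
      rw [sum_subgroup_eq M (fun k => ψ k * conj (ψ k))]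
      refine Finset.sum_congr rfl (fun a _ => ?_)
      rw [inv_one, one_mul]
    have h4 := classInner_irr_self hres
    unfold Cfsg.classInner at h4
    rw [h3, hidx]
    have h5 : ∑ m : M, ψ m * conj (ψ m) = (Nat.card M : ℂ) := by
      field_simp at h4
      linear_combination h4
    rw [h5]
    have hidx0 : (M.index : ℂ) ≠ 0 := by
      have : M.index ≠ 0 := Subgroup.index_ne_zero_of_finite
      exact_mod_cast this
    field_simp
  have hdist : ∀ μ ∈ Λ, μ ≠ 1 → Cfsg.classInner (fun k => ((μ k : ℂˣ) : ℂ) * ψ k) ψ = 0 := by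
    intro μ hμ hμ1
    by_contra hne
    have hval : ∀ ν ∈ Λ, Cfsg.classInner (fun k => ((ν k : ℂˣ) : ℂ) * ψ k) ψ =
        ((if (fun k => ((ν k : ℂˣ) : ℂ) * ψ k) = ψ then 1 else 0 : ℕ) : ℂ) := by
      intro ν _
      rw [classInner_irr (hirr ν) hψ]
      split_ifs <;> simp
    have hμv : Cfsg.classInner (fun k => ((μ k : ℂˣ) : ℂ) * ψ k) ψ = 1 := by
      rw [classInner_irr (hirr μ) hψ] at hne ⊢
      split_ifs at hne ⊢ with h
      · rfl
      · exact absurd rfl hne
    have h1v : Cfsg.classInner (fun k => (((1 : K →* ℂˣ) k : ℂˣ) : ℂ) * ψ k) ψ = 1 := by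
      have : (fun k => (((1 : K →* ℂˣ) k : ℂˣ) : ℂ) * ψ k) = ψ := by
        funext k
        simp
      rw [this, classInner_irr_self hψ]
    have hnat : ∑ ν ∈ Λ, (if (fun k => ((ν k : ℂˣ) : ℂ) * ψ k) = ψ then 1 else 0 : ℕ) = 1 := by
      have : ((∑ ν ∈ Λ, (if (fun k => ((ν k : ℂˣ) : ℂ) * ψ k) = ψ then 1 else 0 : ℕ) : ℕ) : ℂ)
          = 1 := by
        rw [← hsum1, Nat.cast_sum]
        exact Finset.sum_congr rfl (fun ν hν => (hval ν hν).symm)
      exact_mod_cast this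
    have hμn : (if (fun k => ((μ k : ℂˣ) : ℂ) * ψ k) = ψ then 1 else 0 : ℕ) = 1 := by
      have := hval μ hμ
      rw [hμv] at this
      exact_mod_cast this.symm
    have h1n : (if (fun k => (((1 : K →* ℂˣ) k : ℂˣ) : ℂ) * ψ k) = ψ then 1 else 0 : ℕ) = 1 := by
      have := hval 1 hΛ1
      rw [h1v] at this
      exact_mod_cast this.symm
    have hle : ∑ ν ∈ ({μ, 1} : Finset (K →* ℂˣ)),
        (if (fun k => ((ν k : ℂˣ) : ℂ) * ψ k) = ψ then 1 else 0 : ℕ) ≤
        ∑ ν ∈ Λ, (if (fun k => ((ν k : ℂˣ) : ℂ) * ψ k) = ψ then 1 else 0 : ℕ) := by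
      apply Finset.sum_le_sum_of_subset
      intro ν hν
      rcases Finset.mem_insert.mp hν with h | h
      · rw [h]; exact hμ
      · rw [Finset.mem_singleton.mp h]; exact hΛ1
    rw [Finset.sum_pair hμ1, hμn, h1n, hnat] at hle
    omega
  have h1 := ram_coset_eq M Λ hΛ ψ ψ c
  have h2 : ∑ μ ∈ Λ, conj ((μ c : ℂˣ) : ℂ) *
      Cfsg.classInner (fun k => ((μ k : ℂˣ) : ℂ) * ψ k) ψ = 1 := by
    rw [Finset.sum_eq_single (1 : K →* ℂˣ)]
    · have : (fun k => (((1 : K →* ℂˣ) k : ℂˣ) : ℂ) * ψ k) = ψ := by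
        funext k
        simp
      rw [this, classInner_irr_self hψ]
      simp
    · intro μ hμ hμ1
      rw [hdist μ hμ hμ1, mul_zero]
    · intro h
      exact absurd hΛ1 h
  rw [h2, hidx] at h1
  have hidx0 : (M.index : ℂ) ≠ 0 := by
    have : M.index ≠ 0 := Subgroup.index_ne_zero_of_finite
    exact_mod_cast this
  field_simp at h1
  linear_combination -h1

end orth

section ramified

variable {H : Type u} [Group H] [Fintype H]

/-- only one irreducible character lies over a fully ramified character -/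
theorem fully_ramified_unique (Z : Subgroup H) [hZn : Z.Normal] [Fintype Z] {χ : H → ℂ}
    (hχ : Cfsg.IsIrrCharacter H χ) {θ : Z → ℂ} (hθ : Cfsg.IsIrrCharacter Z θ) (e : ℕ)
    (he : e ^ 2 = Z.index) (hres : ∀ z : Z, χ z = (e : ℂ) * θ z) {η : H → ℂ}
    (hη : Cfsg.IsIrrCharacter H η) (hne : η ≠ χ) :
    Cfsg.classInner (fun z : Z => η z) θ = 0 := by
  classical
  have hcf := IsIrrCharacter.isClassFunction hχ
  have he0 : (e : ℂ) ≠ 0 := by
    have h1 : e ≠ 0 := by
      intro h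
      rw [h] at he
      exact Subgroup.index_ne_zero_of_finite (H := Z) (by simpa using he.symm)
    exact_mod_cast h1
  have hθinv : ∀ g : H, conjChar Z θ g = θ := by
    intro g
    funext z
    show θ ⟨g * z * g⁻¹, hZn.conj_mem z z.2 g⟩ = θ z
    have h1 := hres ⟨g * z * g⁻¹, hZn.conj_mem z z.2 g⟩
    have h2 := hres z
    have h3 : χ (g * z * g⁻¹) = χ z := hcf z g
    have h4 : (e : ℂ) * θ ⟨g * z * g⁻¹, hZn.conj_mem z z.2 g⟩ = (e : ℂ) * θ z := by
      rw [← h1, ← h2]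
      exact h3
    exact mul_left_cancel₀ he0 h4
  have hΦ := indFun_isCharacter Z (IsIrrCharacter.isCharacter hθ) (G := H)
  have hirr : Fintype (Cfsg.IrrCharacter H) := irrFintype
  obtain ⟨m, hm1, hm2⟩ := IsCharacter.eq_sum_irr hΦ
  have hnormΦ : Cfsg.classInner (Cfsg.indFun Z θ) (Cfsg.indFun Z θ) = Z.index := by
    rw [frobenius_reciprocity Z θ (indFun_isClassFunction Z θ)]
    have h1 : (fun h : Z => Cfsg.indFun Z θ h) = (Z.index : ℂ) • θ := by
      funext z
      rw [indFun_of_invariant Z hθinv z]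
      rfl
    rw [h1, classInner_smul_right, classInner_irr_self hθ, Complex.conj_natCast, mul_one]
  have hP : Cfsg.classInner (Cfsg.indFun Z θ) (Cfsg.indFun Z θ) =
      ((∑ ψ : Cfsg.IrrCharacter H, (m ψ) ^ 2 : ℕ) : ℂ) := by
    have h := congrArg (fun F => Cfsg.classInner F (Cfsg.indFun Z θ)) hm2
    rw [h, classInner_sum_left]
    push_cast
    refine Finset.sum_congr rfl (fun ψ _ => ?_)
    rw [classInner_smul_left, ← classInner_conj_symm, hm1, Complex.conj_natCast]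
    ring
  rw [hnormΦ] at hP
  have hP' : Z.index = ∑ ψ : Cfsg.IrrCharacter H, (m ψ) ^ 2 := by exact_mod_cast hP
  have hmχ : m ⟨χ, hχ⟩ = e := by
    have h1 := hm1 ⟨χ, hχ⟩
    rw [frobenius_reciprocity Z θ hcf] at h1
    have h2 : (fun h : Z => χ h) = (e : ℂ) • θ := by
      funext z
      rw [hres z]
      rfl
    have h3 : Cfsg.classInner θ (fun h : Z => χ h) = (e : ℂ) := by
      rw [h2, classInner_smul_right, classInner_irr_self hθ, Complex.conj_natCast, mul_one]
    have h4 : (m ⟨χ, hχ⟩ : ℂ) = (e : ℂ) := by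
      rw [← h1]
      exact h3
    exact_mod_cast h4
  have hmη : m ⟨η, hη⟩ = 0 := by
    have hne' : (⟨η, hη⟩ : Cfsg.IrrCharacter H) ≠ ⟨χ, hχ⟩ := by
      intro h
      exact hne (congrArg Subtype.val h)
    have hle : ∑ ψ ∈ ({⟨η, hη⟩, ⟨χ, hχ⟩} : Finset (Cfsg.IrrCharacter H)), (m ψ) ^ 2 ≤
        ∑ ψ : Cfsg.IrrCharacter H, (m ψ) ^ 2 :=
      Finset.sum_le_sum_of_subset (Finset.subset_univ _)
    rw [Finset.sum_pair hne', ← hP', ← he, hmχ] at hle
    have h0 : (m ⟨η, hη⟩) ^ 2 = 0 := by omega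
    exact pow_eq_zero_iff (two_ne_zero) |>.mp h0
  have h1 := hm1 ⟨η, hη⟩
  rw [hmη, frobenius_reciprocity Z θ (IsIrrCharacter.isClassFunction hη)] at h1
  rw [← classInner_conj_symm, h1]
  simp

/-- A fully ramified character forbids a self-centralizing cyclic subgroup of the quotient:
here `A / Z` is cyclic and contains the centralizer of `c Z`. -/
theorem fully_ramified_aux (Z : Subgroup H) [hZn : Z.Normal] [Fintype Z] {χ : H → ℂ}
    (hχ : Cfsg.IsIrrCharacter H χ) {θ : Z → ℂ} (hθ : Cfsg.IsIrrCharacter Z θ) (e : ℕ)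
    (he : e ^ 2 = Z.index) (hres : ∀ z : Z, χ z = (e : ℂ) * θ z) (A : Subgroup H) [Fintype A]
    (hZA : Z ≤ A) (hcyc : IsCyclic (A ⧸ Z.subgroupOf A)) (c : H) (hcA : c ∈ A) (hcZ : c ∉ Z)
    (hcent : ∀ x : H, x⁻¹ * c * x * c⁻¹ ∈ Z → x ∈ A) : False := by
  classical
  have hcf := IsIrrCharacter.isClassFunction hχ
  have he0 : (e : ℂ) ≠ 0 := by
    have h1 : e ≠ 0 := by
      intro h
      rw [h] at he
      exact Subgroup.index_ne_zero_of_finite (H := Z) (by simpa using he.symm)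
    exact_mod_cast h1
  haveI : Fintype (Z.subgroupOf A) := Fintype.ofFinite _
  -- `θ` is invariant
  have hθinv : ∀ (g : H) (z : Z), θ ⟨g * z * g⁻¹, hZn.conj_mem z z.2 g⟩ = θ z := by
    intro g z
    have h1 := hres ⟨g * z * g⁻¹, hZn.conj_mem z z.2 g⟩
    have h2 := hres z
    have h3 : χ (g * z * g⁻¹) = χ z := hcf z g
    have h4 : (e : ℂ) * θ ⟨g * z * g⁻¹, hZn.conj_mem z z.2 g⟩ = (e : ℂ) * θ z := by
      rw [← h1, ← h2]
      exact h3
    exact mul_left_cancel₀ he0 h4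
  -- `χ` vanishes off `Z`
  have hvan : ∀ g : H, g ∉ Z → χ g = 0 := by
    apply (vanish_off_iff Z (classInner_irr_self hχ)).mp
    have h2 : (fun h : Z => χ h) = (e : ℂ) • θ := by
      funext z
      rw [hres z]
      rfl
    rw [h2, classInner_smul_left, classInner_smul_right, classInner_irr_self hθ,
      Complex.conj_natCast, ← he]
    push_cast
    ring
  -- the abelian quotient
  have hab : ∀ a b : A, a * b * a⁻¹ * b⁻¹ ∈ Z.subgroupOf A := by
    intro a b
    obtain ⟨g, hg⟩ := hcyc.exists_generator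
    obtain ⟨i, hi⟩ := Subgroup.mem_zpowers_iff.mp (hg (a : A ⧸ Z.subgroupOf A))
    obtain ⟨j, hj⟩ := Subgroup.mem_zpowers_iff.mp (hg (b : A ⧸ Z.subgroupOf A))
    rw [← QuotientGroup.eq_one_iff]
    rw [QuotientGroup.mk_mul, QuotientGroup.mk_mul, QuotientGroup.mk_mul, QuotientGroup.mk_inv,
      QuotientGroup.mk_inv, ← hi, ← hj, zpow_mul_comm g i j, mul_inv_cancel_right,
      mul_inv_cancel]
  -- the extension `ψ` of `θ` to `A`
  obtain ⟨eq, heq⟩ : ∃ eq : Z.subgroupOf A ≃* Z, ∀ m, ((eq m : Z) : H) = ((m : A) : H) :=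
    ⟨Subgroup.subgroupOfEquivOfLe hZA, fun m => rfl⟩
  have hθ' : Cfsg.IsIrrCharacter (Z.subgroupOf A) (θ ∘ eq) := IsIrrCharacter.comp_mulEquiv hθ eq
  obtain ⟨ψ, hψ, hψres⟩ := extend_of_cyclic (Z.subgroupOf A) hcyc hθ' (by
    intro g n
    show θ (eq _) = θ (eq n)
    rw [← hθinv (g : H) (eq n)]
    refine congrArg θ (Subtype.ext ?_)
    rw [heq]
    show ((g : H) * ((n : A) : H) * (g : H)⁻¹) = (g : H) * ((eq n : Z) : H) * (g : H)⁻¹
    rw [heq])
  have hψM : Cfsg.IsIrrCharacter (Z.subgroupOf A) (fun m : Z.subgroupOf A => ψ m) := by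
    have : (fun m : Z.subgroupOf A => ψ m) = θ ∘ eq := funext hψres
    rw [this]
    exact hθ'
  obtain ⟨c', hc'⟩ : ∃ c' : A, (c' : H) = c := ⟨⟨c, hcA⟩, rfl⟩
  -- the coset function and its induction
  obtain ⟨ξ, hξ⟩ : ∃ ξ : A → ℂ, ξ = fun a => if c'⁻¹ * a ∈ Z.subgroupOf A then ψ a else 0 :=
    ⟨_, rfl⟩
  have hzero : Cfsg.indFun A ξ = 0 := by
    apply classFunction_eq_zero (indFun_isClassFunction A ξ)
    intro η hη
    rw [frobenius_reciprocity A ξ (IsIrrCharacter.isClassFunction hη)]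
    have hexp : Cfsg.classInner ξ (fun a : A => η a) = (Nat.card A : ℂ)⁻¹ *
        ∑ a : A, (if c'⁻¹ * a ∈ Z.subgroupOf A then ψ a * conj (η a) else 0) := by
      unfold Cfsg.classInner
      congr 1
      refine Finset.sum_congr rfl (fun a _ => ?_)
      rw [hξ]
      show (if c'⁻¹ * a ∈ Z.subgroupOf A then ψ a else 0) * conj (η a) = _
      split_ifs
      · rfl
      · rw [zero_mul]
    rw [hexp]
    by_cases hηχ : η = χ
    · rw [Finset.sum_eq_zero, mul_zero]
      intro a _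
      split_ifs with h
      · have haZ : ((a : A) : H) ∉ Z := by
          intro haZ
          apply hcZ
          have h1 : (c'⁻¹ * a : A) ∈ Z.subgroupOf A := h
          rw [Subgroup.mem_subgroupOf] at h1
          have h2 : c = (a : H) * (((c'⁻¹ * a : A) : A) : H)⁻¹ := by
            rw [← hc']
            simp
          rw [h2]
          exact Z.mul_mem haZ (Z.inv_mem h1)
        rw [hηχ, hvan _ haZ]
        simp
      · rfl
    · have hηZ := fully_ramified_unique Z hχ hθ e he hres hη hηχ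
      rw [ram_coset_zero (Z.subgroupOf A) hab ψ (fun a : A => η a) ?_ c', mul_zero]
      intro μ hμ
      by_contra hcon
      have hcon' : Cfsg.classInner (fun a : A => η a)
          (fun k => ((μ k : ℂˣ) : ℂ) * ψ k) ≠ 0 := by
        rw [← classInner_conj_symm]
        intro h
        apply hcon
        have := congrArg conj h
        simpa using this
      have hμψ : (fun m : Z.subgroupOf A => ((μ m : ℂˣ) : ℂ) * ψ m) = θ ∘ eq := by
        funext m
        rw [hμ m m.2, hψres m]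
        simp
      have h5 := classInner_restrict_ne_zero (Z.subgroupOf A)
        (IsCharacter.restrict (IsIrrCharacter.isCharacter hη) A)
        (IsIrrCharacter.mul_linear hψ μ) hcon' hθ' (by
          rw [hμψ, classInner_irr_self hθ']
          exact one_ne_zero)
      have h6 : (fun n : Z.subgroupOf A => (fun a : A => η a) n) =
          (fun z : Z => η z) ∘ eq := by
        funext m
        show η _ = η _
        rw [heq]
      rw [h6, classInner_comp_mulEquiv] at h5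
      exact h5 hηZ
  -- evaluation of the induced function on the coset
  have hval : ∀ a : A, c'⁻¹ * a ∈ Z.subgroupOf A → ψ a = 0 := by
    intro a ha
    have h1 := congrFun hzero (a : H)
    rw [indFun_apply] at h1
    have hterm : ∀ x : H, Cfsg.extendByZero A ξ (x⁻¹ * (a : H) * x) =
        if x ∈ A then ψ a else 0 := by
      intro x
      by_cases hx : x ∈ A
      · rw [if_pos hx]
        have hmem : x⁻¹ * (a : H) * x ∈ A := A.mul_mem (A.mul_mem (A.inv_mem hx) a.2) hx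
        rw [extendByZero_of_mem A ξ hmem, hξ]
        have hcond : c'⁻¹ * (⟨x⁻¹ * (a : H) * x, hmem⟩ : A) ∈ Z.subgroupOf A := by
          have h2 : c'⁻¹ * (⟨x⁻¹ * (a : H) * x, hmem⟩ : A) =
              (c'⁻¹ * a) * (a⁻¹ * (⟨x, hx⟩ : A)⁻¹ * a * ⟨x, hx⟩) := by
            apply Subtype.ext
            simp [mul_assoc]
          rw [h2]
          apply Subgroup.mul_mem _ ha
          have h3 := hab a⁻¹ (⟨x, hx⟩ : A)⁻¹
          simpa using h3
        show (if c'⁻¹ * (⟨x⁻¹ * (a : H) * x, hmem⟩ : A) ∈ Z.subgroupOf A then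
          ψ ⟨x⁻¹ * (a : H) * x, hmem⟩ else 0) = ψ a
        rw [if_pos hcond]
        have h4 := IsIrrCharacter.isClassFunction hψ a (⟨x, hx⟩ : A)⁻¹
        rw [← h4]
        refine congrArg ψ (Subtype.ext ?_)
        simp
      · rw [if_neg hx]
        by_cases hmem : x⁻¹ * (a : H) * x ∈ A
        · rw [extendByZero_of_mem A ξ hmem, hξ]
          show (if c'⁻¹ * (⟨x⁻¹ * (a : H) * x, hmem⟩ : A) ∈ Z.subgroupOf A then
            ψ ⟨x⁻¹ * (a : H) * x, hmem⟩ else 0) = 0
          rw [if_neg]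
          intro hcond
          apply hx
          apply hcent
          rw [Subgroup.mem_subgroupOf] at hcond ha
          have h2 : ((c'⁻¹ * (⟨x⁻¹ * (a : H) * x, hmem⟩ : A) : A) : H) =
              c⁻¹ * (x⁻¹ * (a : H) * x) := by
            rw [← hc']
            rfl
          rw [h2] at hcond
          have h3 : ((c'⁻¹ * a : A) : H) = c⁻¹ * (a : H) := by
            rw [← hc']
            rfl
          rw [h3] at ha
          -- `a = c z` with `z ∈ Z`
          have h4 : x⁻¹ * c * x * c⁻¹ =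
              c * ((c⁻¹ * (x⁻¹ * (a : H) * x)) * (x⁻¹ * (c⁻¹ * (a : H))⁻¹ * x)) * c⁻¹ := by
            group
          rw [h4]
          apply hZn.conj_mem
          apply Z.mul_mem hcond
          have h5 := hZn.conj_mem _ (Z.inv_mem ha) x⁻¹
          simpa using h5
        · rw [extendByZero_of_not_mem A ξ hmem]
    rw [Finset.sum_congr rfl (fun x _ => hterm x)] at h1
    rw [← sum_subgroup_eq A (fun _ => ψ a)] at h1
    simp only [Finset.sum_const, Finset.card_univ, nsmul_eq_mul, Pi.zero_apply] at h1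
    have hA0 : (Nat.card A : ℂ) ≠ 0 := by
      have := Nat.card_pos (α := A)
      exact_mod_cast this.ne'
    rw [← Nat.card_eq_fintype_card] at h1
    rcases mul_eq_zero.mp h1 with h | h
    · exact absurd h (inv_ne_zero hA0)
    · rcases mul_eq_zero.mp h with h | h
      · exact absurd h hA0
      · exact h
  have hnorm := ram_coset_norm (Z.subgroupOf A) hab hψ hψM c'
  rw [Finset.sum_eq_zero] at hnorm
  · have hM0 : (Nat.card (Z.subgroupOf A) : ℂ) ≠ 0 := by
      have := Nat.card_pos (α := Z.subgroupOf A)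
      exact_mod_cast this.ne'
    exact hM0 hnorm.symm
  · intro a _
    split_ifs with h
    · rw [hval a h, zero_mul]
    · rfl

end ramified

end Cfsg.Agent.Lib.Helper1
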