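import Cfsg.Agent.Lib.Helper1.CharCoset
import Cfsg.Agent.Lib.Helper25.CodegreeGroup

set_option autoImplicit false
set_option linter.unusedSectionVars false
set_option linter.unusedVariables false

/-!
# Extension over solvable quotients (Isaacs 6.25) and canonical extensions
-/

namespace Cfsg.Agent.Lib.Helper1

open Representation Module
open scoped ComplexConjugate

universe u w

section solvext

theorem isIrr_of_comp_irr {H' : Type w} {G' : Type u} [Group H'] [Group G'] [Finite G']
    [Finite H'] (f : H' →* G') {χ : G' → ℂ} (hχ : Cfsg.IsCharacter G' χ)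
    (h : Cfsg.IsIrrCharacter H' (χ ∘ f)) : Cfsg.IsIrrCharacter G' χ := by
  obtain ⟨n, ρ, rfl⟩ := hχ
  obtain ⟨m, σ, hσ, hσc⟩ := h
  let τ : Representation ℂ H' (Fin n → ℂ) := ρ.comp f
  have h1 : σ.character = τ.character := hσc
  obtain ⟨φ⟩ := equiv_of_char_eq σ τ h1
  have hτ : τ.IsIrreducible := isIrreducible_of_equiv φ hσ
  have hρ : ρ.IsIrreducible := isIrreducible_of_comp f ρ τ (fun _ => rfl) hτ
  exact ⟨n, ρ, hρ, rfl⟩

theorem ext_solvable_aux (n : ℕ) : ∀ (G : Type u) [Group G] [Finite G], Nat.card G = n →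
    ∀ (N : Subgroup G) [hN : N.Normal], Group.IsSolvable (G ⧸ N) → ∀ (ϑ : N → ℂ),
    Cfsg.IsIrrCharacter N ϑ →
    (∀ (g : G) (n : N), ϑ ⟨g * n * g⁻¹, hN.conj_mem (n : G) n.2 g⟩ = ϑ n) → ∀ d : ℕ, ϑ 1 = d →
    Nat.Coprime N.index d → ∀ μ : G →* ℂˣ, (∀ n : N, ((μ n : ℂˣ) : ℂ) = Cfsg.detChar ϑ n) →
    ∃ χ : G → ℂ, Cfsg.IsIrrCharacter G χ ∧ ∀ n : N, χ n = ϑ n := by
  induction n using Nat.strong_induction_on with
  | _ n ih =>
    intro G _ _ hcard N hN hsolv ϑ hϑ hinv d hd hcop μ hμN
    haveI := hsolv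
    by_cases hNtop : N = ⊤
    · subst hNtop
      refine ⟨fun g => ϑ ⟨g, Subgroup.mem_top g⟩, ?_, fun n => rfl⟩
      exact IsIrrCharacter.comp_mulEquiv hϑ Subgroup.topEquiv.symm
    · have hnt : Nontrivial (G ⧸ N) := by
        rw [← Finite.one_lt_card_iff_nontrivial]
        have h1 : N.index ≠ 1 := fun h => hNtop (Subgroup.index_eq_one.mp h)
        have h2 : N.index ≠ 0 := Subgroup.index_ne_zero_of_finite
        rw [← Subgroup.index_eq_card]
        omega
      have hcomm : commutator (G ⧸ N) ≠ ⊤ :=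
        (Group.IsSolvable.commutator_lt_top_of_nontrivial (G ⧸ N)).ne
      obtain ⟨ν, p, hp, hνp⟩ :=
        Cfsg.Agent.Lib.Helper25.CodegreeGroup.exists_hom_prime_index hcomm
      let M : Subgroup G := (ν.comp (QuotientGroup.mk' N)).ker
      have hMn : M.Normal := MonoidHom.normal_ker _
      have hNM : N ≤ M := by
        intro x hx
        show ν (QuotientGroup.mk' N x) = 1
        rw [QuotientGroup.mk'_apply, (QuotientGroup.eq_one_iff x).mpr hx, map_one]
      have hMidx : M.index = p := by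
        have h1 : M = ν.ker.comap (QuotientGroup.mk' N) := rfl
        rw [h1, Subgroup.index_comap_of_surjective _ (QuotientGroup.mk'_surjective N)]
        exact hνp
      let N' : Subgroup M := N.subgroupOf M
      have hN'n : N'.Normal := inferInstance
      let e : N' ≃* N := Subgroup.subgroupOfEquivOfLe hNM
      let ϑ' : N' → ℂ := ϑ ∘ e
      have hϑ' : Cfsg.IsIrrCharacter N' ϑ' := IsIrrCharacter.comp_mulEquiv hϑ e
      have hinv' : ∀ (m : M) (x : N'),
          ϑ' ⟨m * x * m⁻¹, hN'n.conj_mem (x : M) x.2 m⟩ = ϑ' x := by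
        intro m x
        exact hinv (m : G) (e x)
      have hd' : ϑ' 1 = d := by
        show ϑ (e 1) = d
        rw [map_one]
        exact hd
      have hcop' : Nat.Coprime N'.index d := by
        have h1 : N'.index ∣ N.index := Subgroup.relIndex_dvd_index_of_le hNM
        exact Nat.Coprime.coprime_dvd_left h1 hcop
      have hsolv' : Group.IsSolvable (M ⧸ N') := by
        let f : M ⧸ N' →* G ⧸ N := QuotientGroup.map N' N M.subtype (fun x hx => hx)
        have hf : Function.Injective f := by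
          rw [injective_iff_map_eq_one]
          intro q hq
          induction q using QuotientGroup.induction_on with
          | H x =>
            have h2 : (x : G) ∈ N := (QuotientGroup.eq_one_iff _).mp hq
            exact (QuotientGroup.eq_one_iff x).mpr h2
        exact solvable_of_solvable_injective hf
      let μ' : M →* ℂˣ := μ.comp M.subtype
      have hμ' : ∀ x : N', ((μ' x : ℂˣ) : ℂ) = Cfsg.detChar ϑ' x := by
        intro x
        have h1 := detChar_comp (IsIrrCharacter.isCharacter hϑ) e.toMonoidHom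
        have h2 : Cfsg.detChar ϑ' x = Cfsg.detChar ϑ (e x) := congrFun h1 x
        rw [h2, ← hμN (e x)]
        rfl
      have hlt : Nat.card M < n := by
        rw [← hcard, ← Subgroup.index_mul_card M, hMidx]
        have := hp.two_le
        have hpos : 0 < Nat.card M := Nat.card_pos
        nlinarith
      obtain ⟨η₀, hη₀, hη₀N⟩ :=
        ih (Nat.card M) hlt M rfl N' hsolv' ϑ' hϑ' hinv' d hd' hcop' μ' hμ'
      obtain ⟨η, ⟨hη, hηN, hηdet⟩, huniq⟩ :=
        exists_unique_ext_det N' hϑ' d hd' hcop' hη₀ hη₀N μ' hμ'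
      have hηinv : ∀ (g : G) (m : M), η ⟨g * m * g⁻¹, hMn.conj_mem (m : G) m.2 g⟩ = η m := by
        intro g m
        let c : M ≃* M := MulAut.conjNormal g
        have hc : ∀ m : M, c m = ⟨g * m * g⁻¹, hMn.conj_mem (m : G) m.2 g⟩ := fun m =>
          Subtype.ext (by
            show ((MulAut.conjNormal g : MulAut M) m : G) = g * m * g⁻¹
            rw [MulAut.conjNormal_apply])
        have h1 : Cfsg.IsIrrCharacter M (η ∘ c) := IsIrrCharacter.comp_mulEquiv hη c
        have h2 : ∀ x : N', (η ∘ c) x = ϑ' x := by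
          intro x
          have hmem : c x ∈ N' := by
            show ((c x : M) : G) ∈ N
            rw [hc]
            exact hN.conj_mem _ x.2 g
          have h3 := hηN ⟨c x, hmem⟩
          show η (c x) = ϑ' x
          rw [h3]
          show ϑ (e ⟨c x, hmem⟩) = ϑ (e x)
          have h4 : e ⟨c x, hmem⟩ = ⟨g * (e x : G) * g⁻¹, hN.conj_mem _ (e x).2 g⟩ :=
            Subtype.ext (by
              show ((c x : M) : G) = _
              rw [hc]
              rfl)
          rw [h4]
          exact hinv g (e x)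
        have h3 : Cfsg.detChar (η ∘ c) = fun m => ((μ' m : ℂˣ) : ℂ) := by
          have h4 := detChar_comp (IsIrrCharacter.isCharacter hη) c.toMonoidHom
          rw [show (η ∘ c) = η ∘ c.toMonoidHom from rfl, h4, hηdet]
          funext m
          show ((μ' (c m) : ℂˣ) : ℂ) = _
          congr 1
          show μ ((c m : M) : G) = μ (m : G)
          rw [hc]
          show μ (g * m * g⁻¹) = μ m
          rw [map_mul, map_mul, map_inv, mul_comm (μ g), mul_assoc, mul_inv_cancel, mul_one]
        have h5 := huniq (η ∘ c) ⟨h1, h2, h3⟩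
        have h6 := congrFun h5 m
        rw [← hc]
        exact h6
      have hcyc : IsCyclic (G ⧸ M) := by
        have : Fact p.Prime := ⟨hp⟩
        apply isCyclic_of_prime_card (p := p)
        rw [← Subgroup.index_eq_card]
        exact hMidx
      obtain ⟨χ, hχ, hχM⟩ := extend_of_cyclic M hcyc hη hηinv
      refine ⟨χ, hχ, fun n => ?_⟩
      have h1 := hχM ⟨n, hNM n.2⟩
      have h2 := hηN ⟨⟨n, hNM n.2⟩, n.2⟩
      show χ ((⟨n, hNM n.2⟩ : M) : G) = ϑ n
      rw [h1, h2]
      rfl

/-- Isaacs 6.25: extension over a solvable quotient when the determinant extends. -/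
theorem ext_solvable {G : Type u} [Group G] [Finite G] (N : Subgroup G) [hN : N.Normal]
    (hsolv : Group.IsSolvable (G ⧸ N)) {ϑ : N → ℂ} (hϑ : Cfsg.IsIrrCharacter N ϑ)
    (hinv : ∀ (g : G) (n : N), ϑ ⟨g * n * g⁻¹, hN.conj_mem (n : G) n.2 g⟩ = ϑ n) (d : ℕ)
    (hd : ϑ 1 = d) (hcop : Nat.Coprime N.index d) (μ : G →* ℂˣ)
    (hμN : ∀ n : N, ((μ n : ℂˣ) : ℂ) = Cfsg.detChar ϑ n) :
    ∃ χ : G → ℂ, Cfsg.IsIrrCharacter G χ ∧ ∀ n : N, χ n = ϑ n :=
  ext_solvable_aux _ G rfl N hsolv ϑ hϑ hinv d hd hcop μ hμN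

end solvext

end Cfsg.Agent.Lib.Helper1
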