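import Mathlib
import Cfsg.Agent.Lib.Helper1.CharPElem

set_option autoImplicit false
set_option linter.unusedSectionVars false
set_option linter.unusedVariables false
set_option linter.style.haveILetI false

namespace Cfsg.Agent.Lib.Helper1

open Representation Module
open scoped ComplexConjugate

universe u v

section coe

variable {G : Type u} [Group G]

/-- coercion hom from linear characters to functions -/
def coeFunHom (G : Type u) [Group G] : (G →* ℂˣ) →* (G → ℂ) where
  toFun ν := fun g => ((ν g : ℂˣ) : ℂ)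
  map_one' := by funext g; simp
  map_mul' a b := by funext g; simp

theorem coeFunHom_injective : Function.Injective (coeFunHom G) := by
  intro a b h
  apply MonoidHom.ext
  intro g
  exact Units.ext (congrFun h g)

theorem orderOf_coeFun (ν : G →* ℂˣ) : orderOf (fun g => ((ν g : ℂˣ) : ℂ)) = orderOf ν :=
  orderOf_injective (coeFunHom G) coeFunHom_injective ν

theorem monoidHom_pow_card [Finite G] (ν : G →* ℂˣ) : ν ^ Nat.card G = 1 := by
  apply MonoidHom.ext
  intro g
  rw [MonoidHom.pow_apply, ← map_pow, pow_card_eq_one', map_one]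
  rfl

theorem orderOf_monoidHom_pos [Finite G] (ν : G →* ℂˣ) : 0 < orderOf ν :=
  orderOf_pos_iff.mpr (isOfFinOrder_iff_pow_eq_one.mpr
    ⟨Nat.card G, Nat.card_pos, monoidHom_pow_card ν⟩)

end coe

section transfer

variable {G : Type u} [Group G]

theorem transfer_eq_pow_of_invariant {H : Subgroup G} [H.FiniteIndex] {A : Type*} [CommGroup A]
    (ϕ : H →* A) (g : G)
    (key : ∀ (k : ℕ) (g₀ : G) (h1 : g₀⁻¹ * g ^ k * g₀ ∈ H),
      ∃ h2 : g ^ k ∈ H, ϕ ⟨g₀⁻¹ * g ^ k * g₀, h1⟩ = ϕ ⟨g ^ k, h2⟩)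
    (hg : g ∈ H) :
    MonoidHom.transfer ϕ g = ϕ ⟨g, hg⟩ ^ H.index := by
  classical
  letI := H.fintypeQuotientOfFiniteIndex
  rw [MonoidHom.transfer_eq_prod_quotient_orbitRel_zpowers_quot]
  have h : ∀ q : Quotient (MulAction.orbitRel (Subgroup.zpowers g) (G ⧸ H)),
      ϕ ⟨q.out.out⁻¹ * g ^ Function.minimalPeriod (g • ·) q.out * q.out.out,
        QuotientGroup.out_conj_pow_minimalPeriod_mem H g q.out⟩ =
      ϕ ⟨g, hg⟩ ^ Function.minimalPeriod (g • ·) q.out := by
    intro q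
    obtain ⟨h2, h3⟩ := key _ _ (QuotientGroup.out_conj_pow_minimalPeriod_mem H g q.out)
    rw [h3, ← map_pow]
    rfl
  rw [Finset.prod_congr rfl (fun q _ => h q), Finset.prod_pow_eq_pow_sum,
    ← Subgroup.index_eq_sum_minimalPeriod H g]

theorem transfer_pow_eq_one {H : Subgroup G} [H.FiniteIndex] {A : Type*} [CommGroup A]
    (ϕ : H →* A) (m : ℕ) (hm : ∀ h : H, ϕ h ^ m = 1) (g : G) :
    MonoidHom.transfer ϕ g ^ m = 1 := by
  classical
  letI := H.fintypeQuotientOfFiniteIndex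
  rw [MonoidHom.transfer_eq_prod_quotient_orbitRel_zpowers_quot, ← Finset.prod_pow]
  exact Finset.prod_eq_one (fun q _ => hm _)

theorem transfer_normal_apply [Finite G] (N H : Subgroup G) [hN : N.Normal] (hNH : N ≤ H)
    {A : Type*} [CommGroup A] (ν : H →* A)
    (hinv : ∀ (g : G) (n : N), ν ⟨g * n * g⁻¹, hNH (hN.conj_mem n n.2 g)⟩ = ν ⟨n, hNH n.2⟩)
    (n : N) :
    MonoidHom.transfer ν (n : G) = ν ⟨n, hNH n.2⟩ ^ H.index := by
  apply transfer_eq_pow_of_invariant ν (n : G) _ (hNH n.2)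
  intro k g₀ h1
  refine ⟨H.pow_mem (hNH n.2) k, ?_⟩
  have h2 := hinv g₀⁻¹ ⟨(n : G) ^ k, N.pow_mem n.2 k⟩
  convert h2 using 3
  simp

end transfer

end Cfsg.Agent.Lib.Helper1
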