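import Mathlib
import Cfsg.Agent.Lib.Helper1.FSFixed
import Cfsg.Agent.Lib.Helper1.CharMisc
import Cfsg.Agent.Lib.Helper1.CharInd
import Cfsg.Agent.Lib.Helper1.CharInt
import Cfsg.Agent.Lib.Helper1.CharReg
import Cfsg.Agent.Lib.Helper1.CharDecomp
import Cfsg.Agent.Lib.Helper1.CharReal
import Cfsg.Agent.Lib.Helper1.CharPRes
import Cfsg.Agent.Lib.Helper1.CharFrob
import Cfsg.Agent.Lib.Helper24.DegDvd
import Cfsg.Agent.Lib.Helper25.KGV
import Cfsg.Agent.Lib.Helper25.MaxPair
import Cfsg.Agent.Lib.Helper6.BlockVanish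

/-!
# A strongly real character over a 2-defect zero character

`N` normal in `G` with `G/N` a 2-group, `φ ∈ Irr(N)` of 2-defect zero with `φ̄` conjugate to `φ`
in `G`.  Then some `χ ∈ Irr(G)` has Frobenius–Schur indicator `+1` and `[χ_N, φ] = 1`.

Proof: `Θ = φ^G` vanishes on the non-identity elements of a Sylow 2-subgroup `Q`, so
`[Θ_Q, 1_Q] = φ(1)/|N|_2` is odd.  Pairing `χ` with `χ̄` gives a real `χ` with `[χ_N, φ]` and
`[χ_Q, 1_Q]` both odd; the first is a power of two, hence `1`, and the second forces indicator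
`+1`.
-/

set_option autoImplicit false
set_option linter.unusedSectionVars false
set_option linter.unusedVariables false

namespace Cfsg.Agent.Lib.Helper1.DefZeroReal

open Cfsg Cfsg.Agent.Lib.Helper1
open scoped ComplexConjugate

universe u

variable {G : Type u} [Group G] [Fintype G]

set_option maxHeartbeats 1600000 in
theorem exists_strongly_real_over (N : Subgroup G) [hN : N.Normal] [Fintype N]
    (h2 : IsPGroup 2 (G ⧸ N)) (φ : IrrCharacter N)
    (hdef : 2 ^ (Nat.card N).factorization 2 ∣ charDegree (φ : N → ℂ))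
    (g₀ : G) (hconj : ∀ n : N, (φ : N → ℂ) ⟨g₀ * n * g₀⁻¹, hN.conj_mem n n.2 g₀⟩
      = conj ((φ : N → ℂ) n)) :
    ∃ χ : IrrCharacter G, (Nat.card G : ℂ)⁻¹ * ∑ s : G, (χ : G → ℂ) (s * s) = 1 ∧
      classInner (fun n : N => (χ : G → ℂ) n) (φ : N → ℂ) = 1 := by
  classical
  haveI : Fintype (IrrCharacter G) := irrFintype
  haveI : Fact (Nat.Prime 2) := ⟨Nat.prime_two⟩
  obtain ⟨M, hM⟩ := Cfsg.Agent.Lib.Helper25.KGV.exists_pModular 2 Nat.prime_two
  obtain ⟨d, hd, hdN, hd0⟩ := IsIrrCharacter.degree_dvd_card φ.2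
  have hdeg : charDegree (φ : N → ℂ) = d := charDegree_eq hd
  obtain ⟨ν, hν⟩ : ∃ ν : ℕ, ν = (Nat.card N).factorization 2 := ⟨_, rfl⟩
  rw [hdeg, ← hν] at hdef
  have hblock : blockOf M (φ : N → ℂ) = {φ} := by
    apply Cfsg.Agent.Lib.Helper25.MaxPair.blockOf_eq_singleton hM φ
    rw [hdeg, ← hν]
    exact (Nat.Prime.pow_dvd_iff_le_factorization Nat.prime_two hd0.ne').mp hdef
  have hvan : ∀ x : N, 2 ∣ orderOf x → (φ : N → ℂ) x = 0 := fun x hx =>
    Cfsg.Agent.Lib.Helper6.irr_eq_zero_of_singular hM φ hblock x hx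
  -- the Sylow 2-subgroup
  obtain ⟨Q⟩ : Nonempty (Sylow 2 G) := inferInstance
  haveI : Fintype (Q : Subgroup G) := Fintype.ofFinite _
  have hQcard : Nat.card (Q : Subgroup G) = 2 ^ (Nat.card G).factorization 2 :=
    Sylow.card_eq_multiplicity Q
  obtain ⟨k, hk⟩ := IsPGroup.iff_card.mp h2
  have hidx : N.index = 2 ^ k := by
    rw [Subgroup.index_eq_card]
    exact hk
  have hcardG : Nat.card G = Nat.card N * 2 ^ k := by
    rw [← hidx]
    exact (Subgroup.card_mul_index N).symm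
  have hfact : (Nat.card G).factorization 2 = ν + k := by
    rw [hcardG, Nat.factorization_mul Nat.card_pos.ne' (by positivity), Finsupp.add_apply, ← hν,
      Nat.Prime.factorization_pow Nat.prime_two]
    simp
  have hQcard' : Nat.card (Q : Subgroup G) = 2 ^ ν * N.index := by
    rw [hQcard, hfact, pow_add, hidx]
  have hQ0 : (Nat.card (Q : Subgroup G) : ℂ) ≠ 0 := by exact_mod_cast Nat.card_pos.ne'
  have hN0 : (Nat.card N : ℂ) ≠ 0 := by exact_mod_cast Nat.card_pos.ne'
  -- the induced character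
  obtain ⟨Θ, hΘdef⟩ : ∃ Θ : G → ℂ, Θ = indFun N (φ : N → ℂ) := ⟨_, rfl⟩
  have hΘchar : IsCharacter G Θ := by
    rw [hΘdef]
    exact indFun_isCharacter N (IsIrrCharacter.isCharacter φ.2)
  have hΘ1 : Θ 1 = (N.index : ℂ) * d := by
    rw [hΘdef, indFun_one, hd]
  have hΘQ : ∀ q : G, q ∈ (Q : Subgroup G) → q ≠ 1 → Θ q = 0 := by
    intro q hq hq1
    rw [hΘdef, indFun_apply]
    have h2ord : 2 ∣ orderOf q := by
      obtain ⟨j, hj⟩ := (IsPGroup.iff_orderOf.mp Q.isPGroup') ⟨q, hq⟩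
      rw [Subgroup.orderOf_mk] at hj
      have hj0 : j ≠ 0 := by
        intro h
        rw [h, pow_zero] at hj
        exact hq1 (orderOf_eq_one_iff.mp hj)
      rw [hj]
      exact dvd_pow_self 2 hj0
    rw [Finset.sum_eq_zero, mul_zero]
    intro x _
    by_cases hx : x⁻¹ * q * x ∈ N
    · rw [extendByZero_of_mem N _ hx]
      apply hvan
      rw [Subgroup.orderOf_mk]
      have h3 : orderOf (x⁻¹ * q * x) = orderOf q := by
        have h := orderOf_injective (MulAut.conj x⁻¹).toMonoidHom (MulAut.conj x⁻¹).injective q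
        simpa using h
      rw [h3]
      exact h2ord
    · exact extendByZero_of_not_mem N _ hx
  obtain ⟨m, hm1, hm2⟩ := IsCharacter.eq_sum_irr hΘchar
  -- fixed-point multiplicities on Q
  have hA : ∀ χ : IrrCharacter G, ∃ a : ℕ, (Nat.card (Q : Subgroup G) : ℂ)⁻¹
      * ∑ q : (Q : Subgroup G), (χ : G → ℂ) q = a := by
    intro χ
    have h1 : IsCharacter (Q : Subgroup G) (fun q : (Q : Subgroup G) => (χ : G → ℂ) q) :=
      IsCharacter.restrict (IsIrrCharacter.isCharacter χ.2) _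
    obtain ⟨a, ha⟩ := IsCharacter.classInner_nat h1 (isCharacter_one (G := (Q : Subgroup G)))
    refine ⟨a, ?_⟩
    rw [← ha]
    unfold classInner
    congr 1
    refine Finset.sum_congr rfl (fun q _ => ?_)
    rw [map_one, mul_one]
  choose a ha using hA
  -- the counting identity
  have hcount : 2 ^ ν * ∑ χ : IrrCharacter G, m χ * a χ = d := by
    have h1 : ∑ q : (Q : Subgroup G), Θ q = Θ 1 := by
      rw [Finset.sum_eq_single (1 : (Q : Subgroup G))]
      · rfl
      · intro q _ hq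
        apply hΘQ _ q.2
        intro h
        exact hq (Subtype.ext h)
      · intro h
        exact absurd (Finset.mem_univ _) h
    have h2 : ∑ q : (Q : Subgroup G), Θ q
        = (Nat.card (Q : Subgroup G) : ℂ) * ∑ χ : IrrCharacter G, (m χ : ℂ) * (a χ : ℂ) := by
      rw [hm2]
      simp only [Finset.sum_apply, Pi.smul_apply, smul_eq_mul]
      rw [Finset.sum_comm, Finset.mul_sum]
      refine Finset.sum_congr rfl (fun χ _ => ?_)
      rw [← Finset.mul_sum, ← ha χ]
      field_simp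
    rw [h1, hΘ1, hQcard'] at h2
    have h3 : N.index * d = 2 ^ ν * N.index * ∑ χ : IrrCharacter G, m χ * a χ := by
      exact_mod_cast h2
    have h4 : 0 < N.index := Nat.pos_of_ne_zero Subgroup.index_ne_zero_of_finite
    nlinarith [Nat.eq_of_mul_eq_mul_left h4 (by rw [h3]; ring :
      N.index * d = N.index * (2 ^ ν * ∑ χ : IrrCharacter G, m χ * a χ))]
  have hodd : Odd (∑ χ : IrrCharacter G, m χ * a χ) := by
    rw [← Nat.not_even_iff_odd]
    intro heven
    obtain ⟨c, hc⟩ := heven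
    have h1 : 2 ^ (ν + 1) ∣ Nat.card N := by
      refine dvd_trans ?_ hdN
      rw [← hcount, hc, pow_succ]
      exact ⟨c, by ring⟩
    rw [hν] at h1
    exact Nat.pow_succ_factorization_not_dvd Nat.card_pos.ne' Nat.prime_two h1
  -- complex conjugation on Irr(G)
  obtain ⟨σ, hσ⟩ : ∃ σ : IrrCharacter G → IrrCharacter G,
      ∀ χ : IrrCharacter G, (σ χ : G → ℂ) = fun g => conj ((χ : G → ℂ) g) :=
    ⟨fun χ => ⟨_, IsIrrCharacter.conj χ.2⟩, fun χ => rfl⟩
  have hσσ : ∀ χ, σ (σ χ) = χ := by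
    intro χ
    apply Subtype.ext
    rw [hσ, hσ]
    funext g
    simp
  have hmres : ∀ χ : IrrCharacter G,
      classInner (φ : N → ℂ) (fun n : N => (χ : G → ℂ) n) = (m χ : ℂ) := by
    intro χ
    rw [← hm1 χ, hΘdef, frobenius_reciprocity N _ (IsIrrCharacter.isClassFunction χ.2)]
  have hmσ : ∀ χ, m (σ χ) = m χ := by
    intro χ
    have h1 := hmres (σ χ)
    have h2 := hmres χ
    unfold classInner at h1 h2
    have h3 : ∑ n : N, (φ : N → ℂ) n * conj ((σ χ : G → ℂ) n)
        = conj (∑ n : N, (φ : N → ℂ) n * conj ((χ : G → ℂ) n)) := by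
      rw [map_sum, ← Equiv.sum_comp (conjNormal N g₀).toEquiv
        (fun n : N => (φ : N → ℂ) n * conj ((σ χ : G → ℂ) n))]
      refine Finset.sum_congr rfl (fun n _ => ?_)
      have e1 : (φ : N → ℂ) ((conjNormal N g₀).toEquiv n) = conj ((φ : N → ℂ) n) := hconj n
      have e2 : (χ : G → ℂ) (((conjNormal N g₀).toEquiv n : N) : G) = (χ : G → ℂ) n :=
        IsIrrCharacter.isClassFunction χ.2 n g₀
      rw [e1, hσ]
      show conj ((φ : N → ℂ) n) * conj (conj ((χ : G → ℂ) (((conjNormal N g₀).toEquiv n : N) : G)))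
        = _
      rw [e2, map_mul]
    rw [h3] at h1
    have h4 : (m (σ χ) : ℂ) = conj ((m χ : ℂ)) := by
      rw [← h1, ← h2, map_mul, map_inv₀, Complex.conj_natCast]
    rw [Complex.conj_natCast] at h4
    exact_mod_cast h4
  have haσ : ∀ χ, a (σ χ) = a χ := by
    intro χ
    have h1 := ha (σ χ)
    have h2 := ha χ
    have h3 : ∑ q : (Q : Subgroup G), (σ χ : G → ℂ) q
        = conj (∑ q : (Q : Subgroup G), (χ : G → ℂ) q) := by
      rw [map_sum, hσ]
    rw [h3] at h1
    have h4 : (a (σ χ) : ℂ) = conj ((a χ : ℂ)) := by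
      rw [← h1, ← h2, map_mul, map_inv₀, Complex.conj_natCast]
    rw [Complex.conj_natCast] at h4
    exact_mod_cast h4
  -- a real character with odd contribution
  have hex : ∃ χ : IrrCharacter G, σ χ = χ ∧ Odd (m χ * a χ) := by
    by_contra hno
    push_neg at hno
    have h1 : ∑ χ : IrrCharacter G, ((m χ * a χ : ℕ) : ZMod 2) = 0 := by
      apply Finset.sum_involution (fun χ _ => σ χ)
      · intro χ _
        rw [hmσ, haσ]
        exact CharTwo.add_self_eq_zero _
      · intro χ _ hne hfix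
        apply hne
        have h2 := hno χ hfix
        rw [Nat.not_odd_iff_even] at h2
        exact (ZMod.natCast_eq_zero_iff_even).mpr h2
      · intro χ _
        exact Finset.mem_univ _
      · intro χ _
        exact hσσ χ
    rw [← Nat.cast_sum] at h1
    have h2 := (ZMod.natCast_eq_zero_iff_even).mp h1
    exact (Nat.not_even_iff_odd.mpr hodd) h2
  obtain ⟨χ, hχfix, hχodd⟩ := hex
  obtain ⟨hmodd, haodd⟩ := Nat.odd_mul.mp hχodd
  have hreal : ∀ g, conj ((χ : G → ℂ) g) = (χ : G → ℂ) g := by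
    intro g
    have h1 := congrFun (congrArg Subtype.val hχfix) g
    rw [hσ] at h1
    exact h1
  refine ⟨χ, Cfsg.Agent.Lib.Helper1.FSFixed.ind_eq_one_of_odd_fixed χ.2 hreal (Q : Subgroup G)
    (a χ) (ha χ) haodd, ?_⟩
  -- the multiplicity is one
  have hinner : classInner (fun n : N => (χ : G → ℂ) n) (φ : N → ℂ) = (m χ : ℂ) := by
    rw [← classInner_conj_symm, hmres χ, Complex.conj_natCast]
  have hm0 : m χ ≠ 0 := by
    intro h
    rw [h] at hmodd
    exact (Nat.not_odd_iff_even.mpr ⟨0, rfl⟩) hmodd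
  have hconst : classInner (fun n : N => (χ : G → ℂ) n) (φ : N → ℂ) ≠ 0 := by
    rw [hinner]
    exact_mod_cast hm0
  obtain ⟨b, hb, hbdvd⟩ := Cfsg.Agent.Lib.Helper24.DegDvd.deg_dvd N φ χ hconst
  have hcl := clifford N χ.2 φ.2 hconst
  have hSfin : ({ψ : N → ℂ | ∃ g : G, ψ = conjChar N (φ : N → ℂ) g}).Finite := by
    have : Fintype (IrrCharacter N) := irrFintype
    apply Set.Finite.subset (Set.finite_range (fun ψ : IrrCharacter N => (ψ : N → ℂ)))
    rintro ψ ⟨g, rfl⟩
    exact ⟨⟨_, conjChar_irr N φ.2 g⟩, rfl⟩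
  have h1 := congrFun hcl 1
  rw [hinner] at h1
  have h2 : (∑ᶠ ψ ∈ {ψ : N → ℂ | ∃ g : G, ψ = conjChar N (φ : N → ℂ) g}, ψ) 1
      = ((hSfin.toFinset.card * d : ℕ) : ℂ) := by
    rw [finsum_mem_eq_finite_toFinset_sum _ hSfin, Finset.sum_apply]
    have h3 : ∀ ψ ∈ hSfin.toFinset, ψ 1 = (d : ℂ) := by
      intro ψ hψ
      rw [Set.Finite.mem_toFinset] at hψ
      obtain ⟨g, rfl⟩ := hψ
      rw [← hd]
      show (φ : N → ℂ) ⟨g * ((1 : N) : G) * g⁻¹, _⟩ = (φ : N → ℂ) 1
      exact congrArg (φ : N → ℂ) (Subtype.ext (by simp))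
    rw [Finset.sum_congr rfl h3, Finset.sum_const, nsmul_eq_mul]
    push_cast
    ring
  have h4 : ((b * d : ℕ) : ℂ) = ((m χ * (hSfin.toFinset.card * d) : ℕ) : ℂ) := by
    push_cast
    rw [← hd, ← hb]
    have h5 : (χ : G → ℂ) 1 = (m χ : ℂ) * (∑ᶠ ψ ∈ {ψ : N → ℂ | ∃ g : G, ψ = conjChar N (φ : N → ℂ) g}, ψ) 1 :=
      h1
    rw [h5, h2, hd]
    push_cast
    ring
  have h5 : b * d = m χ * (hSfin.toFinset.card * d) := by exact_mod_cast h4
  have h6 : b = m χ * hSfin.toFinset.card := by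
    have h7 : b * d = (m χ * hSfin.toFinset.card) * d := by rw [h5]; ring
    exact Nat.eq_of_mul_eq_mul_right hd0 h7
  have h7 : m χ ∣ 2 ^ k := by
    rw [← hidx]
    exact dvd_trans ⟨_, h6⟩ hbdvd
  obtain ⟨j, -, hj⟩ := (Nat.dvd_prime_pow Nat.prime_two).mp h7
  have hj0 : j = 0 := by
    by_contra hne
    rw [hj] at hmodd
    exact (Nat.not_odd_iff_even.mpr ((Nat.even_pow' hne).mpr even_two)) hmodd
  rw [hinner, hj, hj0, pow_zero, Nat.cast_one]

end Cfsg.Agent.Lib.Helper1.DefZeroReal
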