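import Mathlib
import Cfsg.Prelude.Def_Transfer
import Cfsg.Agent.Lib.Helper16.Basic

set_option autoImplicit false
set_option linter.style.haveILetI false
set_option linter.unusedSimpArgs false

namespace Cfsg.Agent.Lib.Helper1.TN

open Cfsg

section QF

variable {E : Type*} [Ring E] {p : ℕ} [Fact p.Prime]

omit [Fact p.Prime] in
theorem quad_pow (X : E) (h : (X - 1) ^ 2 = 0) (i : ℕ) : X ^ i = 1 + (i : E) * (X - 1) := by
  have hN : (X - 1) * (X - 1) = 0 := by rw [← sq]; exact h
  induction i with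
  | zero => simp
  | succ k ih =>
    rw [pow_succ, ih]
    have hX : X = 1 + (X - 1) := by noncomm_ring
    calc (1 + (k : E) * (X - 1)) * X = (1 + (k : E) * (X - 1)) * (1 + (X - 1)) := by rw [← hX]
      _ = 1 + (k : E) * (X - 1) + (X - 1) + (k : E) * ((X - 1) * (X - 1)) := by noncomm_ring
      _ = 1 + ((k + 1 : ℕ) : E) * (X - 1) := by rw [hN]; push_cast; noncomm_ring

theorem quad_sum (hp2 : p ≠ 2) (hpE : (p : E) = 0) (X : E) (h : (X - 1) ^ 2 = 0) :
    ∑ i ∈ Finset.range p, X ^ i = 0 := by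
  have hp := (Fact.out : p.Prime)
  simp_rw [quad_pow X h]
  rw [Finset.sum_add_distrib, ← Finset.sum_mul, Finset.sum_const, Finset.card_range,
    ← Nat.cast_sum, Finset.sum_range_id, nsmul_eq_mul, hpE]
  have hodd : p % 2 = 1 := by
    rcases hp.eq_two_or_odd with h2 | h2
    · exact absurd h2 hp2
    · exact h2
  have h2 : p * (p - 1) / 2 = p * ((p - 1) / 2) := by
    have : 2 ∣ p - 1 := by omega
    exact Nat.mul_div_assoc p this
  rw [h2, Nat.cast_mul, hpE]
  simp

theorem quad_frob (hp2 : p ≠ 2) (hpE : (p : E) = 0)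
    {A : Type*} [CommGroup A] [Finite A] (hA : (Nat.card A).Coprime p)
    (α : A →* A) (n : ℕ) (hα : ∀ a, α^[p ^ n] a = a)
    (ρ : A →* E) (X : E) (hquad : (X - 1) ^ 2 = 0)
    (hconj : ∀ a, X * ρ a = ρ (α a) * X) (a : A) : ρ (a / α a) = 1 := by
  classical
  have hp := (Fact.out : p.Prime)
  set N := p ^ (n + 1) with hNdef
  have hN1 : 1 < N := Nat.one_lt_pow (Nat.succ_ne_zero n) hp.one_lt
  have hαN : ∀ a, α^[N] a = a := by
    intro a
    rw [hNdef, pow_succ, Function.iterate_mul]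
    exact Function.iterate_fixed (hα a) p
  have hAN : (Nat.card A).Coprime N := Nat.Coprime.pow_right _ hA
  -- the subgroup B
  let ψ : A →* A := MonoidHom.id A / α
  have hψ : ∀ a, ψ a = a / α a := fun a => rfl
  obtain ⟨B, hB⟩ : ∃ B : Subgroup A, B = ψ.range := ⟨_, rfl⟩
  have hBα : ∀ b ∈ B, α b ∈ B := by
    intro b hb
    rw [hB] at hb ⊢
    obtain ⟨c, rfl⟩ := hb
    exact ⟨α c, by rw [hψ, hψ, map_div]⟩
  have hBαi : ∀ i : ℕ, ∀ b ∈ B, α^[i] b ∈ B := by
    intro i
    induction i with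
    | zero => intro b hb; simpa using hb
    | succ k ih =>
      intro b hb
      rw [Function.iterate_succ_apply']
      exact hBα _ (ih b hb)
  -- fixed points in B are trivial
  have hfix : ∀ b ∈ B, α b = b → b = 1 := by
    intro b hb hfb
    rw [hB] at hb
    obtain ⟨c, rfl⟩ := hb
    rw [hψ] at hfb ⊢
    have hτ : ∀ c : A, ∏ k ∈ Finset.range N, α^[k] (α c) = ∏ k ∈ Finset.range N, α^[k] c := by
      intro c
      have h1 := Finset.prod_range_succ (fun k => α^[k] c) N
      have h2 := Finset.prod_range_succ' (fun k => α^[k] c) N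
      rw [h1] at h2
      simp only [Function.iterate_succ_apply, Function.iterate_zero, id] at h2
      rw [hαN c] at h2
      exact (mul_right_cancel h2).symm
    have h3 : ∏ k ∈ Finset.range N, α^[k] (c / α c) = 1 := by
      simp_rw [iterate_map_div]
      rw [Finset.prod_div_distrib, hτ c, div_self']
    have h4 : ∀ k : ℕ, α^[k] (c / α c) = c / α c := fun k => Function.iterate_fixed hfb k
    simp_rw [h4] at h3
    rw [Finset.prod_const, Finset.card_range] at h3
    have h5 : (c / α c) ^ Nat.card A = 1 := pow_card_eq_one'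
    have h6 := pow_gcd_eq_one.2 ⟨h5, h3⟩
    rw [Nat.Coprime] at hAN
    rwa [hAN, pow_one] at h6
  have hfixi : ∀ i : ℕ, 0 < i → i < p → ∀ b ∈ B, α^[i] b = b → b = 1 := by
    intro i hi0 hip b hb hfb
    apply hfix b hb
    have hco : Nat.Coprime i N := by
      apply Nat.Coprime.pow_right
      exact Nat.Coprime.symm (Nat.coprime_of_lt_prime hi0.ne' hip hp)
    obtain ⟨j, -, hj⟩ := Nat.exists_mul_mod_eq_one_of_coprime hco hN1
    have h1 : α^[i * j] b = b := by
      rw [Function.iterate_mul]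
      exact Function.iterate_fixed hfb j
    have h2 : i * j = 1 + N * (i * j / N) := by
      have := Nat.mod_add_div (i * j) N
      omega
    rw [h2, Function.iterate_add_apply, Function.iterate_mul] at h1
    have h3 : (α^[N])^[i * j / N] b = b := Function.iterate_fixed (hαN b) _
    rw [h3] at h1
    simpa using h1
  -- the reindexing maps
  haveI : Fintype B := Fintype.ofFinite B
  have hsum : ∀ i : ℕ, 0 < i → i < p →
      ∑ b : B, ρ ((b : A) / α^[i] (b : A)) = ∑ b : B, ρ (b : A) := by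
    intro i hi0 hip
    let σ : B → B := fun b => ⟨(b : A) / α^[i] (b : A), B.div_mem b.2 (hBαi i _ b.2)⟩
    have hσinj : Function.Injective σ := by
      intro b c hbc
      have h1 : (b : A) / α^[i] (b : A) = (c : A) / α^[i] (c : A) := congrArg Subtype.val hbc
      have h2 : α^[i] ((b : A) / (c : A)) = (b : A) / (c : A) := by
        rw [iterate_map_div]
        rw [div_eq_div_iff_mul_eq_mul] at h1 ⊢
        rw [mul_comm, ← h1, mul_comm]
      have h3 := hfixi i hi0 hip _ (B.div_mem b.2 c.2) h2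
      exact Subtype.ext (div_eq_one.1 h3)
    have hσ : Function.Bijective σ := Finite.injective_iff_bijective.1 hσinj
    exact Function.Bijective.sum_comp hσ (fun b : B => ρ (b : A))
  have hXi : ∀ (i : ℕ) (c : A), X ^ i * ρ c = ρ (α^[i] c) * X ^ i := by
    intro i
    induction i with
    | zero => intro c; simp
    | succ k ih =>
      intro c
      rw [pow_succ, mul_assoc, hconj, ← mul_assoc, ih, Function.iterate_succ_apply, mul_assoc]
  obtain ⟨e, he⟩ : ∃ e : E, e = ∑ b : B, ρ (b : A) := ⟨_, rfl⟩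
  have hS0 : ∑ b : B, ρ (b : A) * (∑ i ∈ Finset.range p, X ^ i) * ρ ((b : A)⁻¹) = 0 := by
    rw [quad_sum hp2 hpE X hquad]
    simp
  have hterm : ∀ (b : B) (i : ℕ), ρ (b : A) * X ^ i * ρ ((b : A)⁻¹)
      = ρ ((b : A) / α^[i] (b : A)) * X ^ i := by
    intro b i
    rw [mul_assoc, hXi, ← mul_assoc, ← map_mul, iterate_map_inv, div_eq_mul_inv]
  have hS1 : ∑ b : B, ρ (b : A) * (∑ i ∈ Finset.range p, X ^ i) * ρ ((b : A)⁻¹)
      = ∑ i ∈ Finset.range p, (∑ b : B, ρ ((b : A) / α^[i] (b : A))) * X ^ i := by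
    simp_rw [Finset.mul_sum, Finset.sum_mul]
    rw [Finset.sum_comm]
    apply Finset.sum_congr rfl
    intro i _
    apply Finset.sum_congr rfl
    intro b _
    exact hterm b i
  obtain ⟨k, hk⟩ := Nat.exists_eq_succ_of_ne_zero hp.ne_zero
  have hS2 : ∑ i ∈ Finset.range p, (∑ b : B, ρ ((b : A) / α^[i] (b : A))) * X ^ i
      = e * (∑ i ∈ Finset.range k, X ^ (i + 1)) + (Nat.card B : E) := by
    rw [hk, Finset.sum_range_succ', Finset.mul_sum]
    congr 1
    · apply Finset.sum_congr rfl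
      intro i hi
      rw [hsum (i + 1) (Nat.succ_pos i) (by rw [hk]; exact Nat.succ_lt_succ (Finset.mem_range.1 hi)), he]
    · simp
  have hS3 : ∑ i ∈ Finset.range k, X ^ (i + 1) = -1 := by
    have h1 := quad_sum hp2 hpE X hquad
    rw [hk, Finset.sum_range_succ'] at h1
    simp only [pow_zero] at h1
    exact eq_neg_of_add_eq_zero_left h1
  have heB : e = (Nat.card B : E) := by
    rw [hS1, hS2, hS3] at hS0
    have : e * (-1) + (Nat.card B : E) = 0 := hS0
    rw [mul_neg, mul_one] at this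
    exact (neg_add_eq_zero.1 this)
  have hmul : ∀ b₀ ∈ B, ρ b₀ * e = e := by
    intro b₀ hb₀
    rw [he, Finset.mul_sum]
    simp_rw [← map_mul]
    exact Function.Bijective.sum_comp (Equiv.mulLeft (⟨b₀, hb₀⟩ : B)).bijective
      (fun b : B => ρ (b : A))
  have hBcop : (Nat.card B).Coprime p :=
    Nat.Coprime.coprime_dvd_left (Subgroup.card_subgroup_dvd_card B) hA
  obtain ⟨m, -, hm⟩ := Nat.exists_mul_mod_eq_one_of_coprime hBcop hp.one_lt
  have hunit : (Nat.card B : E) * (m : E) = 1 := by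
    have h1 : Nat.card B * m = 1 + p * (Nat.card B * m / p) := by
      have := Nat.mod_add_div (Nat.card B * m) p
      omega
    rw [← Nat.cast_mul, h1]
    push_cast
    rw [hpE]; simp
  have hone : ∀ b₀ ∈ B, ρ b₀ = 1 := by
    intro b₀ hb₀
    have h1 := hmul b₀ hb₀
    rw [heB] at h1
    calc ρ b₀ = ρ b₀ * ((Nat.card B : E) * (m : E)) := by rw [hunit, mul_one]
      _ = (ρ b₀ * (Nat.card B : E)) * (m : E) := by rw [mul_assoc]
      _ = 1 := by rw [h1, hunit]
  apply hone
  rw [hB]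
  exact ⟨a, rfl⟩

end QF

section QFA

variable {p : ℕ} [Fact p.Prime]

/-- the ring hom-like map from automorphisms to additive endomorphisms -/
def autToEnd (W : Type*) [CommGroup W] : MulAut W →* AddMonoid.End (Additive W) where
  toFun φ := MonoidHom.toAdditive φ.toMonoidHom
  map_one' := by ext w; rfl
  map_mul' φ ψ := by ext w; rfl

theorem autToEnd_apply {W : Type*} [CommGroup W] (φ : MulAut W) (w : Additive W) :
    autToEnd W φ w = Additive.ofMul (φ w.toMul) := rfl

theorem autToEnd_injective (W : Type*) [CommGroup W] : Function.Injective (autToEnd W) := by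
  intro φ ψ h
  ext w
  have := congrArg (fun f : AddMonoid.End (Additive W) => (f (Additive.ofMul w)).toMul) h
  simpa [autToEnd_apply] using this

theorem quad_frob_aut (hp2 : p ≠ 2) {W : Type*} [CommGroup W] (hW : ∀ w : W, w ^ p = 1)
    {G : Type*} [Group G] [Finite G] (ρ' : G →* MulAut W) (K : Subgroup G) [hKn : K.Normal]
    (hKc : ∀ a ∈ K, ∀ b ∈ K, ρ' (a * b) = ρ' (b * a))
    (hKp : ∀ k ∈ K, ∃ m : ℕ, m.Coprime p ∧ ρ' (k ^ m) = 1)
    (x : G) (n : ℕ) (hx : x ^ (p ^ n) = 1)
    (hq : ∀ w : W, ρ' x (ρ' x w / w) = ρ' x w / w) :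
    ∀ k ∈ K, ρ' (k * x * k⁻¹ * x⁻¹) = 1 := by
  classical
  have hp := (Fact.out : p.Prime)
  obtain ⟨A, hAdef⟩ : ∃ A : Subgroup (MulAut W), A = K.map ρ' := ⟨_, rfl⟩
  have hAmem : ∀ a ∈ A, ∃ k ∈ K, ρ' k = a := by
    intro a ha; rw [hAdef] at ha; exact ha
  have hAc : ∀ a ∈ A, ∀ b ∈ A, a * b = b * a := by
    intro a ha b hb
    obtain ⟨k, hk, rfl⟩ := hAmem a ha
    obtain ⟨l, hl, rfl⟩ := hAmem b hb
    rw [← map_mul, ← map_mul]
    exact hKc k hk l hl
  letI : CommGroup A := { (inferInstance : Group A) with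
    mul_comm := fun a b => Subtype.ext (hAc a a.2 b b.2) }
  haveI : Finite A := by
    rw [hAdef]
    exact Finite.of_surjective (ρ'.subgroupMap K) (ρ'.subgroupMap_surjective K)
  have hAcop : (Nat.card A).Coprime p := by
    rw [Nat.coprime_comm, Nat.Prime.coprime_iff_not_dvd hp]
    intro hdvd
    obtain ⟨a, ha⟩ := exists_prime_orderOf_dvd_card' p hdvd
    obtain ⟨k, hk, hka⟩ := hAmem a a.2
    obtain ⟨m, hm, hkm⟩ := hKp k hk
    have h1 : (a : MulAut W) ^ m = 1 := by rw [← hka, ← map_pow]; exact hkm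
    have h2 : orderOf (a : MulAut W) ∣ m := orderOf_dvd_of_pow_eq_one h1
    rw [Subgroup.orderOf_coe, ha] at h2
    have := Nat.Coprime.eq_one_of_dvd hm.symm h2
    exact hp.one_lt.ne' this
  have hαmem : ∀ a ∈ A, ρ' x * a * (ρ' x)⁻¹ ∈ A := by
    intro a ha
    obtain ⟨k, hk, rfl⟩ := hAmem a ha
    rw [hAdef]
    exact ⟨x * k * x⁻¹, hKn.conj_mem k hk x, by simp⟩
  let α : A →* A := MonoidHom.mk' (fun a => ⟨ρ' x * (a : MulAut W) * (ρ' x)⁻¹, hαmem a a.2⟩)
    (fun a b => by apply Subtype.ext; simp [mul_assoc])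
  have hαdef : ∀ a : A, ((α a : A) : MulAut W) = ρ' x * (a : MulAut W) * (ρ' x)⁻¹ := fun a => rfl
  have hαit : ∀ (j : ℕ) (a : A), ((α^[j] a : A) : MulAut W)
      = (ρ' x) ^ j * (a : MulAut W) * ((ρ' x) ^ j)⁻¹ := by
    intro j
    induction j with
    | zero => intro a; simp
    | succ i ih =>
      intro a
      rw [Function.iterate_succ_apply', hαdef, ih, pow_succ']
      group
  have hα : ∀ a : A, α^[p ^ n] a = a := by
    intro a
    apply Subtype.ext
    rw [hαit, ← map_pow, hx, map_one]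
    simp
  let E := AddMonoid.End (Additive W)
  have hpE : ((p : ℕ) : E) = 0 := by
    ext w
    change ((p : ℕ) : AddMonoid.End (Additive W)) w = 0
    rw [AddMonoid.End.natCast_apply]
    change Additive.ofMul (w.toMul ^ p) = 0
    rw [hW]; rfl
  let ρ : A →* E := (autToEnd W).comp A.subtype
  have hρ : ∀ a : A, ρ a = autToEnd W (a : MulAut W) := fun a => rfl
  have hquad : (autToEnd W (ρ' x) - 1) ^ 2 = 0 := by
    rw [sq]
    ext w
    change (autToEnd W (ρ' x) - 1) ((autToEnd W (ρ' x) - 1) w) = 0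
    have h1 : ∀ u : Additive W, (autToEnd W (ρ' x) - 1) u
        = Additive.ofMul (ρ' x u.toMul / u.toMul) := by
      intro u; rfl
    rw [h1, h1]
    simp only [toMul_ofMul]
    rw [hq, div_self']
    rfl
  have hconj : ∀ a : A, autToEnd W (ρ' x) * ρ a = ρ (α a) * autToEnd W (ρ' x) := by
    intro a
    rw [hρ, hρ, hαdef, ← map_mul, ← map_mul]
    congr 1
    group
  intro k hk
  have hka : ρ' k ∈ A := by rw [hAdef]; exact ⟨k, hk, rfl⟩
  have key := quad_frob hp2 hpE hAcop α n hα ρ (autToEnd W (ρ' x)) hquad hconj ⟨ρ' k, hka⟩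
  rw [hρ] at key
  have h2 : (((⟨ρ' k, hka⟩ : A) / α ⟨ρ' k, hka⟩ : A) : MulAut W) = ρ' (k * x * k⁻¹ * x⁻¹) := by
    rw [Subgroup.coe_div, hαdef, div_eq_mul_inv]
    simp only [map_mul, map_inv]
    group
  rw [h2] at key
  apply autToEnd_injective W
  rw [key, map_one]

theorem conjNormal_eq_one_iff {G : Type*} [Group G] (V : Subgroup G) [V.Normal] (g : G) :
    (MulAut.conjNormal g : MulAut V) = 1 ↔ g ∈ Subgroup.centralizer (V : Set G) := by
  rw [Subgroup.mem_centralizer_iff]
  constructor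
  · intro h v hv
    have h1 := congrArg (fun φ : MulAut V => ((φ ⟨v, hv⟩ : V) : G)) h
    simp only [MulAut.conjNormal_apply, MulAut.one_apply] at h1
    calc v * g = (g * v * g⁻¹) * g := by rw [h1]
      _ = g * v := by group
  · intro h
    ext v
    rw [MulAut.conjNormal_apply, MulAut.one_apply, ← h v v.2]
    group

/-- the quadratic-action lemma: an element of `p`-power order acting quadratically on a normal
elementary abelian `p`-subgroup `V` (`p` odd) centralizes, modulo `C(V)`, every normal subgroup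
`K` which is abelian and `p'` modulo `C(V)`. -/
theorem quad_comm_mem (hp2 : p ≠ 2) {G : Type*} [Group G] [Finite G] (V : Subgroup G)
    [hVn : V.Normal] (hVc : ∀ a ∈ V, ∀ b ∈ V, a * b = b * a) (hVp : ∀ v ∈ V, v ^ p = 1)
    (K : Subgroup G) [hKn : K.Normal]
    (hKc : ∀ a ∈ K, ∀ b ∈ K, a * b * a⁻¹ * b⁻¹ ∈ Subgroup.centralizer (V : Set G))
    (hKp : ∀ k ∈ K, ∃ m : ℕ, m.Coprime p ∧ k ^ m ∈ Subgroup.centralizer (V : Set G))
    (x : G) (n : ℕ) (hx : x ^ (p ^ n) = 1)
    (hq : ∀ v ∈ V, x * (x * v * x⁻¹ * v⁻¹) * x⁻¹ = x * v * x⁻¹ * v⁻¹) :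
    ∀ k ∈ K, k * x * k⁻¹ * x⁻¹ ∈ Subgroup.centralizer (V : Set G) := by
  letI : CommGroup V := { (inferInstance : Group V) with
    mul_comm := fun a b => Subtype.ext (hVc a a.2 b b.2) }
  have hW : ∀ w : V, w ^ p = 1 := fun w => Subtype.ext (by
    rw [Subgroup.coe_pow]; exact hVp w w.2)
  intro k hk
  rw [← conjNormal_eq_one_iff]
  refine quad_frob_aut hp2 hW (MulAut.conjNormal : G →* MulAut V) K ?_ ?_ x n hx ?_ k hk
  · intro a ha b hb
    have h1 := (conjNormal_eq_one_iff V _).2 (hKc a ha b hb)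
    have h2 : a * b = (a * b * a⁻¹ * b⁻¹) * (b * a) := by group
    rw [h2, map_mul, h1, one_mul]
  · intro k hk
    obtain ⟨m, hm, hkm⟩ := hKp k hk
    exact ⟨m, hm, (conjNormal_eq_one_iff V _).2 hkm⟩
  · intro w
    apply Subtype.ext
    have h1 := hq w w.2
    simp only [MulAut.conjNormal_apply, Subgroup.coe_div, div_eq_mul_inv]
    exact h1

end QFA

end Cfsg.Agent.Lib.Helper1.TN
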