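import Mathlib

/-!
Sylow `p`-subgroups of symmetric and alternating groups have elementary abelian
abelianization.  Explicit recursion: inside `Perm (A × ZMod p)` the subgroup
`F_p^A ⋊ Q` with `Q` a Sylow subgroup of `Perm A`.
-/

namespace Cfsg.Agent.Lib.Helper1.SylSym

section general
variable {G G' : Type*} [Group G] [Group G']

/-- every `p`-th power lies in the derived subgroup -/
def Good (p : ℕ) (K : Subgroup G) : Prop := ∀ x ∈ K, x ^ p ∈ ⁅K, K⁆

lemma good_map {p : ℕ} {K : Subgroup G} (f : G →* G') (h : Good p K) : Good p (K.map f) := by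
  rintro _ ⟨x, hx, rfl⟩
  rw [← map_pow, ← Subgroup.map_commutator]
  exact Subgroup.mem_map_of_mem f (h x hx)

lemma good_of_map {p : ℕ} {K : Subgroup G} (f : G →* G') (hf : Function.Injective f)
    (h : Good p (K.map f)) : Good p K := by
  intro x hx
  have h1 := h (f x) (Subgroup.mem_map_of_mem f hx)
  rw [← map_pow, ← Subgroup.map_commutator] at h1
  obtain ⟨y, hy, hyx⟩ := h1
  rwa [← hf hyx]

lemma map_subtype_commutator (K : Subgroup G) : (commutator K).map K.subtype = ⁅K, K⁆ := by
  rw [commutator_def, Subgroup.map_commutator, ← MonoidHom.range_eq_map, Subgroup.range_subtype]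

lemma good_iff {p : ℕ} (K : Subgroup G) : Good p K ↔ ∀ x : K, x ^ p ∈ commutator K := by
  constructor
  · intro h x
    have h1 := h x x.2
    rw [← map_subtype_commutator] at h1
    obtain ⟨y, hy, hyx⟩ := h1
    have : y = x ^ p := Subtype.ext (by simpa using hyx)
    rwa [← this]
  · intro h x hx
    rw [← map_subtype_commutator]
    exact ⟨⟨x, hx⟩ ^ p, h ⟨x, hx⟩, by simp⟩

lemma good_of_decomp {p : ℕ} (K T : Subgroup G) (hT : T ≤ K) (hTg : Good p T)
    (h : ∀ x ∈ K, ∃ b ∈ K, ∃ t ∈ T, b ^ p = 1 ∧ x = b * t) : Good p K := by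
  rw [good_iff]
  intro x
  obtain ⟨b, hb, t, ht, hbp, hx⟩ := h x x.2
  have hx' : x = (⟨b, hb⟩ : K) * ⟨t, hT ht⟩ := Subtype.ext hx
  have h1 : (⟨b, hb⟩ : K) ^ p = 1 := Subtype.ext (by simpa using hbp)
  have h2 : (⟨t, hT ht⟩ : K) ^ p ∈ commutator K := by
    have h3 := hTg t ht
    have h4 : ⁅T, T⁆ ≤ ⁅K, K⁆ := Subgroup.commutator_mono hT hT
    have h5 := h4 h3
    rw [← map_subtype_commutator] at h5
    obtain ⟨y, hy, hyx⟩ := h5
    have : y = (⟨t, hT ht⟩ : K) ^ p := Subtype.ext (by simpa using hyx)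
    rwa [← this]
  rw [← Abelianization.ker_of, MonoidHom.mem_ker] at h2 ⊢
  rw [hx', map_pow, map_mul, mul_pow, ← map_pow, ← map_pow, h1, map_one, one_mul, h2]

lemma good_bot {p : ℕ} : Good p (⊥ : Subgroup G) := by
  intro x hx
  rw [Subgroup.mem_bot] at hx
  subst hx
  simp

end general

section perm
variable (A : Type) (p : ℕ) [Fact p.Prime]

/-- the base group `F_p^A` acting on `A × ZMod p` -/
def baseHom : Multiplicative (A → ZMod p) →* Equiv.Perm (A × ZMod p) where
  toFun f := ⟨fun y => (y.1, y.2 + Multiplicative.toAdd f y.1),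
    fun y => (y.1, y.2 - Multiplicative.toAdd f y.1), fun y => by simp, fun y => by simp⟩
  map_one' := by ext y <;> simp
  map_mul' f g := by
    ext y
    · simp
    · simp only [toAdd_mul, Pi.add_apply, Equiv.Perm.coe_mul, Function.comp_apply, Equiv.coe_fn_mk]
      abel

/-- the top group `Perm A` acting on `A × ZMod p` -/
def topHom : Equiv.Perm A →* Equiv.Perm (A × ZMod p) where
  toFun σ := ⟨fun y => (σ y.1, y.2), fun y => (σ.symm y.1, y.2), fun y => by simp, fun y => by simp⟩
  map_one' := by ext y <;> simp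
  map_mul' σ τ := by ext y <;> simp

lemma baseHom_apply (f : Multiplicative (A → ZMod p)) (y : A × ZMod p) :
    baseHom A p f y = (y.1, y.2 + Multiplicative.toAdd f y.1) := rfl

lemma topHom_apply (σ : Equiv.Perm A) (y : A × ZMod p) : topHom A p σ y = (σ y.1, y.2) := rfl

lemma conj_rel (σ : Equiv.Perm A) (f : Multiplicative (A → ZMod p)) :
    topHom A p σ * baseHom A p f =
      baseHom A p (Multiplicative.ofAdd (fun a => Multiplicative.toAdd f (σ.symm a))) * topHom A p σ := by
  ext y <;> simp [baseHom_apply, topHom_apply]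

lemma baseHom_pow (f : Multiplicative (A → ZMod p)) : baseHom A p f ^ p = 1 := by
  rw [← map_pow]
  have : f ^ p = 1 := by
    apply Multiplicative.toAdd.injective
    ext a
    simp
  rw [this, map_one]

/-- the wreath-type subgroup `F_p^A ⋊ Q` -/
def wrSub (Q : Subgroup (Equiv.Perm A)) : Subgroup (Equiv.Perm (A × ZMod p)) where
  carrier := {x | ∃ f, ∃ σ ∈ Q, x = baseHom A p f * topHom A p σ}
  one_mem' := ⟨1, 1, Q.one_mem, by simp⟩
  mul_mem' := by
    rintro _ _ ⟨f, σ, hσ, rfl⟩ ⟨f', σ', hσ', rfl⟩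
    refine ⟨f * Multiplicative.ofAdd (fun a => Multiplicative.toAdd f' (σ.symm a)), σ * σ',
      Q.mul_mem hσ hσ', ?_⟩
    rw [map_mul, map_mul, mul_assoc, ← mul_assoc (topHom A p σ), conj_rel]
    simp only [mul_assoc]
  inv_mem' := by
    rintro _ ⟨f, σ, hσ, rfl⟩
    refine ⟨Multiplicative.ofAdd (fun a => Multiplicative.toAdd f⁻¹ (σ⁻¹.symm a)), σ⁻¹,
      Q.inv_mem hσ, ?_⟩
    rw [mul_inv_rev, ← map_inv, ← map_inv, conj_rel]

lemma mem_wrSub (Q : Subgroup (Equiv.Perm A)) (x : Equiv.Perm (A × ZMod p)) :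
    x ∈ wrSub A p Q ↔ ∃ f, ∃ σ ∈ Q, x = baseHom A p f * topHom A p σ := Iff.rfl

lemma wrSub_card [Finite A] (Q : Subgroup (Equiv.Perm A)) :
    Nat.card (wrSub A p Q) = p ^ Nat.card A * Nat.card Q := by
  have hinj : Function.Injective (fun x : (A → ZMod p) × Q =>
      (⟨baseHom A p (Multiplicative.ofAdd x.1) * topHom A p x.2.1,
        Multiplicative.ofAdd x.1, x.2.1, x.2.2, rfl⟩ : wrSub A p Q)) := by
    rintro ⟨f, σ, hσ⟩ ⟨f', σ', hσ'⟩ h
    have h1 : baseHom A p (Multiplicative.ofAdd f) * topHom A p σ =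
        baseHom A p (Multiplicative.ofAdd f') * topHom A p σ' := congrArg Subtype.val h
    have h2 : ∀ a, σ a = σ' a ∧ f (σ a) = f' (σ' a) := by
      intro a
      have h3 := congrArg (fun π => π (a, (0 : ZMod p))) h1
      simp only [Equiv.Perm.coe_mul, Function.comp_apply, baseHom_apply, topHom_apply,
        toAdd_ofAdd, zero_add, Prod.mk.injEq] at h3
      exact h3
    have h4 : σ = σ' := Equiv.ext fun a => (h2 a).1
    subst h4
    have h5 : f = f' := by
      funext a
      have := (h2 (σ.symm a)).2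
      simpa using this
    subst h5
    rfl
  have hsurj : Function.Surjective (fun x : (A → ZMod p) × Q =>
      (⟨baseHom A p (Multiplicative.ofAdd x.1) * topHom A p x.2.1,
        Multiplicative.ofAdd x.1, x.2.1, x.2.2, rfl⟩ : wrSub A p Q)) := by
    rintro ⟨x, f, σ, hσ, rfl⟩
    exact ⟨⟨Multiplicative.toAdd f, ⟨σ, hσ⟩⟩, rfl⟩
  rw [← Nat.card_congr (Equiv.ofBijective _ ⟨hinj, hsurj⟩), Nat.card_prod, Nat.card_fun,
    Nat.card_zmod]

lemma wrSub_good (Q : Subgroup (Equiv.Perm A)) (hQ : Good p Q) : Good p (wrSub A p Q) := by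
  apply good_of_decomp (wrSub A p Q) (Q.map (topHom A p)) ?_ (good_map _ hQ)
  · rintro x ⟨f, σ, hσ, rfl⟩
    exact ⟨baseHom A p f, ⟨f, 1, Q.one_mem, by simp⟩, topHom A p σ, Subgroup.mem_map_of_mem _ hσ,
      baseHom_pow A p f, rfl⟩
  · rintro _ ⟨σ, hσ, rfl⟩
    exact ⟨1, σ, hσ, by simp⟩

lemma sign_topHom [Fintype A] [DecidableEq A] (hp : p = 2) (σ : Equiv.Perm A) :
    Equiv.Perm.sign (topHom A p σ) = 1 := by
  have h1 : topHom A p σ = Equiv.prodCongrLeft (fun _ : ZMod p => σ) := by
    ext y <;> rfl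
  rw [h1, Equiv.Perm.sign_prodCongrLeft, Finset.prod_const, Finset.card_univ, ZMod.card, hp]
  exact Int.units_sq _

lemma wrSub_alt_good [Fintype A] [DecidableEq A] (hp : p = 2) (Q : Subgroup (Equiv.Perm A))
    (hQ : Good p Q) : Good p (wrSub A p Q ⊓ alternatingGroup (A × ZMod p)) := by
  apply good_of_decomp _ (Q.map (topHom A p)) ?_ (good_map _ hQ)
  · rintro x ⟨⟨f, σ, hσ, rfl⟩, hx2⟩
    refine ⟨baseHom A p f, ⟨⟨f, 1, Q.one_mem, by simp⟩, ?_⟩, topHom A p σ,
      Subgroup.mem_map_of_mem _ hσ, baseHom_pow A p f, rfl⟩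
    have hx3 := Equiv.Perm.mem_alternatingGroup.1 hx2
    rw [map_mul, sign_topHom A p hp, mul_one] at hx3
    exact Equiv.Perm.mem_alternatingGroup.2 hx3
  · rintro _ ⟨σ, hσ, rfl⟩
    exact ⟨⟨1, σ, hσ, by simp⟩, Equiv.Perm.mem_alternatingGroup.2 (sign_topHom A p hp σ)⟩

end perm

section main
open Nat Pointwise

/-- the embedding `Perm γ → Perm α` along `α ≃ γ ⊕ R` -/
noncomputable def emb {α γ R : Type} (e : α ≃ γ ⊕ R) : Equiv.Perm γ →* Equiv.Perm α :=
  (Equiv.permCongrHom e.symm).toMonoidHom.comp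
    ((Equiv.Perm.sumCongrHom γ R).comp (MonoidHom.inl _ _))

lemma emb_injective {α γ R : Type} (e : α ≃ γ ⊕ R) : Function.Injective (emb e) := by
  unfold emb
  rw [MonoidHom.coe_comp, MonoidHom.coe_comp]
  exact (Equiv.permCongrHom e.symm).injective.comp
    (Equiv.Perm.sumCongrHom_injective.comp
      (fun a b h => by simpa using congrArg Prod.fst h))

lemma sign_emb {α γ R : Type} [Fintype α] [DecidableEq α] [Fintype γ] [DecidableEq γ]
    [Fintype R] [DecidableEq R] (e : α ≃ γ ⊕ R) (π : Equiv.Perm γ) :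
    Equiv.Perm.sign (emb e π) = Equiv.Perm.sign π := by
  have h1 : emb e π = e.symm.permCongr (Equiv.sumCongr π (1 : Equiv.Perm R)) := rfl
  rw [h1, Equiv.Perm.sign_permCongr]
  have h2 : Equiv.Perm.sign (Equiv.Perm.sumCongr π (1 : Equiv.Perm R)) =
      Equiv.Perm.sign π * Equiv.Perm.sign (1 : Equiv.Perm R) := Equiv.Perm.sign_sumCongr π 1
  rw [map_one, mul_one] at h2
  exact h2

theorem main (p : ℕ) [Fact p.Prime] : ∀ (n : ℕ) (α : Type) [Fintype α] [DecidableEq α],
    Fintype.card α = n → ∀ P : Sylow p (Equiv.Perm α),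
      Good p (P : Subgroup (Equiv.Perm α)) ∧
      (p = 2 → Good p ((P : Subgroup (Equiv.Perm α)) ⊓ alternatingGroup α)) := by
  intro n
  induction n using Nat.strong_induction_on with
  | _ n ih =>
  intro α _ _ hα P
  have hp := Fact.out (p := p.Prime)
  have key : ∃ H : Subgroup (Equiv.Perm α), Good p H ∧
      (p = 2 → Good p (H ⊓ alternatingGroup α)) ∧ IsPGroup p H ∧
      p ^ (padicValNat p n !) ≤ Nat.card H := by
    by_cases hnp : n < p
    · refine ⟨⊥, good_bot, fun _ => ?_, IsPGroup.of_bot, ?_⟩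
      · rw [bot_inf_eq]; exact good_bot
      · have h1 : ¬ p ∣ n ! := by
          rw [hp.dvd_factorial]; omega
        rw [padicValNat.eq_zero_of_not_dvd h1, pow_zero, Subgroup.card_bot]
    · push Not at hnp
      have hm : n / p < n := Nat.div_lt_self (by have := hp.two_le; omega) hp.one_lt
      have hr : n % p < p := Nat.mod_lt _ hp.pos
      set m := n / p with hm_def
      set r := n % p with hr_def
      have hn : p * m + r = n := Nat.div_add_mod n p
      let Q₀ : Sylow p (Equiv.Perm (Fin m)) := default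
      have hQ₀ := (ih m hm (Fin m) (Fintype.card_fin m) Q₀).1
      have hcard : Fintype.card α = Fintype.card ((Fin m × ZMod p) ⊕ Fin r) := by
        rw [hα, Fintype.card_sum, Fintype.card_prod, Fintype.card_fin, Fintype.card_fin, ZMod.card,
          mul_comm, hn]
      let e : α ≃ (Fin m × ZMod p) ⊕ Fin r := Fintype.equivOfCardEq hcard
      refine ⟨(wrSub (Fin m) p Q₀).map (emb e), good_map _ (wrSub_good _ p _ hQ₀), fun h2 => ?_, ?_⟩
      · have h3 : (wrSub (Fin m) p Q₀).map (emb e) ⊓ alternatingGroup α =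
            (wrSub (Fin m) p Q₀ ⊓ alternatingGroup (Fin m × ZMod p)).map (emb e) := by
          ext x
          constructor
          · rintro ⟨⟨w, hw, rfl⟩, hx⟩
            refine ⟨w, ⟨hw, ?_⟩, rfl⟩
            have := Equiv.Perm.mem_alternatingGroup.1 hx
            rw [sign_emb] at this
            exact Equiv.Perm.mem_alternatingGroup.2 this
          · rintro ⟨w, ⟨hw, hw2⟩, rfl⟩
            refine ⟨⟨w, hw, rfl⟩, ?_⟩
            apply Equiv.Perm.mem_alternatingGroup.2
            rw [sign_emb]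
            exact Equiv.Perm.mem_alternatingGroup.1 hw2
        rw [h3]
        exact good_map _ (wrSub_alt_good _ p h2 _ hQ₀)
      · have hc : Nat.card ((wrSub (Fin m) p Q₀).map (emb e)) = p ^ (m + padicValNat p m !) := by
          rw [Subgroup.card_map_of_injective (emb_injective e), wrSub_card,
            Sylow.card_eq_multiplicity, Nat.card_perm, Nat.card_eq_fintype_card, Fintype.card_fin,
            Nat.factorization_def _ hp, pow_add]
        have hv : padicValNat p n ! = m + padicValNat p m ! := by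
          rw [← hn, padicValNat_factorial_mul_add m hr, padicValNat_factorial_mul, add_comm]
        exact ⟨IsPGroup.of_card hc, by rw [hc, hv]⟩
  obtain ⟨H, hH1, hH2, hH3, hH4⟩ := key
  obtain ⟨P', hP'⟩ := hH3.exists_le_sylow
  have hcard : Nat.card P' = p ^ padicValNat p n ! := by
    rw [Sylow.card_eq_multiplicity, Nat.card_perm, Nat.card_eq_fintype_card, hα,
      Nat.factorization_def _ hp]
  have hHP : H = P' := Subgroup.eq_of_le_of_card_ge hP' (by rw [hcard]; exact hH4)
  obtain ⟨g, hg⟩ := MulAction.exists_smul_eq (Equiv.Perm α) P' P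
  have hP : (P : Subgroup (Equiv.Perm α)) = MulAut.conj g • H := by
    rw [hHP, ← Sylow.coe_subgroup_smul, hg]
  constructor
  · rw [hP, Subgroup.pointwise_smul_def]
    exact good_map _ hH1
  · intro h2
    have h3 : (P : Subgroup (Equiv.Perm α)) ⊓ alternatingGroup α =
        MulAut.conj g • (H ⊓ alternatingGroup α) := by
      rw [Subgroup.smul_inf, ← hP, Subgroup.Normal.conj_smul_eq_self]
    rw [h3, Subgroup.pointwise_smul_def]
    exact good_map _ (hH2 h2)

/-- Sylow subgroups of alternating groups -/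
theorem main_alt (p : ℕ) [Fact p.Prime] (α : Type) [Fintype α] [DecidableEq α]
    (Q : Sylow p (alternatingGroup α)) : Good p (Q : Subgroup (alternatingGroup α)) := by
  have hp := Fact.out (p := p.Prime)
  have hmain := main p (Fintype.card α) α rfl
  apply good_of_map (alternatingGroup α).subtype (Subgroup.subtype_injective _)
  obtain ⟨P', hP'⟩ := (IsPGroup.map Q.isPGroup' (alternatingGroup α).subtype).exists_le_sylow
  have hQ : (Q : Subgroup (alternatingGroup α)).map (alternatingGroup α).subtype =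
      (P' : Subgroup (Equiv.Perm α)) ⊓ alternatingGroup α := by
    have h1 : ((P' : Subgroup (Equiv.Perm α)) ⊓ alternatingGroup α).subgroupOf (alternatingGroup α)
        = Q := by
      apply Q.is_maximal'
      · exact (P'.isPGroup'.to_le inf_le_left).comap_subtype
      · intro x hx
        rw [Subgroup.mem_subgroupOf]
        exact ⟨hP' (Subgroup.mem_map_of_mem _ hx), x.2⟩
    rw [← h1, Subgroup.map_subgroupOf_eq_of_le inf_le_right]
  rw [hQ]
  by_cases h2 : p = 2
  · exact (hmain P').2 h2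
  · have h3 : (P' : Subgroup (Equiv.Perm α)) ≤ alternatingGroup α := by
      intro x hx
      obtain ⟨k, hk⟩ := P'.isPGroup' ⟨x, hx⟩
      have hk' : x ^ p ^ k = 1 := by
        have := congrArg Subtype.val hk
        simpa using this
      have h4 : Equiv.Perm.sign x ^ p ^ k = 1 := by rw [← map_pow, hk', map_one]
      apply Equiv.Perm.mem_alternatingGroup.2
      rcases Int.units_eq_one_or (Equiv.Perm.sign x) with h5 | h5
      · exact h5
      · exfalso
        rw [h5, Odd.neg_one_pow ((hp.odd_of_ne_two h2).pow)] at h4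
        exact absurd h4 (by decide)
    rw [inf_eq_left.2 h3]
    exact (hmain P').1

end main

end Cfsg.Agent.Lib.Helper1.SylSym
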