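import Mathlib
import Cfsg.Agent.Lib.Helper1.SylSym

/-!
General lemmas on `Good p K` (every `p`-th power lies in the derived subgroup):
closure under joins, finite products, transfer along isomorphisms; quaternion groups;
semidirect-type products of subgroups.
-/

namespace Cfsg.Agent.Lib.Helper1.SylSp

open Cfsg.Agent.Lib.Helper1.SylSym
open scoped commutatorElement

section general
variable {G G' : Type*} [Group G] [Group G']

/-- the subgroup of `K` of elements whose `p`-th power lies in `[K, K]` -/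
def gk (p : ℕ) (K : Subgroup G) : Subgroup G :=
  (MonoidHom.ker ((powMonoidHom p : Abelianization K →* Abelianization K).comp
    (Abelianization.of (G := K)))).map K.subtype

lemma mem_gk {p : ℕ} {K : Subgroup G} {x : G} : x ∈ gk p K ↔ x ∈ K ∧ x ^ p ∈ ⁅K, K⁆ := by
  unfold gk
  constructor
  · rintro ⟨y, hy, rfl⟩
    refine ⟨y.2, ?_⟩
    rw [SetLike.mem_coe, MonoidHom.mem_ker, MonoidHom.comp_apply, powMonoidHom_apply, ← map_pow,
      ← MonoidHom.mem_ker, Abelianization.ker_of] at hy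
    rw [← map_subtype_commutator]
    exact ⟨y ^ p, hy, by simp⟩
  · rintro ⟨hx, hxp⟩
    refine ⟨⟨x, hx⟩, ?_, rfl⟩
    rw [← map_subtype_commutator] at hxp
    obtain ⟨y, hy, hyx⟩ := hxp
    have : y = (⟨x, hx⟩ : K) ^ p := Subtype.ext (by simpa using hyx)
    rw [SetLike.mem_coe, MonoidHom.mem_ker, MonoidHom.comp_apply, powMonoidHom_apply, ← map_pow,
      ← MonoidHom.mem_ker, Abelianization.ker_of, ← this]
    exact hy

lemma good_iff_le_gk {p : ℕ} {K : Subgroup G} : Good p K ↔ K ≤ gk p K := by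
  constructor
  · intro h x hx
    exact mem_gk.2 ⟨hx, h x hx⟩
  · intro h x hx
    exact (mem_gk.1 (h hx)).2

lemma le_gk_of_good {p : ℕ} {H K : Subgroup G} (hHK : H ≤ K) (hH : Good p H) : H ≤ gk p K := by
  intro x hx
  exact mem_gk.2 ⟨hHK hx, Subgroup.commutator_mono hHK hHK (hH x hx)⟩

lemma good_sup {p : ℕ} {B T : Subgroup G} (hB : Good p B) (hT : Good p T) : Good p (B ⊔ T) :=
  good_iff_le_gk.2 (sup_le (le_gk_of_good le_sup_left hB) (le_gk_of_good le_sup_right hT))

lemma good_pi {p : ℕ} {ι : Type*} [Finite ι] [DecidableEq ι] {H : Type*} [Group H]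
    (Q : Subgroup H) (hQ : Good p Q) :
    Good p (Subgroup.pi Set.univ (fun _ : ι => Q)) := by
  rw [good_iff_le_gk]
  intro x hx
  apply Subgroup.pi_mem_of_mulSingle_mem
  intro i
  have h1 : Q.map (MonoidHom.mulSingle (fun _ : ι => H) i) ≤
      Subgroup.pi Set.univ (fun _ : ι => Q) := by
    rintro _ ⟨y, hy, rfl⟩ j _
    by_cases hj : j = i
    · subst hj; simpa using hy
    · simp [hj]
  exact le_gk_of_good h1 (good_map _ hQ) ⟨x i, hx i (Set.mem_univ i), rfl⟩

/-- the group version -/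
def GoodG (p : ℕ) (H : Type*) [Group H] : Prop := ∀ x : H, x ^ p ∈ commutator H

lemma goodG_of_equiv {p : ℕ} (e : G ≃* G') (h : GoodG p G') : GoodG p G := by
  intro x
  have h1 := h (e x)
  have h2 : commutator G = (commutator G').map e.symm.toMonoidHom := by
    rw [commutator_def, commutator_def, Subgroup.map_commutator,
      Subgroup.map_top_of_surjective _ e.symm.surjective]
  rw [h2]
  exact ⟨e x ^ p, h1, by simp⟩

lemma good_iff_goodG {p : ℕ} (K : Subgroup G) : Good p K ↔ GoodG p K := good_iff K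

end general

section quaternion

lemma quaternion_goodG (n : ℕ) (hn : Even n) : GoodG 2 (QuaternionGroup n) := by
  have key : ∀ j : ZMod (2 * n), QuaternionGroup.a (2 * j) ∈ commutator (QuaternionGroup n) := by
    intro j
    rw [commutator_def]
    have h1 : ⁅QuaternionGroup.xa (0 : ZMod (2 * n)), QuaternionGroup.a (-j)⁆ =
        QuaternionGroup.a (2 * j) := by
      rw [commutatorElement_def, mul_inv_eq_iff_eq_mul, mul_inv_eq_iff_eq_mul]
      simp only [QuaternionGroup.xa_mul_a, QuaternionGroup.a_mul_a, QuaternionGroup.a_mul_xa]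
      congr 1
      ring
    rw [← h1]
    exact Subgroup.commutator_mem_commutator (Subgroup.mem_top _) (Subgroup.mem_top _)
  intro x
  rcases x with i | i
  · have : (QuaternionGroup.a i : QuaternionGroup n) ^ 2 = QuaternionGroup.a (2 * i) := by
      rw [pow_two, QuaternionGroup.a_mul_a]; congr 1; ring
    rw [this]
    exact key i
  · obtain ⟨m, hm⟩ := hn
    have : (QuaternionGroup.xa i : QuaternionGroup n) ^ 2 = QuaternionGroup.a (2 * (m : ZMod (2 * n))) := by
      rw [pow_two, QuaternionGroup.xa_mul_xa]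
      congr 1
      have h3 : ((n : ℕ) : ZMod (2 * n)) = ((m + m : ℕ) : ZMod (2 * n)) := congrArg Nat.cast hm
      rw [h3]
      push_cast
      ring
    rw [this]
    exact key _

end quaternion

section prod
variable {G : Type*} [Group G]

/-- `B * T` as a subgroup when `T` normalizes `B` -/
def prodSub (B T : Subgroup G) (h : ∀ t ∈ T, ∀ b ∈ B, t * b * t⁻¹ ∈ B) : Subgroup G where
  carrier := {x | ∃ b ∈ B, ∃ t ∈ T, x = b * t}
  one_mem' := ⟨1, B.one_mem, 1, T.one_mem, by simp⟩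
  mul_mem' := by
    rintro _ _ ⟨b, hb, t, ht, rfl⟩ ⟨b', hb', t', ht', rfl⟩
    refine ⟨b * (t * b' * t⁻¹), B.mul_mem hb (h t ht b' hb'), t * t', T.mul_mem ht ht', ?_⟩
    group
  inv_mem' := by
    rintro _ ⟨b, hb, t, ht, rfl⟩
    refine ⟨t⁻¹ * b⁻¹ * t⁻¹⁻¹, h t⁻¹ (T.inv_mem ht) b⁻¹ (B.inv_mem hb), t⁻¹, T.inv_mem ht, ?_⟩
    group

lemma prodSub_eq_sup (B T : Subgroup G) (h : ∀ t ∈ T, ∀ b ∈ B, t * b * t⁻¹ ∈ B) :
    prodSub B T h = B ⊔ T := by
  apply le_antisymm
  · rintro _ ⟨b, hb, t, ht, rfl⟩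
    exact Subgroup.mul_mem _ (Subgroup.mem_sup_left hb) (Subgroup.mem_sup_right ht)
  · apply sup_le
    · intro b hb; exact ⟨b, hb, 1, T.one_mem, by simp⟩
    · intro t ht; exact ⟨1, B.one_mem, t, ht, by simp⟩

lemma prodSub_card (B T : Subgroup G) (h : ∀ t ∈ T, ∀ b ∈ B, t * b * t⁻¹ ∈ B)
    (hBT : B ⊓ T = ⊥) : Nat.card (prodSub B T h) = Nat.card B * Nat.card T := by
  have hinj : Function.Injective (fun x : B × T =>
      (⟨(x.1 : G) * (x.2 : G), x.1, x.1.2, x.2, x.2.2, rfl⟩ : prodSub B T h)) := by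
    rintro ⟨b, t⟩ ⟨b', t'⟩ hx
    have h1 : (b : G) * t = b' * t' := congrArg Subtype.val hx
    have h2 : (b' : G)⁻¹ * b = t' * (t : G)⁻¹ := by
      rw [inv_mul_eq_iff_eq_mul, ← mul_assoc, ← h1]; group
    have h3 : (b' : G)⁻¹ * b ∈ B ⊓ T :=
      ⟨B.mul_mem (B.inv_mem b'.2) b.2, by rw [h2]; exact T.mul_mem t'.2 (T.inv_mem t.2)⟩
    rw [hBT, Subgroup.mem_bot] at h3
    have h4 : (b : G) = b' := by
      rw [inv_mul_eq_one] at h3; exact h3.symm
    have h5 : (t : G) = t' := by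
      rw [h4] at h1; exact mul_left_cancel h1
    exact Prod.ext (Subtype.ext h4) (Subtype.ext h5)
  have hsurj : Function.Surjective (fun x : B × T =>
      (⟨(x.1 : G) * (x.2 : G), x.1, x.1.2, x.2, x.2.2, rfl⟩ : prodSub B T h)) := by
    rintro ⟨x, b, hb, t, ht, rfl⟩
    exact ⟨⟨⟨b, hb⟩, ⟨t, ht⟩⟩, rfl⟩
  rw [← Nat.card_congr (Equiv.ofBijective _ ⟨hinj, hsurj⟩), Nat.card_prod]

end prod

end Cfsg.Agent.Lib.Helper1.SylSp
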