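import Mathlib
import Cfsg.Agent.Lib.Helper1.SylSpA

/-!
Internal derived series of subgroups; bounds for products `B * T` and for wreath-like
configurations.
-/

namespace Cfsg.Agent.Lib.Helper1.SpDL

open scoped commutatorElement
open Cfsg.Agent.Lib.Helper1.SylSp

section dser
variable {G : Type*} [Group G]

/-- internal derived series of a subgroup -/
def dser (H : Subgroup G) : ℕ → Subgroup G
  | 0 => H
  | (m + 1) => ⁅dser H m, dser H m⁆

lemma dser_zero (H : Subgroup G) : dser H 0 = H := rfl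

lemma dser_succ (H : Subgroup G) (m : ℕ) : dser H (m + 1) = ⁅dser H m, dser H m⁆ := rfl

lemma dser_mono {H K : Subgroup G} (h : H ≤ K) (m : ℕ) : dser H m ≤ dser K m := by
  induction m with
  | zero => exact h
  | succ m ih => exact Subgroup.commutator_mono ih ih

lemma dser_le (H : Subgroup G) (m : ℕ) : dser H m ≤ H := by
  induction m with
  | zero => exact le_rfl
  | succ m ih =>
    rw [dser_succ, Subgroup.commutator_le]
    intro a ha b hb
    rw [commutatorElement_def]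
    exact H.mul_mem (H.mul_mem (H.mul_mem (ih ha) (ih hb)) (H.inv_mem (ih ha))) (H.inv_mem (ih hb))

lemma dser_add (H : Subgroup G) (a b : ℕ) : dser H (a + b) = dser (dser H a) b := by
  induction b with
  | zero => rfl
  | succ b ih => rw [← add_assoc, dser_succ, dser_succ, ih]

lemma dser_map {G' : Type*} [Group G'] (f : G →* G') (H : Subgroup G) (m : ℕ) :
    dser (H.map f) m = (dser H m).map f := by
  induction m with
  | zero => rfl
  | succ m ih => rw [dser_succ, dser_succ, ih, Subgroup.map_commutator]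

lemma map_derivedSeries (H : Subgroup G) (m : ℕ) :
    (derivedSeries ↥H m).map H.subtype = dser H m := by
  induction m with
  | zero => rw [derivedSeries_zero, dser_zero, ← MonoidHom.range_eq_map, Subgroup.range_subtype]
  | succ m ih => rw [derivedSeries_succ, Subgroup.map_commutator, ih, dser_succ]

lemma ds_eq_bot_iff (H : Subgroup G) (m : ℕ) : derivedSeries ↥H m = ⊥ ↔ dser H m = ⊥ := by
  rw [← map_derivedSeries, Subgroup.map_eq_bot_iff_of_injective _ H.subtype_injective]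

lemma ds_bot_of_equiv {H H' : Type*} [Group H] [Group H'] (e : H ≃* H') (m : ℕ)
    (h : derivedSeries H m = ⊥) : derivedSeries H' m = ⊥ := by
  have h1 := map_derivedSeries_eq (f := e.toMonoidHom) e.surjective m
  rw [← h1, h, Subgroup.map_bot]

lemma dser_pi {ι : Type*} {H : Type*} [Group H] (Q : Subgroup H) (m : ℕ) :
    dser (Subgroup.pi Set.univ (fun _ : ι => Q)) m ≤ Subgroup.pi Set.univ (fun _ : ι => dser Q m) := by
  induction m with
  | zero => exact le_rfl
  | succ m ih =>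
    rw [dser_succ]
    exact (Subgroup.commutator_mono ih ih).trans (Subgroup.commutator_pi_pi_le _ _)

lemma mem_normalizer_of_conj {g : G} {K : Subgroup G} (h1 : ∀ a ∈ K, g * a * g⁻¹ ∈ K)
    (h2 : ∀ a ∈ K, g⁻¹ * a * g ∈ K) : g ∈ Subgroup.normalizer (K : Set G) := by
  rw [Subgroup.mem_normalizer_iff]
  intro a
  refine ⟨h1 a, fun ha => ?_⟩
  have h3 := h2 _ ha
  have h4 : g⁻¹ * (g * a * g⁻¹) * g = a := by group
  rw [h4] at h3
  exact h3

/-- elements of `dser W m`, `W ⊆ B * T`, lie in `B * dser T m` -/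
lemma dser_prod (B T : Subgroup G) (h : ∀ t ∈ T, ∀ b ∈ B, t * b * t⁻¹ ∈ B) (W : Subgroup G)
    (hW : ∀ x ∈ W, ∃ b ∈ B, ∃ t ∈ T, x = b * t) (m : ℕ) :
    ∀ x ∈ dser W m, ∃ b ∈ B, ∃ t ∈ dser T m, x = b * t := by
  induction m with
  | zero => exact hW
  | succ m ih =>
    have hT : ∀ t ∈ dser T (m + 1), ∀ b ∈ B, t * b * t⁻¹ ∈ B :=
      fun t ht b hb => h t (dser_le T _ ht) b hb
    have hle : dser W (m + 1) ≤ prodSub B (dser T (m + 1)) hT := by
      rw [dser_succ, Subgroup.commutator_le]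
      intro g₁ h₁ g₂ h₂
      obtain ⟨b, hb, t, ht, rfl⟩ := ih g₁ h₁
      obtain ⟨b', hb', t', ht', rfl⟩ := ih g₂ h₂
      have ht0 := dser_le T m ht
      have ht0' := dser_le T m ht'
      have hc : ⁅t, t'⁆ ∈ T := by
        rw [commutatorElement_def]
        exact T.mul_mem (T.mul_mem (T.mul_mem ht0 ht0') (T.inv_mem ht0)) (T.inv_mem ht0')
      refine ⟨b * (t * b' * t⁻¹) * ((t * t' * t⁻¹) * b⁻¹ * (t * t' * t⁻¹)⁻¹) *
        (⁅t, t'⁆ * b'⁻¹ * ⁅t, t'⁆⁻¹), ?_, ⁅t, t'⁆, Subgroup.commutator_mem_commutator ht ht', ?_⟩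
      · exact B.mul_mem (B.mul_mem (B.mul_mem hb (h t ht0 b' hb'))
          (h _ (T.mul_mem (T.mul_mem ht0 ht0') (T.inv_mem ht0)) _ (B.inv_mem hb)))
          (h _ hc _ (B.inv_mem hb'))
      · simp only [commutatorElement_def]
        group
    exact fun x hx => hle hx

lemma commutator_mul_of_commute {a b y y' : G} (X X' : Subgroup G)
    (hc : ∀ x ∈ X, ∀ y ∈ X', x * y = y * x) (ha : a ∈ X) (hb : b ∈ X) (hy : y ∈ X')
    (hy' : y' ∈ X') : ⁅a * y, b * y'⁆ = ⁅a, b⁆ * ⁅y, y'⁆ := by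
  let Φ : ↥X × ↥X' →* G := MonoidHom.noncommCoprod X.subtype X'.subtype
    (fun x y => hc x x.2 y y.2)
  have h1 : Φ (⟨a, ha⟩, ⟨y, hy⟩) = a * y := rfl
  have h2 : Φ (⟨b, hb⟩, ⟨y', hy'⟩) = b * y' := rfl
  have h3 : Φ (⁅(⟨a, ha⟩ : ↥X), ⟨b, hb⟩⁆, ⁅(⟨y, hy⟩ : ↥X'), ⟨y', hy'⟩⁆) = ⁅a, b⁆ * ⁅y, y'⁆ := rfl
  rw [← h1, ← h2, ← map_commutatorElement, ← h3]
  rfl

/-- wreath step: the derived length grows by one -/
lemma dl_step (X X' Z : Subgroup G) (w : G) (hc : ∀ x ∈ X, ∀ y ∈ X', x * y = y * x)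
    (hi : X ⊓ X' = ⊥) (hw : ∀ x ∈ X, w * x * w⁻¹ ∈ X') (hXZ : X ≤ Z) (hwZ : w ∈ Z) (d : ℕ)
    (h : dser X d ≠ ⊥) : dser Z (d + 1) ≠ ⊥ := by
  have key : ∀ m, ∀ x ∈ dser X m, x ∈ X ∧ ∃ y ∈ X', x * y ∈ dser Z (m + 1) := by
    intro m
    induction m with
    | zero =>
      intro x hx
      refine ⟨hx, w * x⁻¹ * w⁻¹, hw _ (X.inv_mem hx), ?_⟩
      have h1 : x * (w * x⁻¹ * w⁻¹) = ⁅x, w⁆ := by
        rw [commutatorElement_def]; group
      rw [h1]
      exact Subgroup.commutator_mem_commutator (hXZ hx) hwZ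
    | succ m ih =>
      let E : Subgroup G :=
        { carrier := {x | x ∈ X ∧ ∃ y ∈ X', x * y ∈ dser Z (m + 1 + 1)}
          one_mem' := ⟨X.one_mem, 1, X'.one_mem, by rw [mul_one]; exact Subgroup.one_mem _⟩
          mul_mem' := by
            rintro x x' ⟨hx, y, hy, hxy⟩ ⟨hx', y', hy', hxy'⟩
            refine ⟨X.mul_mem hx hx', y * y', X'.mul_mem hy hy', ?_⟩
            have h1 := hc x' hx' y hy
            have h2 : x * x' * (y * y') = (x * y) * (x' * y') := by
              calc x * x' * (y * y') = x * (x' * y) * y' := by group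
                _ = x * (y * x') * y' := by rw [h1]
                _ = (x * y) * (x' * y') := by group
            rw [h2]
            exact Subgroup.mul_mem _ hxy hxy'
          inv_mem' := by
            rintro x ⟨hx, y, hy, hxy⟩
            refine ⟨X.inv_mem hx, y⁻¹, X'.inv_mem hy, ?_⟩
            have h1 := hc x hx y hy
            rw [← mul_inv_rev, ← h1]
            exact Subgroup.inv_mem _ hxy }
      have hle : dser X (m + 1) ≤ E := by
        rw [dser_succ, Subgroup.commutator_le]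
        intro a ha b hb
        obtain ⟨haX, y, hy, hay⟩ := ih a ha
        obtain ⟨hbX, y', hy', hby⟩ := ih b hb
        refine ⟨?_, ⁅y, y'⁆, ?_, ?_⟩
        · rw [commutatorElement_def]
          exact X.mul_mem (X.mul_mem (X.mul_mem haX hbX) (X.inv_mem haX)) (X.inv_mem hbX)
        · rw [commutatorElement_def]
          exact X'.mul_mem (X'.mul_mem (X'.mul_mem hy hy') (X'.inv_mem hy)) (X'.inv_mem hy')
        · rw [← commutator_mul_of_commute X X' hc haX hbX hy hy']
          exact Subgroup.commutator_mem_commutator hay hby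
      exact fun x hx => hle hx
  intro hbot
  apply h
  rw [eq_bot_iff]
  intro x hx
  obtain ⟨hxX, y, hy, hxy⟩ := key d x hx
  rw [hbot, Subgroup.mem_bot] at hxy
  have h1 : x = y⁻¹ := eq_inv_of_mul_eq_one_left hxy
  have hx' : x ∈ X ⊓ X' := ⟨hxX, by rw [h1]; exact X'.inv_mem hy⟩
  rw [hi] at hx'
  exact hx'

lemma exists_swap {α : Type*} [DecidableEq α] (I₁ I₂ : Finset α) (hd : Disjoint I₁ I₂)
    (hc : I₁.card = I₂.card) :
    ∃ w : Equiv.Perm α, (∀ x ∈ I₁, w x ∈ I₂) ∧ (∀ x, x ∉ I₁ → x ∉ I₂ → w x = x) ∧ w * w = 1 := by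
  classical
  let e : I₁ ≃ I₂ := Finset.equivOfCardEq hc
  let w : α → α := fun x => if h : x ∈ I₁ then (e ⟨x, h⟩ : α) else
    if h' : x ∈ I₂ then (e.symm ⟨x, h'⟩ : α) else x
  have hw1 : ∀ x (h : x ∈ I₁), w x = (e ⟨x, h⟩ : α) := fun x h => dif_pos h
  have hw2 : ∀ x (h : x ∉ I₁) (h' : x ∈ I₂), w x = (e.symm ⟨x, h'⟩ : α) := fun x h h' => by
    simp only [w, dif_neg h, dif_pos h']
  have hw3 : ∀ x, x ∉ I₁ → x ∉ I₂ → w x = x := fun x h h' => by
    simp only [w, dif_neg h, dif_neg h']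
  have hinv : Function.Involutive w := by
    intro x
    by_cases h : x ∈ I₁
    · have h2 : (e ⟨x, h⟩ : α) ∈ I₂ := (e ⟨x, h⟩).2
      have h1 : (e ⟨x, h⟩ : α) ∉ I₁ := fun h' => Finset.disjoint_left.1 hd h' h2
      rw [hw1 x h, hw2 _ h1 h2]
      simp
    · by_cases h' : x ∈ I₂
      · have h1 : (e.symm ⟨x, h'⟩ : α) ∈ I₁ := (e.symm ⟨x, h'⟩).2
        rw [hw2 x h h', hw1 _ h1]
        simp
      · rw [hw3 x h h', hw3 x h h']
  refine ⟨hinv.toPerm w, ?_, ?_, ?_⟩
  · intro x hx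
    show w x ∈ I₂
    rw [hw1 x hx]
    exact (e ⟨x, hx⟩).2
  · intro x h h'
    exact hw3 x h h'
  · ext x
    show w (w x) = x
    exact hinv x

end dser

section quat

lemma quaternion_ds (m : ℕ) : derivedSeries (QuaternionGroup m) 2 = ⊥ := by
  let A : Subgroup (QuaternionGroup m) :=
    { carrier := {g | ∃ i, g = QuaternionGroup.a i}
      one_mem' := ⟨0, QuaternionGroup.one_def⟩
      mul_mem' := by
        rintro _ _ ⟨i, rfl⟩ ⟨j, rfl⟩
        exact ⟨i + j, QuaternionGroup.a_mul_a i j⟩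
      inv_mem' := by
        rintro _ ⟨i, rfl⟩
        exact ⟨-i, rfl⟩ }
  have hA : commutator (QuaternionGroup m) ≤ A := by
    rw [commutator_def, Subgroup.commutator_le]
    intro g₁ _ g₂ _
    rcases g₁ with i | i <;> rcases g₂ with j | j <;> exact ⟨_, rfl⟩
  rw [derivedSeries_succ, derivedSeries_one, Subgroup.commutator_eq_bot_iff_le_centralizer]
  intro x hx
  rw [Subgroup.mem_centralizer_iff]
  intro y hy
  obtain ⟨i, rfl⟩ := hA hx
  obtain ⟨j, rfl⟩ := hA hy
  rw [QuaternionGroup.a_mul_a, QuaternionGroup.a_mul_a, add_comm]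

end quat

end Cfsg.Agent.Lib.Helper1.SpDL
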