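import Mathlib
import Cfsg.Agent.Lib.Helper1.SylSpA
import Cfsg.Agent.Lib.Helper18.UniqueInvolution

/-!
Sylow 2-subgroups of `Sp_2(F)`, `F` a finite field of odd order, are generalized quaternion;
in particular every square lies in the derived subgroup.
-/

namespace Cfsg.Agent.Lib.Helper1.SylSp

open Cfsg.Agent.Lib.Helper1.SylSym

section central
variable {G : Type*} [Group G]

/-- `y x = z^k x y` for some `k` -/
def Rz (z x y : G) : Prop := ∃ k : ℤ, y * x = z ^ k * (x * y)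

lemma rz_symm {z x y : G} (hz : ∀ g, Commute z g) (h : Rz z x y) : Rz z y x := by
  obtain ⟨k, hk⟩ := h
  refine ⟨-k, ?_⟩
  rw [hk, ← mul_assoc, ← zpow_add, neg_add_cancel, zpow_zero, one_mul]

lemma rz_mul {z x₁ x₂ y : G} (hz : ∀ g, Commute z g) (h1 : Rz z x₁ y) (h2 : Rz z x₂ y) :
    Rz z (x₁ * x₂) y := by
  obtain ⟨a, ha⟩ := h1
  obtain ⟨b, hb⟩ := h2
  refine ⟨a + b, ?_⟩
  have hc : x₁ * z ^ b = z ^ b * x₁ := ((hz x₁).zpow_left b).eq.symm
  calc y * (x₁ * x₂) = (y * x₁) * x₂ := by rw [mul_assoc]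
    _ = z ^ a * (x₁ * y) * x₂ := by rw [ha]
    _ = z ^ a * (x₁ * (y * x₂)) := by simp only [mul_assoc]
    _ = z ^ a * (x₁ * (z ^ b * (x₂ * y))) := by rw [hb]
    _ = z ^ a * ((x₁ * z ^ b) * (x₂ * y)) := by simp only [mul_assoc]
    _ = z ^ a * ((z ^ b * x₁) * (x₂ * y)) := by rw [hc]
    _ = z ^ (a + b) * (x₁ * x₂ * y) := by rw [zpow_add]; simp only [mul_assoc]

lemma rz_inv {z x y : G} (hz : ∀ g, Commute z g) (h : Rz z x y) : Rz z x⁻¹ y := by
  obtain ⟨a, ha⟩ := h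
  refine ⟨-a, ?_⟩
  have hc : x⁻¹ * z ^ a = z ^ a * x⁻¹ := ((hz x⁻¹).zpow_left a).eq.symm
  have h1 : x⁻¹ * y = z ^ a * (y * x⁻¹) := by
    calc x⁻¹ * y = x⁻¹ * (y * x) * x⁻¹ := by group
      _ = x⁻¹ * (z ^ a * (x * y)) * x⁻¹ := by rw [ha]
      _ = (x⁻¹ * z ^ a) * (x * y) * x⁻¹ := by simp only [mul_assoc]
      _ = (z ^ a * x⁻¹) * (x * y) * x⁻¹ := by rw [hc]
      _ = z ^ a * (y * x⁻¹) := by group
  rw [h1, ← mul_assoc, ← zpow_add, neg_add_cancel, zpow_zero, one_mul]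

lemma rz_one_left (z y : G) : Rz z 1 y := ⟨0, by simp⟩

lemma rz_closure {z : G} (hz : ∀ g, Commute z g) (S : Set G)
    (hS : ∀ x ∈ S, ∀ y ∈ S, Rz z x y) :
    ∀ x ∈ Subgroup.closure S, ∀ y ∈ Subgroup.closure S, Rz z x y := by
  have h1 : ∀ x ∈ Subgroup.closure S, ∀ y ∈ S, Rz z x y := by
    intro x hx y hy
    induction hx using Subgroup.closure_induction with
    | mem u hu => exact hS u hu y hy
    | one => exact rz_one_left z y
    | mul u v _ _ hu hv => exact rz_mul hz hu hv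
    | inv u _ hu => exact rz_inv hz hu
  intro x hx y hy
  apply rz_symm hz
  induction hy using Subgroup.closure_induction with
  | mem u hu => exact rz_symm hz (h1 x hx u hu)
  | one => exact rz_one_left z x
  | mul u v _ _ hu hv => exact rz_mul hz hu hv
  | inv u _ hu => exact rz_inv hz hu

lemma sq_closure {z : G} (hz : ∀ g, Commute z g) (S : Set G)
    (hS : ∀ x ∈ S, ∀ y ∈ S, Rz z x y) (hsq : ∀ x ∈ S, ∃ k : ℤ, x * x = z ^ k) :
    ∀ x ∈ Subgroup.closure S, ∃ k : ℤ, x * x = z ^ k := by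
  intro x hx
  induction hx using Subgroup.closure_induction with
  | mem u hu => exact hsq u hu
  | one => exact ⟨0, by simp⟩
  | mul u v hu hv ihu ihv =>
    obtain ⟨a, ha⟩ := ihu
    obtain ⟨b, hb⟩ := ihv
    obtain ⟨c, hc⟩ := rz_closure hz S hS u hu v hv
    refine ⟨c + a + b, ?_⟩
    have hcomm : u * z ^ c = z ^ c * u := ((hz u).zpow_left c).eq.symm
    calc u * v * (u * v) = u * (v * u) * v := by simp only [mul_assoc]
      _ = u * (z ^ c * (u * v)) * v := by rw [hc]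
      _ = (u * z ^ c) * (u * (v * v)) := by simp only [mul_assoc]
      _ = z ^ c * ((u * u) * (v * v)) := by rw [hcomm]; simp only [mul_assoc]
      _ = z ^ (c + a + b) := by rw [ha, hb, zpow_add, zpow_add, mul_assoc]
  | inv u _ ihu =>
    obtain ⟨a, ha⟩ := ihu
    refine ⟨-a, ?_⟩
    rw [← mul_inv_rev, ha, zpow_neg]

lemma isPGroup_closure {z : G} (hz : ∀ g, Commute z g) (hz2 : z * z = 1) (S : Set G)
    (hS : ∀ x ∈ S, ∀ y ∈ S, Rz z x y) (hsq : ∀ x ∈ S, ∃ k : ℤ, x * x = z ^ k) :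
    IsPGroup 2 (Subgroup.closure S) := by
  intro x
  refine ⟨2, Subtype.ext ?_⟩
  obtain ⟨k, hk⟩ := sq_closure hz S hS hsq x.1 x.2
  have h4 : (x : G) ^ 4 = (x * x : G) * (x * x) := by
    rw [show (4 : ℕ) = 2 + 2 from rfl, pow_add, pow_two]
  have h5 : z ^ k * z ^ k = 1 := by
    rw [← (Commute.refl z).mul_zpow, hz2, one_zpow]
  have h6 : ((x ^ 2 ^ 2 : Subgroup.closure S) : G) = (x : G) ^ 4 := by
    simp
  rw [h6, h4, hk, h5]
  rfl

end central

section sp2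
open Matrix
variable {F : Type*} [Field F]

/-- a `2 × 2` matrix in block form -/
def mk2 (a b c d : F) : Matrix (Fin 1 ⊕ Fin 1) (Fin 1 ⊕ Fin 1) F :=
  Matrix.fromBlocks (Matrix.of fun _ _ => a) (Matrix.of fun _ _ => b) (Matrix.of fun _ _ => c)
    (Matrix.of fun _ _ => d)

lemma eq_mk2 (M : Matrix (Fin 1 ⊕ Fin 1) (Fin 1 ⊕ Fin 1) F) :
    M = mk2 (M (Sum.inl 0) (Sum.inl 0)) (M (Sum.inl 0) (Sum.inr 0)) (M (Sum.inr 0) (Sum.inl 0))
      (M (Sum.inr 0) (Sum.inr 0)) := by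
  ext i j
  rcases i with i | i <;> rcases j with j | j <;>
    simp [mk2, Subsingleton.elim i 0, Subsingleton.elim j 0]

lemma mk2_mul (a b c d a' b' c' d' : F) : mk2 a b c d * mk2 a' b' c' d' =
    mk2 (a * a' + b * c') (a * b' + b * d') (c * a' + d * c') (c * b' + d * d') := by
  ext i j
  rcases i with i | i <;> rcases j with j | j <;>
    simp [mk2, Matrix.mul_apply, Fintype.sum_sum_type]

lemma mk2_inj {a b c d a' b' c' d' : F} :
    mk2 a b c d = mk2 a' b' c' d' ↔ a = a' ∧ b = b' ∧ c = c' ∧ d = d' := by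
  constructor
  · intro h
    refine ⟨?_, ?_, ?_, ?_⟩
    · simpa [mk2] using congrFun (congrFun h (Sum.inl 0)) (Sum.inl 0)
    · simpa [mk2] using congrFun (congrFun h (Sum.inl 0)) (Sum.inr 0)
    · simpa [mk2] using congrFun (congrFun h (Sum.inr 0)) (Sum.inl 0)
    · simpa [mk2] using congrFun (congrFun h (Sum.inr 0)) (Sum.inr 0)
  · rintro ⟨rfl, rfl, rfl, rfl⟩
    rfl

lemma one_eq_mk2 : (1 : Matrix (Fin 1 ⊕ Fin 1) (Fin 1 ⊕ Fin 1) F) = mk2 1 0 0 1 := by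
  rw [eq_mk2 1, mk2_inj]
  simp

lemma neg_one_eq_mk2 : (-1 : Matrix (Fin 1 ⊕ Fin 1) (Fin 1 ⊕ Fin 1) F) = mk2 (-1) 0 0 (-1) := by
  rw [eq_mk2 (-1), mk2_inj]
  simp

lemma mk2_mem_iff (a b c d : F) :
    mk2 a b c d ∈ Matrix.symplecticGroup (Fin 1) F ↔ a * d - c * b = 1 := by
  unfold mk2
  rw [SymplecticGroup.fromBlocks_mem_iff]
  constructor
  · rintro ⟨-, -, h⟩
    have := congrFun (congrFun h 0) 0
    simpa [Matrix.mul_apply] using this
  · intro h
    refine ⟨?_, ?_, ?_⟩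
    · ext i j; simp [Matrix.mul_apply, mul_comm]
    · ext i j; simp [Matrix.mul_apply, mul_comm]
    · ext i j
      simp [Matrix.mul_apply, Matrix.one_apply, Subsingleton.elim i j]
      exact h

lemma sp2_involution (h2 : (2 : F) ≠ 0) (g : Matrix.symplecticGroup (Fin 1) F)
    (hg : g * g = 1) :
    (g : Matrix (Fin 1 ⊕ Fin 1) (Fin 1 ⊕ Fin 1) F) = 1 ∨
      (g : Matrix (Fin 1 ⊕ Fin 1) (Fin 1 ⊕ Fin 1) F) = -1 := by
  have hm := g.2
  have hg' : (g : Matrix (Fin 1 ⊕ Fin 1) (Fin 1 ⊕ Fin 1) F) * g = 1 := congrArg Subtype.val hg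
  obtain ⟨a, b, c, d, hM⟩ : ∃ a b c d : F,
      (g : Matrix (Fin 1 ⊕ Fin 1) (Fin 1 ⊕ Fin 1) F) = mk2 a b c d := ⟨_, _, _, _, eq_mk2 _⟩
  rw [hM] at hm hg' ⊢
  rw [mk2_mem_iff] at hm
  rw [mk2_mul, one_eq_mk2, mk2_inj] at hg'
  obtain ⟨h11, h12, h21, h22⟩ := hg'
  have hs : a * (a + d) = 2 := by linear_combination h11 + hm
  have hne : a + d ≠ 0 := by
    intro h
    rw [h, mul_zero] at hs
    exact h2 hs.symm
  have hb : b = 0 := by
    have : b * (a + d) = 0 := by linear_combination h12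
    exact (mul_eq_zero.1 this).resolve_right hne
  have hc : c = 0 := by
    have : c * (a + d) = 0 := by linear_combination h21
    exact (mul_eq_zero.1 this).resolve_right hne
  subst hb hc
  have ha : a * a = 1 := by linear_combination h11
  have had : a * d = 1 := by linear_combination hm
  have hd : d = a := by linear_combination a * had - d * ha
  rcases mul_self_eq_one_iff.1 ha with h | h
  · left
    rw [one_eq_mk2, mk2_inj]
    exact ⟨h, rfl, rfl, hd.trans h⟩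
  · right
    rw [neg_one_eq_mk2, mk2_inj]
    exact ⟨h, rfl, rfl, hd.trans h⟩

lemma sp2_good_of_noncomm [Finite F] (h2 : (2 : F) ≠ 0)
    (Q : Subgroup (Matrix.symplecticGroup (Fin 1) F)) (hQ : IsPGroup 2 Q)
    (hnc : ∃ x ∈ Q, ∃ y ∈ Q, x * y ≠ y * x) : Good 2 Q := by
  rw [good_iff_goodG]
  have hE : Set.ncard {g : Q | g ^ 2 = 1} ≤ 2 := by
    obtain ⟨z, hz⟩ : ∃ z : Matrix.symplecticGroup (Fin 1) F,
        (z : Matrix (Fin 1 ⊕ Fin 1) (Fin 1 ⊕ Fin 1) F) = -1 :=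
      ⟨⟨-1, SymplecticGroup.neg_mem (Submonoid.one_mem _)⟩, rfl⟩
    have hsub : (fun g : Q => (g : Matrix.symplecticGroup (Fin 1) F)) '' {g : Q | g ^ 2 = 1} ⊆
        {1, z} := by
      rintro _ ⟨g, hg, rfl⟩
      have hg2 : (g : Matrix.symplecticGroup (Fin 1) F) * g = 1 := by
        have := congrArg Subtype.val hg
        simpa [pow_two] using this
      rcases sp2_involution h2 _ hg2 with h | h
      · left; exact Subtype.ext h
      · right; exact Subtype.ext (h.trans hz.symm)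
    calc Set.ncard {g : Q | g ^ 2 = 1}
        = Set.ncard ((fun g : Q => (g : Matrix.symplecticGroup (Fin 1) F)) ''
            {g : Q | g ^ 2 = 1}) := (Set.ncard_image_of_injective _ Subtype.val_injective).symm
      _ ≤ Set.ncard ({1, z} : Set (Matrix.symplecticGroup (Fin 1) F)) :=
          Set.ncard_le_ncard hsub (Set.toFinite _)
      _ ≤ 2 := (Set.ncard_insert_le 1 {z}).trans (by rw [Set.ncard_singleton])
  obtain ⟨x, hx, y, hy, hxy⟩ := hnc
  rcases Cfsg.Agent.Lib.Helper18.UniqueInvolution.cyclic_or_quaternion_of_unique 2 hQ hE with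
    h | ⟨-, n, ⟨e⟩⟩
  · exfalso
    letI := IsCyclic.commGroup (α := Q)
    have := mul_comm (⟨x, hx⟩ : Q) ⟨y, hy⟩
    exact hxy (congrArg Subtype.val this)
  · rcases Nat.eq_zero_or_pos n with hn | hn
    · exfalso
      subst hn
      have hq : ∀ u v : QuaternionGroup (2 ^ 0), u * v = v * u := by decide
      have := hq (e ⟨x, hx⟩) (e ⟨y, hy⟩)
      rw [← map_mul, ← map_mul] at this
      exact hxy (congrArg Subtype.val (e.injective this))
    · exact goodG_of_equiv e (quaternion_goodG (2 ^ n) (Nat.even_pow.2 ⟨even_two, hn.ne'⟩))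

lemma mk2_congr {a b c d a' b' c' d' : F} (h1 : a = a') (h2 : b = b') (h3 : c = c')
    (h4 : d = d') : mk2 a b c d = mk2 a' b' c' d' := by
  rw [h1, h2, h3, h4]

lemma sp2_exists_q8 [Fintype F] (h2 : (2 : F) ≠ 0) :
    ∃ H : Subgroup (Matrix.symplecticGroup (Fin 1) F), IsPGroup 2 H ∧
      ∃ x ∈ H, ∃ y ∈ H, x * y ≠ y * x := by
  obtain ⟨p, hp⟩ := CharP.exists F
  haveI := hp
  haveI : Fact p.Prime := ⟨CharP.char_is_prime F p⟩
  obtain ⟨a', b', hab⟩ := CharP.sq_add_sq F p (-1)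
  obtain ⟨a, b, hab'⟩ : ∃ a b : F, a ^ 2 + b ^ 2 = -1 := ⟨a', b', by simpa using hab⟩
  obtain ⟨z, hzc⟩ : ∃ z : Matrix.symplecticGroup (Fin 1) F,
      (z : Matrix (Fin 1 ⊕ Fin 1) (Fin 1 ⊕ Fin 1) F) = mk2 (-1) 0 0 (-1) :=
    ⟨⟨_, (mk2_mem_iff _ _ _ _).2 (by ring)⟩, rfl⟩
  obtain ⟨i, hic⟩ : ∃ i : Matrix.symplecticGroup (Fin 1) F,
      (i : Matrix (Fin 1 ⊕ Fin 1) (Fin 1 ⊕ Fin 1) F) = mk2 0 1 (-1) 0 :=
    ⟨⟨_, (mk2_mem_iff _ _ _ _).2 (by ring)⟩, rfl⟩
  obtain ⟨j, hjc⟩ : ∃ j : Matrix.symplecticGroup (Fin 1) F,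
      (j : Matrix (Fin 1 ⊕ Fin 1) (Fin 1 ⊕ Fin 1) F) = mk2 a b b (-a) :=
    ⟨⟨_, (mk2_mem_iff _ _ _ _).2 (by linear_combination -hab')⟩, rfl⟩
  have hz : ∀ g : Matrix.symplecticGroup (Fin 1) F, Commute z g := by
    intro g
    apply Subtype.ext
    show (z : Matrix (Fin 1 ⊕ Fin 1) (Fin 1 ⊕ Fin 1) F) * g = g * z
    rw [hzc, eq_mk2 (g : Matrix (Fin 1 ⊕ Fin 1) (Fin 1 ⊕ Fin 1) F), mk2_mul, mk2_mul]
    exact mk2_congr (by ring) (by ring) (by ring) (by ring)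
  have hz2 : z * z = 1 := by
    apply Subtype.ext
    show (z : Matrix (Fin 1 ⊕ Fin 1) (Fin 1 ⊕ Fin 1) F) * z = 1
    rw [hzc, mk2_mul, one_eq_mk2]
    exact mk2_congr (by ring) (by ring) (by ring) (by ring)
  have hii : i * i = z := by
    apply Subtype.ext
    show (i : Matrix (Fin 1 ⊕ Fin 1) (Fin 1 ⊕ Fin 1) F) * i = z
    rw [hic, hzc, mk2_mul]
    exact mk2_congr (by ring) (by ring) (by ring) (by ring)
  have hjj : j * j = z := by
    apply Subtype.ext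
    show (j : Matrix (Fin 1 ⊕ Fin 1) (Fin 1 ⊕ Fin 1) F) * j = z
    rw [hjc, hzc, mk2_mul]
    exact mk2_congr (by linear_combination hab') (by ring) (by ring) (by linear_combination hab')
  have hij : i * j = z * (j * i) := by
    apply Subtype.ext
    show (i : Matrix (Fin 1 ⊕ Fin 1) (Fin 1 ⊕ Fin 1) F) * j = z * (j * i)
    rw [hic, hjc, hzc, mk2_mul, mk2_mul, mk2_mul]
    exact mk2_congr (by ring) (by ring) (by ring) (by ring)
  have hz1 : z ≠ 1 := by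
    intro h
    have h3 := congrArg Subtype.val h
    rw [hzc] at h3
    change mk2 (-1) 0 0 (-1) = (1 : Matrix (Fin 1 ⊕ Fin 1) (Fin 1 ⊕ Fin 1) F) at h3
    rw [one_eq_mk2, mk2_inj] at h3
    exact h2 (by linear_combination -h3.1)
  refine ⟨Subgroup.closure {i, j}, isPGroup_closure hz hz2 {i, j} ?_ ?_, i,
    Subgroup.subset_closure (by simp), j, Subgroup.subset_closure (by simp), ?_⟩
  · rintro x (rfl | rfl) y (rfl | rfl)
    · exact ⟨0, by simp⟩
    · exact ⟨1, by rw [zpow_one, hij, ← mul_assoc, hz2, one_mul]⟩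
    · exact ⟨1, by rw [zpow_one, hij]⟩
    · exact ⟨0, by simp⟩
  · rintro x (rfl | rfl)
    · exact ⟨1, by rw [zpow_one, hii]⟩
    · exact ⟨1, by rw [zpow_one, hjj]⟩
  · intro h
    rw [hij] at h
    exact hz1 (mul_eq_right.1 h)

theorem sp2_sylow_good [Fintype F] (hF : Odd (Fintype.card F))
    (Q : Sylow 2 (Matrix.symplecticGroup (Fin 1) F)) :
    Good 2 (Q : Subgroup (Matrix.symplecticGroup (Fin 1) F)) := by
  have h2 : (2 : F) ≠ 0 := by
    apply Ring.two_ne_zero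
    intro h
    rw [FiniteField.even_card_iff_char_two] at h
    rw [Nat.odd_iff] at hF
    omega
  obtain ⟨H, hH, x, hx, y, hy, hxy⟩ := sp2_exists_q8 h2
  obtain ⟨P', hP'⟩ := hH.exists_le_sylow
  have hgood : Good 2 (P' : Subgroup (Matrix.symplecticGroup (Fin 1) F)) :=
    sp2_good_of_noncomm h2 _ P'.isPGroup' ⟨x, hP' hx, y, hP' hy, hxy⟩
  obtain ⟨g, hg⟩ := MulAction.exists_smul_eq (Matrix.symplecticGroup (Fin 1) F) P' Q
  rw [← hg, Sylow.coe_subgroup_smul, Subgroup.pointwise_smul_def]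
  exact good_map _ hgood

end sp2

end Cfsg.Agent.Lib.Helper1.SylSp
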