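import Mathlib
import Cfsg.Agent.Lib.Helper1.SylSpB
import Cfsg.Agent.Lib.Helper5.SympCount

/-!
Sylow 2-subgroups of `Sp_{2n}(F)`, `F` finite of odd order: explicit model
`Q^n ⋊ T` (block-diagonal copies of a Sylow 2-subgroup `Q` of `Sp_2(F)`, and permutation
matrices from a Sylow 2-subgroup `T` of `S_n`).
-/

namespace Cfsg.Agent.Lib.Helper1.SylSp

open Cfsg.Agent.Lib.Helper1.SylSym Matrix

section emb
variable {F : Type*} [Field F] (n : ℕ)

/-- block-diagonal matrix built from `2 × 2` matrices -/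
def bm (f : Fin n → Matrix (Fin 1 ⊕ Fin 1) (Fin 1 ⊕ Fin 1) F) :
    Matrix (Fin n ⊕ Fin n) (Fin n ⊕ Fin n) F :=
  Matrix.fromBlocks (Matrix.diagonal fun i => f i (Sum.inl 0) (Sum.inl 0))
    (Matrix.diagonal fun i => f i (Sum.inl 0) (Sum.inr 0))
    (Matrix.diagonal fun i => f i (Sum.inr 0) (Sum.inl 0))
    (Matrix.diagonal fun i => f i (Sum.inr 0) (Sum.inr 0))

lemma bm_one : bm n (fun _ => (1 : Matrix (Fin 1 ⊕ Fin 1) (Fin 1 ⊕ Fin 1) F)) = 1 := by
  unfold bm
  have h1 : (Matrix.diagonal fun _ : Fin n =>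
      (1 : Matrix (Fin 1 ⊕ Fin 1) (Fin 1 ⊕ Fin 1) F) (Sum.inl 0) (Sum.inl 0)) = 1 := by simp
  have h2 : (Matrix.diagonal fun _ : Fin n =>
      (1 : Matrix (Fin 1 ⊕ Fin 1) (Fin 1 ⊕ Fin 1) F) (Sum.inl 0) (Sum.inr 0)) = 0 := by simp
  have h3 : (Matrix.diagonal fun _ : Fin n =>
      (1 : Matrix (Fin 1 ⊕ Fin 1) (Fin 1 ⊕ Fin 1) F) (Sum.inr 0) (Sum.inl 0)) = 0 := by simp
  have h4 : (Matrix.diagonal fun _ : Fin n =>
      (1 : Matrix (Fin 1 ⊕ Fin 1) (Fin 1 ⊕ Fin 1) F) (Sum.inr 0) (Sum.inr 0)) = 1 := by simp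
  rw [h1, h2, h3, h4, Matrix.fromBlocks_one]

lemma bm_mul (f g : Fin n → Matrix (Fin 1 ⊕ Fin 1) (Fin 1 ⊕ Fin 1) F) :
    bm n (fun i => f i * g i) = bm n f * bm n g := by
  unfold bm
  rw [Matrix.fromBlocks_multiply]
  simp only [Matrix.diagonal_mul_diagonal, Matrix.diagonal_add]
  congr 1 <;> (congr 1; funext i; simp [Matrix.mul_apply, Fintype.sum_sum_type])

lemma bm_mem (f : Fin n → Matrix (Fin 1 ⊕ Fin 1) (Fin 1 ⊕ Fin 1) F)
    (hf : ∀ i, f i ∈ Matrix.symplecticGroup (Fin 1) F) :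
    bm n f ∈ Matrix.symplecticGroup (Fin n) F := by
  unfold bm
  rw [SymplecticGroup.fromBlocks_mem_iff]
  have key : ∀ i, f i (Sum.inl 0) (Sum.inl 0) * f i (Sum.inr 0) (Sum.inr 0) -
      f i (Sum.inr 0) (Sum.inl 0) * f i (Sum.inl 0) (Sum.inr 0) = 1 := by
    intro i
    have := hf i
    rw [eq_mk2 (f i), mk2_mem_iff] at this
    exact this
  refine ⟨?_, ?_, ?_⟩
  · simp only [Matrix.diagonal_transpose, Matrix.diagonal_mul_diagonal]
    congr 1; funext i; ring
  · simp only [Matrix.diagonal_transpose, Matrix.diagonal_mul_diagonal]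
    congr 1; funext i; ring
  · simp only [Matrix.diagonal_transpose, Matrix.diagonal_mul_diagonal]
    rw [Matrix.diagonal_sub, ← Matrix.diagonal_one]
    congr 1; funext i; exact key i

/-- permutation matrix -/
def pmat (σ : Equiv.Perm (Fin n)) : Matrix (Fin n) (Fin n) F :=
  Matrix.of fun i j => if σ j = i then 1 else 0

lemma pmat_one : pmat n (1 : Equiv.Perm (Fin n)) = (1 : Matrix (Fin n) (Fin n) F) := by
  ext i j
  simp [pmat, Matrix.one_apply, eq_comm]

lemma pmat_mul (σ τ : Equiv.Perm (Fin n)) :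
    (pmat n (σ * τ) : Matrix (Fin n) (Fin n) F) = pmat n σ * pmat n τ := by
  ext i j
  simp [pmat, Matrix.mul_apply]
  exact if_congr Iff.rfl rfl rfl

lemma pmat_transpose_mul (σ : Equiv.Perm (Fin n)) :
    (pmat n σ : Matrix (Fin n) (Fin n) F)ᵀ * pmat n σ = 1 := by
  ext i j
  simp [pmat, Matrix.mul_apply, Matrix.one_apply]

lemma pmat_mul_diagonal (σ : Equiv.Perm (Fin n)) (d : Fin n → F) :
    pmat n σ * Matrix.diagonal d = Matrix.diagonal (fun i => d (σ.symm i)) * pmat n σ := by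
  ext i j
  rw [Matrix.mul_diagonal, Matrix.diagonal_mul]
  by_cases h : σ j = i
  · subst h; simp [pmat, mul_comm]
  · simp [pmat, h]

/-- the block permutation matrix -/
def pm (σ : Equiv.Perm (Fin n)) : Matrix (Fin n ⊕ Fin n) (Fin n ⊕ Fin n) F :=
  Matrix.fromBlocks (pmat n σ) 0 0 (pmat n σ)

lemma pm_one : pm n (1 : Equiv.Perm (Fin n)) = (1 : Matrix (Fin n ⊕ Fin n) (Fin n ⊕ Fin n) F) := by
  unfold pm
  rw [pmat_one, Matrix.fromBlocks_one]

lemma pm_mul (σ τ : Equiv.Perm (Fin n)) :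
    (pm n (σ * τ) : Matrix (Fin n ⊕ Fin n) (Fin n ⊕ Fin n) F) = pm n σ * pm n τ := by
  unfold pm
  rw [Matrix.fromBlocks_multiply, pmat_mul]
  simp

lemma pm_mem (σ : Equiv.Perm (Fin n)) :
    (pm n σ : Matrix (Fin n ⊕ Fin n) (Fin n ⊕ Fin n) F) ∈ Matrix.symplecticGroup (Fin n) F := by
  unfold pm
  rw [SymplecticGroup.fromBlocks_mem_iff]
  refine ⟨by simp, by simp, ?_⟩
  rw [pmat_transpose_mul]
  simp

lemma pm_mul_bm (σ : Equiv.Perm (Fin n)) (f : Fin n → Matrix (Fin 1 ⊕ Fin 1) (Fin 1 ⊕ Fin 1) F) :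
    pm n σ * bm n f = bm n (fun i => f (σ.symm i)) * pm n σ := by
  unfold pm bm
  rw [Matrix.fromBlocks_multiply, Matrix.fromBlocks_multiply]
  simp only [pmat_mul_diagonal, Matrix.zero_mul, Matrix.mul_zero, add_zero, zero_add]

/-- the base group hom -/
def betaHom : (Fin n → Matrix.symplecticGroup (Fin 1) F) →* Matrix.symplecticGroup (Fin n) F where
  toFun f := ⟨bm n (fun i => (f i : Matrix (Fin 1 ⊕ Fin 1) (Fin 1 ⊕ Fin 1) F)),
    bm_mem n _ (fun i => (f i).2)⟩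
  map_one' := Subtype.ext (bm_one n)
  map_mul' f g := Subtype.ext (bm_mul n _ _)

/-- the top group hom -/
def tauHom : Equiv.Perm (Fin n) →* Matrix.symplecticGroup (Fin n) F where
  toFun σ := ⟨pm n σ, pm_mem n σ⟩
  map_one' := Subtype.ext (pm_one n)
  map_mul' σ τ := Subtype.ext (pm_mul n σ τ)

lemma tau_beta (σ : Equiv.Perm (Fin n)) (f : Fin n → Matrix.symplecticGroup (Fin 1) F) :
    (tauHom n σ : Matrix.symplecticGroup (Fin n) F) * betaHom n f =
      betaHom n (fun i => f (σ.symm i)) * tauHom n σ :=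
  Subtype.ext (pm_mul_bm n σ _)

lemma betaHom_injective : Function.Injective (betaHom (F := F) n) := by
  intro f g h
  have h1 : bm n (fun i => (f i : Matrix (Fin 1 ⊕ Fin 1) (Fin 1 ⊕ Fin 1) F)) =
      bm n (fun i => (g i : Matrix (Fin 1 ⊕ Fin 1) (Fin 1 ⊕ Fin 1) F)) := congrArg Subtype.val h
  unfold bm at h1
  rw [Matrix.fromBlocks_inj] at h1
  obtain ⟨h11, h12, h21, h22⟩ := h1
  funext i
  apply Subtype.ext
  rw [eq_mk2 (f i : Matrix (Fin 1 ⊕ Fin 1) (Fin 1 ⊕ Fin 1) F),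
    eq_mk2 (g i : Matrix (Fin 1 ⊕ Fin 1) (Fin 1 ⊕ Fin 1) F)]
  exact mk2_congr (congrFun (Matrix.diagonal_injective h11) i)
    (congrFun (Matrix.diagonal_injective h12) i) (congrFun (Matrix.diagonal_injective h21) i)
    (congrFun (Matrix.diagonal_injective h22) i)

lemma pmat_injective {σ σ' : Equiv.Perm (Fin n)}
    (h : (pmat n σ : Matrix (Fin n) (Fin n) F) = pmat n σ') : σ = σ' := by
  ext j
  have h1 := congrFun (congrFun h (σ j)) j
  simp only [pmat, Matrix.of_apply, if_true] at h1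
  by_contra hne
  rw [if_neg (fun h2 => hne (by rw [h2]))] at h1
  exact one_ne_zero h1

lemma tauHom_injective : Function.Injective (tauHom (F := F) n) := by
  intro σ σ' h
  have h1 : (pm n σ : Matrix (Fin n ⊕ Fin n) (Fin n ⊕ Fin n) F) = pm n σ' :=
    congrArg Subtype.val h
  unfold pm at h1
  rw [Matrix.fromBlocks_inj] at h1
  exact pmat_injective n h1.1

lemma range_inf : (betaHom (F := F) n).range ⊓ (tauHom (F := F) n).range = ⊥ := by
  rw [eq_bot_iff]
  rintro x ⟨⟨f, rfl⟩, ⟨σ, hσ⟩⟩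
  have h1 : (pm n σ : Matrix (Fin n ⊕ Fin n) (Fin n ⊕ Fin n) F) =
      bm n (fun i => (f i : Matrix (Fin 1 ⊕ Fin 1) (Fin 1 ⊕ Fin 1) F)) := congrArg Subtype.val hσ
  unfold pm bm at h1
  rw [Matrix.fromBlocks_inj] at h1
  have h2 : σ = 1 := by
    ext j
    have h3 := congrFun (congrFun h1.1 (σ j)) j
    simp only [pmat, Matrix.of_apply, if_true] at h3
    by_contra hne
    rw [Matrix.diagonal_apply_ne _ (fun h4 => hne (by rw [h4]; rfl))] at h3
    exact one_ne_zero h3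
  rw [Subgroup.mem_bot, ← hσ, h2, map_one]

end emb

section val
open Nat

lemma lte_two (q : ℕ) (hq : Odd q) (hq1 : 1 < q) (k : ℕ) (hk : k ≠ 0) :
    padicValNat 2 (q ^ (2 * k) - 1) = padicValNat 2 (q ^ 2 - 1) + padicValNat 2 k := by
  have h2 : ¬ 2 ∣ q := by
    rw [Nat.two_dvd_ne_zero]; exact Nat.odd_iff.1 hq
  have h3 : 2 ∣ q - 1 := by
    have := Nat.odd_iff.1 hq; omega
  have hA := padicValNat.pow_two_sub_pow hq1 h3 h2 (n := 2 * k) (by omega) (even_two_mul k)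
  have hB := padicValNat.pow_two_sub_pow hq1 h3 h2 (n := 2) (by omega) even_two
  have hC : padicValNat 2 (2 * k) = 1 + padicValNat 2 k := by
    rw [padicValNat.mul (by norm_num) hk, padicValNat_self]
  have hD : padicValNat 2 2 = 1 := padicValNat_self
  rw [one_pow] at hA hB
  omega

lemma val_prod (q : ℕ) (hq : Odd q) (hq1 : 1 < q) (n : ℕ) :
    (∏ i ∈ Finset.range n, (q ^ (2 * (i + 1)) - 1)) ≠ 0 ∧
    padicValNat 2 (∏ i ∈ Finset.range n, (q ^ (2 * (i + 1)) - 1)) =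
      n * padicValNat 2 (q ^ 2 - 1) + padicValNat 2 n ! := by
  induction n with
  | zero => simp
  | succ n ih =>
    have hne : q ^ (2 * (n + 1)) - 1 ≠ 0 := by
      have : 1 < q ^ (2 * (n + 1)) := Nat.one_lt_pow (by omega) hq1
      omega
    refine ⟨by rw [Finset.prod_range_succ]; exact mul_ne_zero ih.1 hne, ?_⟩
    rw [Finset.prod_range_succ, padicValNat.mul ih.1 hne, ih.2, lte_two q hq hq1 (n + 1) (by omega),
      Nat.factorial_succ, padicValNat.mul (by omega) (Nat.factorial_ne_zero n)]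
    ring

lemma val_sp (q : ℕ) (hq : Odd q) (hq1 : 1 < q) (n : ℕ) :
    padicValNat 2 (q ^ (n ^ 2) * ∏ i ∈ Finset.range n, (q ^ (2 * (i + 1)) - 1)) =
      n * padicValNat 2 (q ^ 2 - 1) + padicValNat 2 n ! := by
  have h1 : q ^ (n ^ 2) ≠ 0 := pow_ne_zero _ (by omega)
  have h2 : padicValNat 2 (q ^ (n ^ 2)) = 0 := by
    apply padicValNat.eq_zero_of_not_dvd
    intro h
    have := Nat.prime_two.dvd_of_dvd_pow h
    rw [Nat.odd_iff] at hq
    omega
  rw [padicValNat.mul h1 (val_prod q hq hq1 n).1, h2, zero_add, (val_prod q hq hq1 n).2]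

end val

section main
open Pointwise

lemma card_pi_const {ι : Type*} [Finite ι] {H : Type*} [Group H] (Q : Subgroup H) :
    Nat.card (Subgroup.pi Set.univ (fun _ : ι => Q)) = Nat.card Q ^ Nat.card ι := by
  rw [← Nat.card_fun]
  exact Nat.card_congr
    { toFun := fun x i => ⟨x.1 i, x.2 i (Set.mem_univ i)⟩
      invFun := fun f => ⟨fun i => (f i).1, fun i _ => (f i).2⟩
      left_inv := fun x => rfl
      right_inv := fun f => rfl }

variable {F : Type*} [Field F] [Fintype F]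

theorem sp_sylow_good (hF : Odd (Fintype.card F)) (n : ℕ)
    (P : Sylow 2 (Matrix.symplecticGroup (Fin n) F)) :
    Good 2 (P : Subgroup (Matrix.symplecticGroup (Fin n) F)) := by
  classical
  obtain ⟨q, hq⟩ : ∃ q : ℕ, Fintype.card F = q := ⟨_, rfl⟩
  rw [hq] at hF
  have hq1 : 1 < q := by rw [← hq]; exact Fintype.one_lt_card
  have hqc : Nat.card F = q := by rw [Nat.card_eq_fintype_card, hq]
  have hF' : Odd (Fintype.card F) := by rw [hq]; exact hF
  let Q : Sylow 2 (Matrix.symplecticGroup (Fin 1) F) := default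
  let T₀ : Sylow 2 (Equiv.Perm (Fin n)) := default
  have hQg := sp2_sylow_good hF' Q
  have hTg := (Cfsg.Agent.Lib.Helper1.SylSym.main 2 n (Fin n) (Fintype.card_fin n) T₀).1
  obtain ⟨B, hB⟩ : ∃ B : Subgroup (Matrix.symplecticGroup (Fin n) F), B = (Subgroup.pi Set.univ
      (fun _ : Fin n => (Q : Subgroup (Matrix.symplecticGroup (Fin 1) F)))).map (betaHom n) :=
    ⟨_, rfl⟩
  obtain ⟨T, hT⟩ : ∃ T : Subgroup (Matrix.symplecticGroup (Fin n) F),
      T = (T₀ : Subgroup (Equiv.Perm (Fin n))).map (tauHom (F := F) n) := ⟨_, rfl⟩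
  have hnorm : ∀ t ∈ T, ∀ b ∈ B, t * b * t⁻¹ ∈ B := by
    rw [hB, hT]
    rintro _ ⟨σ, hσ, rfl⟩ _ ⟨f, hf, rfl⟩
    refine ⟨fun i => f (σ.symm i), fun i _ => hf (σ.symm i) (Set.mem_univ _), ?_⟩
    rw [tau_beta, mul_inv_cancel_right]
  have hBT : B ⊓ T = ⊥ := by
    rw [eq_bot_iff, ← range_inf (F := F) n, hB, hT]
    exact inf_le_inf (Subgroup.map_le_range _ _) (Subgroup.map_le_range _ _)
  have hWg : Good 2 (prodSub B T hnorm) := by
    rw [prodSub_eq_sup, hB, hT]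
    exact good_sup (good_map _ (good_pi _ hQg)) (good_map _ hTg)
  have hcardQ : Nat.card Q = 2 ^ padicValNat 2 (q ^ 2 - 1) := by
    rw [Sylow.card_eq_multiplicity, Cfsg.Agent.Lib.Helper5.SympCount.card_sp F 1 q hqc,
      Nat.factorization_def _ Nat.prime_two, val_sp q hF hq1 1]
    simp
  have hcardT : Nat.card T₀ = 2 ^ padicValNat 2 n.factorial := by
    rw [Sylow.card_eq_multiplicity, Nat.card_perm, Nat.card_eq_fintype_card, Fintype.card_fin,
      Nat.factorization_def _ Nat.prime_two]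
  have hcardW : Nat.card (prodSub B T hnorm) =
      2 ^ (n * padicValNat 2 (q ^ 2 - 1) + padicValNat 2 n.factorial) := by
    rw [prodSub_card B T hnorm hBT, hB, hT, Subgroup.card_map_of_injective (betaHom_injective n),
      Subgroup.card_map_of_injective (tauHom_injective n), hcardT, card_pi_const, hcardQ,
      Nat.card_eq_fintype_card, Fintype.card_fin, ← pow_mul, ← pow_add, mul_comm]
  obtain ⟨P', hP'⟩ := (IsPGroup.of_card hcardW).exists_le_sylow
  have hcardP' : Nat.card P' =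
      2 ^ (n * padicValNat 2 (q ^ 2 - 1) + padicValNat 2 n.factorial) := by
    rw [Sylow.card_eq_multiplicity, Cfsg.Agent.Lib.Helper5.SympCount.card_sp F n q hqc,
      Nat.factorization_def _ Nat.prime_two, val_sp q hF hq1 n]
  have hWP : prodSub B T hnorm = P' :=
    Subgroup.eq_of_le_of_card_ge hP' (by rw [hcardP', hcardW])
  obtain ⟨g, hg⟩ := MulAction.exists_smul_eq (Matrix.symplecticGroup (Fin n) F) P' P
  rw [← hg, Sylow.coe_subgroup_smul, ← hWP, Subgroup.pointwise_smul_def]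
  exact good_map _ hWg

end main

end Cfsg.Agent.Lib.Helper1.SylSp
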