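import Mathlib
import Cfsg.Agent.Lib.Helper1.SpDLA
import Cfsg.Agent.Lib.Helper1.SylSpC

/-!
Generic wreath layer: a group `G` with homs `β : (o → Hb) →* G`, `τ : Perm o →* G` satisfying the
wreath relation; supports, big `p`-subgroups with long derived series, Sylow transfer.
-/

namespace Cfsg.Agent.Lib.Helper1.GWr

open scoped commutatorElement
open Cfsg.Agent.Lib.Helper1.SpDL Cfsg.Agent.Lib.Helper1.SylSp

section generic
variable {G Hb o : Type*} [Group G] [Group Hb]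
  {β : (o → Hb) →* G} {τ : Equiv.Perm o →* G}
  (hrel : ∀ (σ : Equiv.Perm o) (f : o → Hb), τ σ * β f = β (fun i => f (σ.symm i)) * τ σ)

/-- wreath elements supported on `I` -/
def wsupp (I : Set o) : Subgroup G where
  carrier := {g | ∃ (f : o → Hb) (σ : Equiv.Perm o),
    (∀ x, x ∉ I → f x = 1) ∧ (∀ x, x ∉ I → σ x = x) ∧ g = β f * τ σ}
  one_mem' := ⟨1, 1, fun _ _ => rfl, fun _ _ => rfl, by simp⟩
  mul_mem' := by
    rintro _ _ ⟨f, σ, hf, hσ, rfl⟩ ⟨f', σ', hf', hσ', rfl⟩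
    refine ⟨f * (fun i => f' (σ.symm i)), σ * σ', ?_, ?_, ?_⟩
    · intro x hx
      have h1 : σ.symm x = x := by
        rw [Equiv.symm_apply_eq]; exact (hσ x hx).symm
      rw [Pi.mul_apply, hf x hx, h1, hf' x hx, mul_one]
    · intro x hx
      rw [Equiv.Perm.mul_apply, hσ' x hx, hσ x hx]
    · rw [map_mul, map_mul, mul_assoc, ← mul_assoc (τ σ), hrel]
      simp only [mul_assoc]
  inv_mem' := by
    rintro _ ⟨f, σ, hf, hσ, rfl⟩
    refine ⟨fun i => (f (σ i))⁻¹, σ⁻¹, ?_, ?_, ?_⟩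
    · intro x hx
      show (f (σ x))⁻¹ = 1
      rw [hσ x hx, hf x hx, inv_one]
    · intro x hx
      rw [Equiv.Perm.inv_eq_iff_eq]
      exact (hσ x hx).symm
    · rw [_root_.mul_inv_rev, ← map_inv, ← map_inv, hrel]
      rfl

lemma wsupp_mono {I J : Set o} (h : I ⊆ J) : wsupp hrel I ≤ wsupp hrel J := by
  rintro _ ⟨f, σ, hf, hσ, rfl⟩
  exact ⟨f, σ, fun x hx => hf x (fun h' => hx (h h')), fun x hx => hσ x (fun h' => hx (h h')), rfl⟩

omit [Group G] [Group Hb] in
lemma wperm_mem_of_fix {I : Set o} {σ : Equiv.Perm o} (hσ : ∀ x, x ∉ I → σ x = x)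
    {i : o} (hi : i ∈ I) : σ i ∈ I := by
  by_contra h
  have h1 := hσ _ h
  have h2 : σ i = i := σ.injective h1
  rw [h2] at h
  exact h hi

lemma wperm_symm_mem_of_fix {I : Set o} {σ : Equiv.Perm o}
    (hσ : ∀ x, x ∉ I → σ x = x) {i : o} (hi : i ∈ I) : σ.symm i ∈ I := by
  by_contra h
  have h1 := hσ _ h
  rw [Equiv.apply_symm_apply] at h1
  rw [← h1] at h
  exact h hi

lemma wcomp_symm_eq {I J : Set o} (hIJ : Disjoint I J)
    {f' : o → Hb} {σ : Equiv.Perm o}
    (hf' : ∀ x, x ∉ J → f' x = 1) (hσ : ∀ x, x ∉ I → σ x = x) :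
    (fun i => f' (σ.symm i)) = f' := by
  funext i
  by_cases hi : i ∈ I
  · have h1 : σ.symm i ∈ I := wperm_symm_mem_of_fix hσ hi
    rw [hf' _ (fun h => Set.disjoint_left.1 hIJ h1 h), hf' _ (fun h => Set.disjoint_left.1 hIJ hi h)]
  · have h1 : σ.symm i = i := by
      rw [Equiv.symm_apply_eq]; exact (hσ i hi).symm
    rw [h1]

lemma wsupp_comm (I J : Set o) (hIJ : Disjoint I J) :
    ∀ x ∈ wsupp hrel I, ∀ y ∈ wsupp hrel J, x * y = y * x := by
  rintro _ ⟨f, σ, hf, hσ, rfl⟩ _ ⟨f', σ', hf', hσ', rfl⟩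
  have e1 : (fun i => f' (σ.symm i)) = f' := wcomp_symm_eq hIJ hf' hσ
  have e2 : (fun i => f (σ'.symm i)) = f := wcomp_symm_eq hIJ.symm hf hσ'
  have e3 : f * f' = f' * f := by
    funext i
    by_cases hi : i ∈ I
    · rw [Pi.mul_apply, Pi.mul_apply, hf' i (fun h => Set.disjoint_left.1 hIJ hi h), mul_one,
        one_mul]
    · rw [Pi.mul_apply, Pi.mul_apply, hf i hi, mul_one, one_mul]
  have e4 : σ * σ' = σ' * σ := by
    ext i
    simp only [Equiv.Perm.mul_apply]
    by_cases hi : i ∈ I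
    · have hi' : i ∉ J := fun h => Set.disjoint_left.1 hIJ hi h
      have h1 : σ i ∈ I := wperm_mem_of_fix hσ hi
      rw [hσ' i hi', hσ' (σ i) (fun h => Set.disjoint_left.1 hIJ h1 h)]
    · have h1 : σ' i ∉ I := by
        by_cases hj : i ∈ J
        · have h2 : σ' i ∈ J := wperm_mem_of_fix hσ' hj
          exact fun h => Set.disjoint_left.1 hIJ h h2
        · rw [hσ' i hj]; exact hi
      rw [hσ i hi, hσ _ h1]
  calc β f * τ σ * (β f' * τ σ')
      = β f * (τ σ * β f') * τ σ' := by simp only [mul_assoc]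
    _ = β f * (β f' * τ σ) * τ σ' := by rw [hrel, e1]
    _ = β (f * f') * τ (σ * σ') := by
        rw [map_mul, map_mul]; simp only [mul_assoc]
    _ = β (f' * f) * τ (σ' * σ) := by rw [e3, e4]
    _ = β f' * (β f * τ σ') * τ σ := by
        rw [map_mul, map_mul]; simp only [mul_assoc]
    _ = β f' * (τ σ' * β f) * τ σ := by rw [hrel, e2]
    _ = β f' * τ σ' * (β f * τ σ) := by simp only [mul_assoc]

lemma wdecomp_unique (hβ : Function.Injective β) (hτ : Function.Injective τ)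
    (hinf : β.range ⊓ τ.range = ⊥) {f f' : o → Hb} {σ σ' : Equiv.Perm o}
    (h : β f * τ σ = β f' * τ σ') : f = f' ∧ σ = σ' := by
  have h1 : β (f'⁻¹ * f) = τ (σ' * σ⁻¹) := by
    rw [map_mul, map_mul, map_inv, map_inv, inv_mul_eq_iff_eq_mul, ← mul_assoc, ← h]
    group
  have h2 : β (f'⁻¹ * f) ∈ β.range ⊓ τ.range :=
    ⟨⟨_, rfl⟩, ⟨_, h1.symm⟩⟩
  rw [hinf, Subgroup.mem_bot] at h2
  have h3 : f'⁻¹ * f = 1 := hβ (by rw [h2, map_one])
  have h4 : σ' * σ⁻¹ = 1 := hτ (by rw [← h1, h2, map_one])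
  exact ⟨(inv_mul_eq_one.1 h3).symm, (mul_inv_eq_one.1 h4).symm⟩

lemma wsupp_inf (hβ : Function.Injective β) (hτ : Function.Injective τ)
    (hinf : β.range ⊓ τ.range = ⊥) (I J : Set o) (hIJ : Disjoint I J) :
    wsupp hrel I ⊓ wsupp hrel J = ⊥ := by
  rw [eq_bot_iff]
  rintro x ⟨⟨f, σ, hf, hσ, rfl⟩, ⟨f', σ', hf', hσ', h⟩⟩
  obtain ⟨rfl, rfl⟩ := wdecomp_unique hβ hτ hinf h
  have hf1 : f = 1 := by
    funext i
    by_cases hi : i ∈ I
    · exact hf' i (fun h => Set.disjoint_left.1 hIJ hi h)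
    · exact hf i hi
  have hσ1 : σ = 1 := by
    ext i
    by_cases hi : i ∈ I
    · rw [hσ' i (fun h => Set.disjoint_left.1 hIJ hi h)]; rfl
    · rw [hσ i hi]; rfl
  rw [Subgroup.mem_bot, hf1, hσ1, map_one, map_one, mul_one]

lemma wsupp_conj (I : Set o) (w : Equiv.Perm o) :
    ∀ x ∈ wsupp hrel I, τ w * x * (τ w)⁻¹ ∈ wsupp hrel (w '' I) := by
  rintro _ ⟨f, σ, hf, hσ, rfl⟩
  refine ⟨fun i => f (w.symm i), w * σ * w⁻¹, ?_, ?_, ?_⟩
  · intro x hx
    apply hf
    intro h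
    exact hx ⟨_, h, Equiv.apply_symm_apply w x⟩
  · intro x hx
    have h1 : w.symm x ∉ I := fun h => hx ⟨_, h, Equiv.apply_symm_apply w x⟩
    show w (σ (w.symm x)) = x
    rw [hσ _ h1, Equiv.apply_symm_apply]
  · rw [← mul_assoc, hrel, map_mul, map_mul, map_inv]
    simp only [mul_assoc]

end generic

/-- a cyclic shift of order `p` on a set of size `p^(i+1)`, with a transversal piece -/
lemma exists_cyc {o : Type*} (p : ℕ) [Fact p.Prime] (i : ℕ) (I : Finset o)
    (hI : I.card = p ^ (i + 1)) :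
    ∃ (c : Equiv.Perm o) (ℓ : o → ZMod p) (I₀ : Finset o), I₀ ⊆ I ∧ I₀.card = p ^ i ∧
      (∀ x ∈ I₀, ℓ x = 0) ∧ (∀ x ∈ I, ℓ (c x) = ℓ x + 1) ∧ (∀ x ∈ I, c x ∈ I) ∧
      (∀ x, x ∉ I → c x = x) ∧ c ^ p = 1 := by
  classical
  haveI : NeZero p := ⟨(Fact.out : p.Prime).ne_zero⟩
  have hcard : Fintype.card ↥I = Fintype.card (ZMod p × Fin (p ^ i)) := by
    rw [Fintype.card_coe, hI, Fintype.card_prod, ZMod.card, Fintype.card_fin, pow_succ, mul_comm]
  let ε : ↥I ≃ ZMod p × Fin (p ^ i) := Fintype.equivOfCardEq hcard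
  let s : Equiv.Perm (ZMod p × Fin (p ^ i)) :=
    (Equiv.addRight (1 : ZMod p)).prodCongr (Equiv.refl _)
  let cI : Equiv.Perm ↥I := ε.trans (s.trans ε.symm)
  have hcI1 : ∀ x : ↥I, cI x = ε.symm ((ε x).1 + 1, (ε x).2) := fun x => rfl
  have hcI : ∀ (m : ℕ) (x : ↥I), (cI ^ m) x = ε.symm ((ε x).1 + m, (ε x).2) := by
    intro m
    induction m with
    | zero => intro x; simp
    | succ m ih =>
      intro x
      rw [pow_succ', Equiv.Perm.mul_apply, ih, hcI1, Equiv.apply_symm_apply, Nat.cast_succ,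
        add_assoc]
  have hcIp : cI ^ p = 1 := by
    ext x
    rw [hcI]
    simp
  let ℓ : o → ZMod p := fun x => if h : x ∈ I then (ε ⟨x, h⟩).1 else 0
  have hinj : Function.Injective (fun k : Fin (p ^ i) => ((ε.symm (0, k) : ↥I) : o)) := by
    intro k k' h
    have h1 := ε.symm.injective (Subtype.val_injective h)
    exact (Prod.mk.inj h1).2
  refine ⟨Equiv.Perm.ofSubtype cI, ℓ, Finset.univ.map ⟨_, hinj⟩, ?_, ?_, ?_, ?_, ?_, ?_, ?_⟩
  · intro x hx
    obtain ⟨k, -, rfl⟩ := Finset.mem_map.1 hx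
    exact (ε.symm (0, k)).2
  · rw [Finset.card_map, Finset.card_univ, Fintype.card_fin]
  · intro x hx
    obtain ⟨k, -, rfl⟩ := Finset.mem_map.1 hx
    show (if h : ((ε.symm (0, k) : ↥I) : o) ∈ I then (ε ⟨_, h⟩).1 else 0) = 0
    rw [dif_pos (ε.symm (0, k)).2]
    simp
  · intro x hx
    have h1 : Equiv.Perm.ofSubtype cI x = ↑(cI ⟨x, hx⟩) :=
      Equiv.Perm.ofSubtype_apply_of_mem cI hx
    show (if h : Equiv.Perm.ofSubtype cI x ∈ I then (ε ⟨_, h⟩).1 else 0) =
      (if h : x ∈ I then (ε ⟨x, h⟩).1 else 0) + 1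
    rw [dif_pos hx, dif_pos (by rw [h1]; exact (cI ⟨x, hx⟩).2)]
    have h2 : (⟨Equiv.Perm.ofSubtype cI x, by rw [h1]; exact (cI ⟨x, hx⟩).2⟩ : ↥I) =
        cI ⟨x, hx⟩ := Subtype.ext h1
    rw [h2, hcI1, Equiv.apply_symm_apply]
  · intro x hx
    have h1 : Equiv.Perm.ofSubtype cI x = ↑(cI ⟨x, hx⟩) :=
      Equiv.Perm.ofSubtype_apply_of_mem cI hx
    rw [h1]
    exact (cI ⟨x, hx⟩).2
  · intro x hx
    exact Equiv.Perm.ofSubtype_apply_of_not_mem cI hx
  · rw [← map_pow, hcIp, map_one]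

section big
variable {G Hb o : Type*} [Group G] [Group Hb]
  {β : (o → Hb) →* G} {τ : Equiv.Perm o →* G}
  (hrel : ∀ (σ : Equiv.Perm o) (f : o → Hb), τ σ * β f = β (fun i => f (σ.symm i)) * τ σ)

theorem wexists_big (hβ : Function.Injective β) (hτ : Function.Injective τ)
    (hinf : β.range ⊓ τ.range = ⊥) (p : ℕ) [Fact p.Prime]
    (C₁ : Subgroup Hb) (hC₁ : IsPGroup p C₁) (d₀ : ℕ) (hd₀ : dser C₁ d₀ ≠ ⊥) :
    ∀ (i : ℕ) (I : Finset o), I.card = p ^ i →
    ∃ X : Subgroup G, X ≤ wsupp hrel (I : Set o) ∧ IsPGroup p X ∧ dser X (d₀ + i) ≠ ⊥ := by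
  classical
  have hp := (Fact.out : p.Prime)
  intro i
  induction i with
  | zero =>
    intro I hI
    rw [pow_zero, Finset.card_eq_one] at hI
    obtain ⟨a, rfl⟩ := hI
    obtain ⟨φ, hφ⟩ : ∃ φ : Hb →* G, φ = β.comp (MonoidHom.mulSingle (fun _ : o => Hb) a) :=
      ⟨_, rfl⟩
    have hinj : Function.Injective φ := by
      rw [hφ]
      intro u v h
      have h' : Pi.mulSingle a u = Pi.mulSingle a v :=
        hβ (show β (Pi.mulSingle a u) = β (Pi.mulSingle a v) from h)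
      exact Pi.mulSingle_injective a h'
    refine ⟨C₁.map φ, ?_, hC₁.map φ, ?_⟩
    · rintro _ ⟨h, hh, rfl⟩
      refine ⟨Pi.mulSingle a h, 1, ?_, fun _ _ => rfl, ?_⟩
      · intro x hx
        apply Pi.mulSingle_eq_of_ne
        intro hxa
        apply hx
        rw [hxa]
        simp
      · rw [hφ, map_one, mul_one]
        rfl
    · rw [add_zero, dser_map]
      intro hbot
      apply hd₀
      exact (Subgroup.map_eq_bot_iff_of_injective _ hinj).1 hbot
  | succ i ih =>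
    intro I hI
    obtain ⟨c, ℓ, I₀, hI₀, hc₀, hℓ0, hℓc, hcI, hcfix, hcp⟩ := exists_cyc p i I hI
    obtain ⟨X₀, hX₀, hp₀, hd₁⟩ := ih I₀ hc₀
    obtain ⟨t, ht⟩ : ∃ t : G, t = τ c := ⟨_, rfl⟩
    have htp : t ^ p = 1 := by rw [ht, ← map_pow, hcp, map_one]
    obtain ⟨L, hL⟩ : ∃ L : ℕ → Set o, L = fun j : ℕ => {x | x ∈ I ∧ ℓ x = (j : ZMod p)} := ⟨_, rfl⟩
    have hLI : ∀ j, L j ⊆ (I : Set o) := by
      intro j x hx
      rw [hL] at hx
      exact hx.1
    have hcj : ∀ (j : ℕ) (z : o), z ∈ I₀ → (c ^ j) z ∈ L j := by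
      intro j
      induction j with
      | zero =>
        intro z hz
        rw [hL]
        refine ⟨hI₀ hz, ?_⟩
        rw [pow_zero, Equiv.Perm.one_apply, hℓ0 z hz, Nat.cast_zero]
      | succ j ihj =>
        intro z hz
        have h1 := ihj z hz
        rw [hL] at h1 ⊢
        refine ⟨?_, ?_⟩
        · rw [pow_succ', Equiv.Perm.mul_apply]; exact hcI _ h1.1
        · rw [pow_succ', Equiv.Perm.mul_apply, hℓc _ h1.1, h1.2, Nat.cast_succ]
    have hdisj : ∀ j j' : ℕ, j < p → j' < p → j ≠ j' → Disjoint (L j) (L j') := by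
      intro j j' hj hj' hne
      rw [Set.disjoint_left, hL]
      rintro x ⟨-, h1⟩ ⟨-, h2⟩
      have h3 : (j : ZMod p) = (j' : ZMod p) := h1.symm.trans h2
      rw [ZMod.natCast_eq_natCast_iff', Nat.mod_eq_of_lt hj, Nat.mod_eq_of_lt hj'] at h3
      exact hne h3
    obtain ⟨Xf, hXf⟩ : ∃ Xf : ℕ → Subgroup G,
        Xf = fun j => X₀.map (MulAut.conj (t ^ j)).toMonoidHom := ⟨_, rfl⟩
    have hXL : ∀ j, Xf j ≤ wsupp hrel (L j) := by
      intro j
      rw [hXf]
      rintro _ ⟨x, hx, rfl⟩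
      have h1 := wsupp_conj hrel (I₀ : Set o) (c ^ j) x (hX₀ hx)
      rw [map_pow, ← ht] at h1
      refine wsupp_mono hrel ?_ h1
      rintro _ ⟨z, hz, rfl⟩
      exact hcj j z hz
    have hXp : ∀ j, IsPGroup p (Xf j) := by
      intro j; rw [hXf]; exact hp₀.map _
    have hcomm : ∀ j j' : ℕ, j < p → j' < p → j ≠ j' →
        ∀ x ∈ Xf j, ∀ y ∈ Xf j', x * y = y * x :=
      fun j j' hj hj' hne x hx y hy =>
        wsupp_comm hrel _ _ (hdisj j j' hj hj' hne) x (hXL j hx) y (hXL j' hy)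
    obtain ⟨Kf, hKf⟩ : ∃ Kf : ℕ → Subgroup G, Kf = fun m => (Finset.range m).sup Xf := ⟨_, rfl⟩
    have hKp : ∀ m, m ≤ p → IsPGroup p (Kf m) := by
      intro m
      induction m with
      | zero =>
        intro _
        rw [hKf]
        simp only [Finset.range_zero, Finset.sup_empty]
        exact IsPGroup.of_bot
      | succ m ihm =>
        intro hm
        have h1 : Kf (m + 1) = Xf m ⊔ Kf m := by
          rw [hKf]
          simp only [Finset.range_add_one, Finset.sup_insert]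
        rw [h1]
        apply IsPGroup.to_sup_of_normal_right' (hXp m) (ihm (by omega))
        have h2 : Kf m ≤ Subgroup.centralizer (Xf m : Set G) := by
          rw [hKf]
          apply Finset.sup_le
          intro j hj
          have hj' := Finset.mem_range.1 hj
          intro a ha
          rw [Subgroup.mem_centralizer_iff]
          intro x hx
          exact hcomm m j (by omega) (by omega) (by omega) x hx a ha
        intro x hx
        apply mem_normalizer_of_conj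
        · intro a ha
          have h3 := (Subgroup.mem_centralizer_iff.1 (h2 ha)) x hx
          rw [h3, mul_inv_cancel_right]; exact ha
        · intro a ha
          have h3 := (Subgroup.mem_centralizer_iff.1 (h2 ha)) x hx
          rw [mul_assoc, ← h3, inv_mul_cancel_left]; exact ha
    obtain ⟨K, hK⟩ : ∃ K : Subgroup G, K = Kf p := ⟨_, rfl⟩
    have hKpg : IsPGroup p K := by rw [hK]; exact hKp p le_rfl
    have hXK : ∀ j, j < p → Xf j ≤ K := by
      intro j hj
      rw [hK, hKf]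
      exact Finset.le_sup (f := Xf) (Finset.mem_range.2 hj)
    have hXmem : ∀ (j : ℕ), ∀ y ∈ X₀, t ^ j * y * (t ^ j)⁻¹ ∈ K := by
      intro j y hy
      rw [pow_eq_pow_mod j htp]
      apply hXK (j % p) (Nat.mod_lt _ hp.pos)
      rw [hXf]
      exact ⟨y, hy, rfl⟩
    have hmapK : ∀ a ∈ K, t * a * t⁻¹ ∈ K := by
      have h1 : K ≤ K.comap (MulAut.conj t).toMonoidHom := by
        conv_lhs => rw [hK, hKf]
        apply Finset.sup_le
        intro j hj
        rw [hXf]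
        rintro _ ⟨y, hy, rfl⟩
        rw [Subgroup.mem_comap]
        show t * (t ^ j * y * (t ^ j)⁻¹) * t⁻¹ ∈ K
        have h2 := hXmem (j + 1) y hy
        rw [pow_succ'] at h2
        have h3 : t * (t ^ j * y * (t ^ j)⁻¹) * t⁻¹ = t * t ^ j * y * (t * t ^ j)⁻¹ := by group
        rw [h3]
        exact h2
      intro a ha
      exact h1 ha
    have hmapK' : ∀ (m : ℕ), ∀ a ∈ K, t ^ m * a * (t ^ m)⁻¹ ∈ K := by
      intro m
      induction m with
      | zero => intro a ha; simpa using ha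
      | succ m ihm =>
        intro a ha
        have h2 := hmapK _ (ihm a ha)
        have h3 : t ^ (m + 1) * a * (t ^ (m + 1))⁻¹ = t * (t ^ m * a * (t ^ m)⁻¹) * t⁻¹ := by
          rw [pow_succ']; group
        rw [h3]
        exact h2
    have htinv : t⁻¹ = t ^ (p - 1) := by
      apply inv_eq_of_mul_eq_one_left
      rw [← pow_succ, Nat.sub_add_cancel hp.pos, htp]
    have hnz : Subgroup.zpowers t ≤ Subgroup.normalizer (K : Set G) := by
      rw [Subgroup.zpowers_le]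
      apply mem_normalizer_of_conj hmapK
      intro a ha
      have h3 := hmapK' (p - 1) a ha
      rw [← htinv, inv_inv] at h3
      exact h3
    have hzp : IsPGroup p (Subgroup.zpowers t) := by
      rintro ⟨x, hx⟩
      obtain ⟨k, rfl⟩ := Subgroup.mem_zpowers_iff.1 hx
      refine ⟨1, Subtype.ext ?_⟩
      show (t ^ k) ^ p ^ 1 = 1
      rw [pow_one, ← zpow_natCast, ← zpow_mul, mul_comm, zpow_mul, zpow_natCast, htp, one_zpow]
    have hZp : IsPGroup p (K ⊔ Subgroup.zpowers t : Subgroup G) := by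
      rw [sup_comm]
      exact IsPGroup.to_sup_of_normal_right' hzp hKpg hnz
    have hX0K : X₀ ≤ K := by
      intro y hy
      have h1 := hXmem 0 y hy
      simpa using h1
    have hI₀L : (I₀ : Set o) ⊆ L 0 := by
      intro z hz
      have h1 := hcj 0 z hz
      simpa using h1
    have hp1 : 1 < p := hp.one_lt
    have hd01 : Disjoint (L 0) (L 1) := hdisj 0 1 hp.pos hp1 (by omega)
    refine ⟨K ⊔ Subgroup.zpowers t, ?_, hZp, ?_⟩
    · apply sup_le
      · rw [hK, hKf]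
        apply Finset.sup_le
        intro j hj
        exact (hXL j).trans (wsupp_mono hrel (hLI j))
      · rw [Subgroup.zpowers_le]
        refine ⟨1, c, fun _ _ => rfl, ?_, ?_⟩
        · intro x hx
          exact hcfix x (fun h => hx h)
        · rw [ht, map_one, one_mul]
    · have h5 := dl_step X₀ (Xf 1) (K ⊔ Subgroup.zpowers t) t
        (fun x hx y hy => wsupp_comm hrel _ _ hd01 x (wsupp_mono hrel hI₀L (hX₀ hx)) y (hXL 1 hy))
        (eq_bot_iff.2 (le_trans (inf_le_inf ((hX₀).trans (wsupp_mono hrel hI₀L)) (hXL 1))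
          (wsupp_inf hrel hβ hτ hinf _ _ hd01).le))
        (by
          intro x hx
          rw [hXf]
          exact ⟨x, hx, by simp⟩)
        (hX0K.trans le_sup_left)
        (Subgroup.mem_sup_right (Subgroup.mem_zpowers t)) (d₀ + i) hd₁
      exact h5

include hrel in
theorem wreath_sub [Finite o] (hβ : Function.Injective β) (hτ : Function.Injective τ)
    (hinf : β.range ⊓ τ.range = ⊥) (C : Subgroup Hb) (T₀ : Subgroup (Equiv.Perm o)) (b : ℕ)
    (hC : dser C 1 = ⊥) (hT : dser T₀ b = ⊥) :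
    ∃ W : Subgroup G, dser W (b + 1) = ⊥ ∧
      Nat.card W = Nat.card C ^ Nat.card o * Nat.card T₀ := by
  obtain ⟨B, hB⟩ : ∃ B : Subgroup G, B = (Subgroup.pi Set.univ (fun _ : o => C)).map β :=
    ⟨_, rfl⟩
  obtain ⟨T, hT'⟩ : ∃ T : Subgroup G, T = T₀.map τ := ⟨_, rfl⟩
  have hnorm : ∀ t ∈ T, ∀ b ∈ B, t * b * t⁻¹ ∈ B := by
    rw [hB, hT']
    rintro _ ⟨σ, hσ, rfl⟩ _ ⟨f, hf, rfl⟩
    refine ⟨fun i => f (σ.symm i), fun i _ => hf (σ.symm i) (Set.mem_univ _), ?_⟩
    rw [hrel, mul_inv_cancel_right]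
  have hBT : B ⊓ T = ⊥ := by
    rw [eq_bot_iff, ← hinf, hB, hT']
    exact inf_le_inf (Subgroup.map_le_range _ _) (Subgroup.map_le_range _ _)
  refine ⟨prodSub B T hnorm, ?_, ?_⟩
  · have hTd : dser T b = ⊥ := by rw [hT', dser_map, hT, Subgroup.map_bot]
    have hBd : dser B 1 = ⊥ := by
      have h3 : dser (Subgroup.pi Set.univ (fun _ : o => C)) 1 = ⊥ := by
        rw [eq_bot_iff]
        refine (dser_pi _ 1).trans ?_
        rw [hC, Subgroup.pi_bot]
      rw [hB, dser_map, h3, Subgroup.map_bot]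
    rw [dser_add, eq_bot_iff, ← hBd]
    apply dser_mono
    intro x hx
    obtain ⟨b', hb', t, ht, rfl⟩ :=
      dser_prod B T hnorm (prodSub B T hnorm) (fun x hx => hx) _ x hx
    rw [hTd, Subgroup.mem_bot] at ht
    rw [ht, mul_one]
    exact hb'
  · rw [prodSub_card B T hnorm hBT, hB, hT', Subgroup.card_map_of_injective hβ,
      Subgroup.card_map_of_injective hτ, card_pi_const]

end big

section syl
variable {G : Type*} [Group G] [Finite G]

theorem sylow_upper (p : ℕ) [Fact p.Prime] (W : Subgroup G) (m : ℕ)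
    (hW : dser W m = ⊥) (hcard : Nat.card W = p ^ (Nat.card G).factorization p) (R : Sylow p G) :
    derivedSeries ↥(R : Subgroup G) m = ⊥ := by
  obtain ⟨P', hP'⟩ := (IsPGroup.of_card hcard).exists_le_sylow
  have hWP : W = P' :=
    Subgroup.eq_of_le_of_card_ge hP' (by rw [Sylow.card_eq_multiplicity, hcard])
  have h3 : derivedSeries ↥(P' : Subgroup G) m = ⊥ := by
    rw [ds_eq_bot_iff, ← hWP]; exact hW
  exact ds_bot_of_equiv (Sylow.equiv P' R) _ h3

theorem sylow_lower (p : ℕ) [Fact p.Prime] (X : Subgroup G) (m : ℕ)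
    (hXp : IsPGroup p X) (hX : dser X m ≠ ⊥) (R : Sylow p G) :
    derivedSeries ↥(R : Subgroup G) m ≠ ⊥ := by
  obtain ⟨P₀, hP₀⟩ := hXp.exists_le_sylow
  have h1 : dser (P₀ : Subgroup G) m ≠ ⊥ := by
    intro h
    apply hX
    rw [eq_bot_iff, ← h]
    exact dser_mono hP₀ _
  intro hbot
  apply h1
  rw [← ds_eq_bot_iff]
  exact ds_bot_of_equiv (Sylow.equiv R P₀) _ hbot

end syl

end Cfsg.Agent.Lib.Helper1.GWr
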