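import Mathlib
import Cfsg.Agent.Lib.Helper1.GWrA

/-!
Matrix instance of the generic wreath layer: `GL_m(F) ≀ S_o` inside `GL_{(m × o) ⊕ r}(F)`,
the `p`-part of `|GL_n(q)|` for `p ∤ q`, `p` odd, and an abelian `p`-subgroup of `GL_e(q)` of order
`(q^e - 1)_p` (from a Singer cycle).
-/

namespace Cfsg.Agent.Lib.Helper1.GWr

open Matrix

section mat
variable {F : Type*} [Field F] {m o r : Type*} [Fintype m] [DecidableEq m] [Fintype o]
  [DecidableEq o] [Fintype r] [DecidableEq r]

/-- block permutation matrix on `m × o` -/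
def pmt (σ : Equiv.Perm o) : Matrix (m × o) (m × o) F :=
  (Equiv.prodCongr (Equiv.refl m) σ.symm).toPEquiv.toMatrix

lemma pmt_apply (σ : Equiv.Perm o) (x y : m × o) :
    (pmt σ : Matrix (m × o) (m × o) F) x y = if (x.1, σ.symm x.2) = y then 1 else 0 := by
  unfold pmt
  rw [PEquiv.toMatrix_apply]
  refine if_congr ?_ rfl rfl
  rw [Equiv.toPEquiv_apply, Option.mem_def, Option.some_inj]
  rfl

lemma pmt_one : (pmt (1 : Equiv.Perm o) : Matrix (m × o) (m × o) F) = 1 := by
  ext x y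
  rw [pmt_apply, Matrix.one_apply]
  rfl

lemma pmt_mul (σ ρ : Equiv.Perm o) :
    (pmt (σ * ρ) : Matrix (m × o) (m × o) F) = pmt σ * pmt ρ := by
  ext x y
  have h : (pmt σ * pmt ρ : Matrix (m × o) (m × o) F) x y = pmt ρ (x.1, σ.symm x.2) y := by
    unfold pmt
    rw [PEquiv.toMatrix_toPEquiv_mul]
    rfl
  rw [h, pmt_apply, pmt_apply]
  rfl

lemma pmt_mul_block (σ : Equiv.Perm o) (f : o → Matrix m m F) :
    pmt σ * Matrix.blockDiagonal f = Matrix.blockDiagonal (fun i => f (σ.symm i)) * pmt σ := by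
  unfold pmt
  rw [PEquiv.toMatrix_toPEquiv_mul, PEquiv.mul_toMatrix_toPEquiv]
  ext x y
  simp [Matrix.blockDiagonal_apply, Equiv.symm_apply_eq]

/-- the block-diagonal matrix with an identity block on `r` -/
def bmat (f : o → Matrix m m F) : Matrix ((m × o) ⊕ r) ((m × o) ⊕ r) F :=
  Matrix.fromBlocks (Matrix.blockDiagonal f) 0 0 1

/-- the block permutation matrix with an identity block on `r` -/
def pfull (σ : Equiv.Perm o) : Matrix ((m × o) ⊕ r) ((m × o) ⊕ r) F :=
  Matrix.fromBlocks (pmt σ) 0 0 1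

lemma bmat_one : bmat (r := r) (fun _ : o => (1 : Matrix m m F)) = 1 := by
  unfold bmat
  have h : (Matrix.blockDiagonal fun _ : o => (1 : Matrix m m F)) = 1 := Matrix.blockDiagonal_one
  rw [h, Matrix.fromBlocks_one]

lemma bmat_mul (f g : o → Matrix m m F) :
    bmat (r := r) (fun i => f i * g i) = bmat f * bmat g := by
  unfold bmat
  rw [Matrix.fromBlocks_multiply, Matrix.blockDiagonal_mul]
  simp

lemma pfull_one :
    (pfull (1 : Equiv.Perm o) : Matrix ((m × o) ⊕ r) ((m × o) ⊕ r) F) = 1 := by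
  unfold pfull
  rw [pmt_one, Matrix.fromBlocks_one]

lemma pfull_mul (σ ρ : Equiv.Perm o) :
    (pfull (σ * ρ) : Matrix ((m × o) ⊕ r) ((m × o) ⊕ r) F) = pfull σ * pfull ρ := by
  unfold pfull
  rw [Matrix.fromBlocks_multiply, pmt_mul]
  simp

lemma pfull_mul_bmat (σ : Equiv.Perm o) (f : o → Matrix m m F) :
    (pfull σ : Matrix ((m × o) ⊕ r) ((m × o) ⊕ r) F) * bmat f =
      bmat (fun i => f (σ.symm i)) * pfull σ := by
  unfold pfull bmat
  rw [Matrix.fromBlocks_multiply, Matrix.fromBlocks_multiply, pmt_mul_block]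
  simp

/-- the base group hom -/
def wbeta : (o → GL m F) →* GL ((m × o) ⊕ r) F :=
  MonoidHom.toHomUnits
    { toFun := fun f => bmat (fun i => (f i : Matrix m m F))
      map_one' := bmat_one
      map_mul' := fun f g => bmat_mul _ _ }

lemma wbeta_coe (f : o → GL m F) :
    ((wbeta f : GL ((m × o) ⊕ r) F) : Matrix ((m × o) ⊕ r) ((m × o) ⊕ r) F) =
      bmat (fun i => (f i : Matrix m m F)) := rfl

/-- the top group hom -/
def wtau : Equiv.Perm o →* GL ((m × o) ⊕ r) F :=
  MonoidHom.toHomUnits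
    { toFun := fun σ => pfull σ
      map_one' := pfull_one
      map_mul' := fun σ ρ => pfull_mul σ ρ }

lemma wtau_coe (σ : Equiv.Perm o) :
    ((wtau σ : GL ((m × o) ⊕ r) F) : Matrix ((m × o) ⊕ r) ((m × o) ⊕ r) F) = pfull σ := rfl

lemma wrel (σ : Equiv.Perm o) (f : o → GL m F) :
    (wtau σ : GL ((m × o) ⊕ r) F) * wbeta f = wbeta (fun i => f (σ.symm i)) * wtau σ := by
  apply Units.ext
  rw [Units.val_mul, Units.val_mul, wtau_coe, wbeta_coe, wbeta_coe]
  exact pfull_mul_bmat σ _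

lemma wbeta_injective :
    Function.Injective (wbeta : (o → GL m F) →* GL ((m × o) ⊕ r) F) := by
  intro f g h
  have h1 : bmat (r := r) (fun i => (f i : Matrix m m F)) =
      bmat (fun i => (g i : Matrix m m F)) := congrArg Units.val h
  unfold bmat at h1
  rw [Matrix.fromBlocks_inj] at h1
  have h2 := Matrix.blockDiagonal_injective h1.1
  funext i
  exact Units.ext (congrFun h2 i)

lemma wtau_injective [Nonempty m] :
    Function.Injective (wtau : Equiv.Perm o →* GL ((m × o) ⊕ r) F) := by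
  intro σ σ' h
  have h1 : (pfull σ : Matrix ((m × o) ⊕ r) ((m × o) ⊕ r) F) = pfull σ' :=
    congrArg Units.val h
  unfold pfull at h1
  rw [Matrix.fromBlocks_inj] at h1
  obtain ⟨a⟩ := ‹Nonempty m›
  have key : ∀ j, σ'.symm j = σ.symm j := by
    intro j
    have h3 := congrFun (congrFun h1.1 (a, j)) (a, σ.symm j)
    rw [pmt_apply, pmt_apply, if_pos rfl] at h3
    by_contra hne
    rw [if_neg (fun h4 => hne (Prod.mk.inj h4).2)] at h3
    exact one_ne_zero h3
  ext j
  have h5 := key (σ j)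
  rw [Equiv.symm_apply_apply, Equiv.symm_apply_eq] at h5
  exact h5

lemma wrange_inf [Nonempty m] :
    (wbeta : (o → GL m F) →* GL ((m × o) ⊕ r) F).range ⊓
      (wtau : Equiv.Perm o →* GL ((m × o) ⊕ r) F).range = ⊥ := by
  rw [eq_bot_iff]
  rintro x ⟨⟨f, rfl⟩, ⟨σ, hσ⟩⟩
  have h1 : (pfull σ : Matrix ((m × o) ⊕ r) ((m × o) ⊕ r) F) =
      bmat (fun i => (f i : Matrix m m F)) := congrArg Units.val hσ
  unfold pfull bmat at h1
  rw [Matrix.fromBlocks_inj] at h1
  obtain ⟨a⟩ := ‹Nonempty m›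
  have h2 : σ = 1 := by
    ext j
    have h3 := congrFun (congrFun h1.1 (a, σ j)) (a, j)
    rw [pmt_apply, if_pos (by rw [Equiv.symm_apply_apply]), Matrix.blockDiagonal_apply] at h3
    by_contra hne
    rw [if_neg (show ¬ ((a, σ j).2 = (a, j).2) from fun h4 => hne h4)] at h3
    exact one_ne_zero h3
  rw [Subgroup.mem_bot, ← hσ, h2, map_one]

end mat

section val
variable (p : ℕ) [Fact p.Prime]

lemma val_GLp (q : ℕ) (hpq : ¬ p ∣ q) (hq1 : 1 < q) (N : ℕ) :
    padicValNat p (∏ i : Fin N, (q ^ N - q ^ (i : ℕ))) =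
      ∑ k ∈ Finset.range N, padicValNat p (q ^ (k + 1) - 1) := by
  have hp := (Fact.out : p.Prime)
  rw [Fin.prod_univ_eq_prod_range (fun i => q ^ N - q ^ i) N]
  have hne : ∀ i ∈ Finset.range N, q ^ N - q ^ i ≠ 0 := by
    intro i hi
    have := Nat.pow_lt_pow_right hq1 (Finset.mem_range.1 hi)
    omega
  rw [← Nat.factorization_def _ hp, Nat.factorization_prod hne, Finsupp.finsetSum_apply,
    ← Finset.sum_range_reflect (fun k => padicValNat p (q ^ (k + 1) - 1)) N]
  apply Finset.sum_congr rfl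
  intro i hi
  have hi' := Finset.mem_range.1 hi
  have h1 : q ^ N - q ^ i = q ^ i * (q ^ (N - 1 - i + 1) - 1) := by
    rw [Nat.mul_sub, mul_one, ← pow_add]
    congr 2
    omega
  have h2 : q ^ (N - 1 - i + 1) - 1 ≠ 0 := by
    have : 1 < q ^ (N - 1 - i + 1) := Nat.one_lt_pow (by omega) hq1
    omega
  have h3 : padicValNat p (q ^ i) = 0 := by
    apply padicValNat.eq_zero_of_not_dvd
    intro h
    exact hpq (hp.dvd_of_dvd_pow h)
  rw [Nat.factorization_def _ hp, h1, padicValNat.mul (pow_ne_zero _ (by omega)) h2, h3,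
    zero_add]

lemma order_pos (q : ℕ) (hpq : ¬ p ∣ q) : 0 < orderOf (q : ZMod p) := by
  have hp := (Fact.out : p.Prime)
  have hq0 : (q : ZMod p) ≠ 0 := by
    rw [Ne, ZMod.natCast_eq_zero_iff]; exact hpq
  apply orderOf_pos_iff.2
  rw [isOfFinOrder_iff_pow_eq_one]
  exact ⟨p - 1, by have := hp.two_le; omega, ZMod.pow_card_sub_one_eq_one hq0⟩

lemma dvd_pow_sub_one_iff (q : ℕ) (hq1 : 1 < q) (j : ℕ) :
    p ∣ q ^ j - 1 ↔ orderOf (q : ZMod p) ∣ j := by
  have h1 : 1 ≤ q ^ j := Nat.one_le_pow _ _ (by omega)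
  rw [orderOf_dvd_iff_pow_eq_one, ← ZMod.natCast_eq_zero_iff, Nat.cast_sub h1, Nat.cast_pow,
    Nat.cast_one, sub_eq_zero]

lemma sum_val (hp2 : p ≠ 2) (q : ℕ) (hpq : ¬ p ∣ q) (hq1 : 1 < q) (n : ℕ) :
    ∑ k ∈ Finset.range n, padicValNat p (q ^ (k + 1) - 1) =
      padicValNat p (q ^ orderOf (q : ZMod p) - 1) * (n / orderOf (q : ZMod p)) +
        padicValNat p (n / orderOf (q : ZMod p)).factorial := by
  have hp := (Fact.out : p.Prime)
  have hdvd := dvd_pow_sub_one_iff p q hq1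
  have he0 := order_pos p q hpq
  obtain ⟨e, he⟩ : ∃ e, e = orderOf (q : ZMod p) := ⟨_, rfl⟩
  rw [← he] at hdvd he0 ⊢
  have hodd : Odd p := hp.odd_of_ne_two hp2
  have hqe : 1 < q ^ e := Nat.one_lt_pow (by omega) hq1
  have hLTE : ∀ t : ℕ, t ≠ 0 →
      padicValNat p (q ^ (e * t) - 1) = padicValNat p (q ^ e - 1) + padicValNat p t := by
    intro t ht
    have h1 := padicValNat.pow_sub_pow (p := p) (x := q ^ e) (y := 1) hodd hqe
      ((hdvd e).2 dvd_rfl) (fun h => hpq (hp.dvd_of_dvd_pow h)) ht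
    rw [one_pow, ← pow_mul] at h1
    exact h1
  induction n with
  | zero => simp
  | succ n ih =>
    rw [Finset.sum_range_succ, ih, Nat.succ_div]
    by_cases hd : e ∣ n + 1
    · rw [if_pos hd]
      obtain ⟨t, ht⟩ := hd
      have ht0 : t ≠ 0 := by rintro rfl; omega
      have h2 : n / e + 1 = t := by
        have h3 : (n + 1) / e = t := by rw [ht]; exact Nat.mul_div_cancel_left t he0
        rw [Nat.succ_div, if_pos (Dvd.intro t ht.symm)] at h3
        exact h3
      rw [ht, hLTE t ht0, ← h2, Nat.factorial_succ,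
        padicValNat.mul (by omega) (Nat.factorial_ne_zero _)]
      ring
    · rw [if_neg hd, add_zero,
        padicValNat.eq_zero_of_not_dvd (fun h => hd ((hdvd _).1 h)), add_zero]

theorem card_GL_val (hp2 : p ≠ 2) {F : Type*} [Field F] [Fintype F]
    (hpq : ¬ p ∣ Fintype.card F) (n : ℕ) :
    (Nat.card (GL (Fin n) F)).factorization p =
      padicValNat p (Fintype.card F ^ orderOf ((Fintype.card F : ℕ) : ZMod p) - 1) *
        (n / orderOf ((Fintype.card F : ℕ) : ZMod p)) +
        padicValNat p (n / orderOf ((Fintype.card F : ℕ) : ZMod p)).factorial := by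
  have hp := (Fact.out : p.Prime)
  have hq1 : 1 < Fintype.card F := Fintype.one_lt_card
  rw [Matrix.card_GL_field, Nat.factorization_def _ hp, val_GLp p _ hpq hq1 n,
    sum_val p hp2 _ hpq hq1 n]

theorem exists_singer {F : Type*} [Field F] [Fintype F] (e : ℕ) (he : 0 < e) :
    ∃ C : Subgroup (GL (Fin e) F), (∀ x ∈ C, ∀ y ∈ C, x * y = y * x) ∧
      Nat.card C = p ^ padicValNat p (Fintype.card F ^ e - 1) := by
  classical
  have hp := (Fact.out : p.Prime)
  obtain ⟨p', hchar⟩ := CharP.exists F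
  have : Fact p'.Prime := ⟨CharP.char_is_prime F p'⟩
  have : NeZero e := ⟨he.ne'⟩
  have hfr : Module.finrank F (FiniteField.Extension F p' e) = e :=
    FiniteField.finrank_extension F p' e
  let b : Module.Basis (Fin e) F (FiniteField.Extension F p' e) :=
    Module.finBasisOfFinrankEq F _ hfr
  let ψ : FiniteField.Extension F p' e →+* Matrix (Fin e) (Fin e) F :=
    (Algebra.leftMulMatrix b).toRingHom
  have hψ : Function.Injective ψ := Algebra.leftMulMatrix_injective b
  let Ψ : (FiniteField.Extension F p' e)ˣ →* GL (Fin e) F := Units.map ψ.toMonoidHom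
  have hΨ : Function.Injective Ψ := Units.map_injective hψ
  let S : Sylow p (FiniteField.Extension F p' e)ˣ := default
  refine ⟨(S : Subgroup (FiniteField.Extension F p' e)ˣ).map Ψ, ?_, ?_⟩
  · rintro _ ⟨x, -, rfl⟩ _ ⟨y, -, rfl⟩
    rw [← map_mul, ← map_mul, mul_comm]
  · rw [Subgroup.card_map_of_injective hΨ, Sylow.card_eq_multiplicity,
      Nat.factorization_def _ hp, Nat.card_units, FiniteField.natCard_extension,
      Nat.card_eq_fintype_card]

end val

end Cfsg.Agent.Lib.Helper1.GWr
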