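import Mathlib
import Cfsg.Agent.Lib.Helper1.SylSpC

/-!
2-adic valuations of `|GL_N(q)|` for `q ≡ 3 (mod 4)`.
-/

namespace Cfsg.Agent.Lib.Helper1.SylSl

open Cfsg.Agent.Lib.Helper1.SylSym Cfsg.Agent.Lib.Helper1.SylSp

section val
open Nat

lemma val_two_of_mod_four (x : ℕ) (h : x % 4 = 2) : padicValNat 2 x = 1 := by
  have h1 : x = 2 * (x / 2) := by omega
  have h2 : ¬ 2 ∣ x / 2 := by omega
  rw [h1, padicValNat.mul (by norm_num) (by omega), padicValNat_self,
    padicValNat.eq_zero_of_not_dvd h2]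

lemma pow_odd_mod_four (q : ℕ) (hq : q % 4 = 3) (j : ℕ) : q ^ (2 * j + 1) % 4 = 3 := by
  induction j with
  | zero => simpa using hq
  | succ j ih =>
    have h1 : q ^ (2 * (j + 1) + 1) = q ^ (2 * j + 1) * (q * q) := by ring
    rw [h1, Nat.mul_mod, ih, Nat.mul_mod q q, hq]

lemma val_odd (q : ℕ) (hq : q % 4 = 3) (j : ℕ) : padicValNat 2 (q ^ (2 * j + 1) - 1) = 1 := by
  apply val_two_of_mod_four
  have := pow_odd_mod_four q hq j
  omega

/-- `g k = v_2(q^k - 1)` summed over `k = 1 .. 2m+1` -/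
lemma sum_val (q : ℕ) (hq : q % 4 = 3) (m : ℕ) :
    ∑ k ∈ Finset.range (2 * m + 1), padicValNat 2 (q ^ (k + 1) - 1) =
      1 + m * (padicValNat 2 (q ^ 2 - 1) + 1) + padicValNat 2 m ! := by
  have hodd : Odd q := Nat.odd_iff.2 (by omega)
  have hq1 : 1 < q := by omega
  induction m with
  | zero =>
    simp
    have := val_odd q hq 0
    simpa using this
  | succ m ih =>
    have h1 : 2 * (m + 1) + 1 = (2 * m + 1) + 1 + 1 := by ring
    rw [h1, Finset.sum_range_succ, Finset.sum_range_succ, ih]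
    have h2 : padicValNat 2 (q ^ (2 * m + 1 + 1) - 1) =
        padicValNat 2 (q ^ 2 - 1) + padicValNat 2 (m + 1) := by
      have := lte_two q hodd hq1 (m + 1) (by omega)
      rw [show 2 * (m + 1) = 2 * m + 1 + 1 by ring] at this
      exact this
    have h3 : padicValNat 2 (q ^ (2 * m + 1 + 1 + 1) - 1) = 1 := by
      have := val_odd q hq (m + 1)
      rw [show 2 * (m + 1) + 1 = 2 * m + 1 + 1 + 1 by ring] at this
      exact this
    rw [h2, h3, Nat.factorial_succ, padicValNat.mul (by omega) (Nat.factorial_ne_zero m)]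
    ring

lemma val_GL (q : ℕ) (hq : Odd q) (hq1 : 1 < q) (N : ℕ) :
    padicValNat 2 (∏ i : Fin N, (q ^ N - q ^ (i : ℕ))) =
      ∑ k ∈ Finset.range N, padicValNat 2 (q ^ (k + 1) - 1) := by
  rw [Fin.prod_univ_eq_prod_range (fun i => q ^ N - q ^ i) N]
  have hne : ∀ i ∈ Finset.range N, q ^ N - q ^ i ≠ 0 := by
    intro i hi
    have := Nat.pow_lt_pow_right hq1 (Finset.mem_range.1 hi)
    omega
  rw [← Nat.factorization_def _ Nat.prime_two, Nat.factorization_prod hne, Finsupp.finset_sum_apply,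
    ← Finset.sum_range_reflect (fun k => padicValNat 2 (q ^ (k + 1) - 1)) N]
  apply Finset.sum_congr rfl
  intro i hi
  have hi' := Finset.mem_range.1 hi
  have h1 : q ^ N - q ^ i = q ^ i * (q ^ (N - 1 - i + 1) - 1) := by
    rw [Nat.mul_sub, mul_one, ← pow_add]
    congr 2
    omega
  have h2 : q ^ (N - 1 - i + 1) - 1 ≠ 0 := by
    have : 1 < q ^ (N - 1 - i + 1) := Nat.one_lt_pow (by omega) hq1
    omega
  have h3 : padicValNat 2 (q ^ i) = 0 := by
    apply padicValNat.eq_zero_of_not_dvd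
    intro h
    have := Nat.prime_two.dvd_of_dvd_pow h
    rw [Nat.odd_iff] at hq
    omega
  rw [Nat.factorization_def _ Nat.prime_two, h1, padicValNat.mul (pow_ne_zero _ (by omega)) h2, h3,
    zero_add]

end val

end Cfsg.Agent.Lib.Helper1.SylSl
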