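import Mathlib
import Cfsg.Agent.Lib.Helper1.SylSlA
import Cfsg.Agent.Lib.Helper5.SympCount

/-!
Sylow 2-subgroups of `GL_2(F)`, `|F| ≡ 3 (mod 4)`: order and `Good`.
-/

namespace Cfsg.Agent.Lib.Helper1.SylSl

open Cfsg.Agent.Lib.Helper1.SylSym Cfsg.Agent.Lib.Helper1.SylSp Matrix

section gl2
variable {F : Type*} [Field F]

/-- the `2 × 2` determinant -/
def det2 (M : Matrix (Fin 1 ⊕ Fin 1) (Fin 1 ⊕ Fin 1) F) : F :=
  M (Sum.inl 0) (Sum.inl 0) * M (Sum.inr 0) (Sum.inr 0) -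
    M (Sum.inr 0) (Sum.inl 0) * M (Sum.inl 0) (Sum.inr 0)

lemma det2_mk2 (a b c d : F) : det2 (mk2 a b c d) = a * d - c * b := by
  simp [det2, mk2]

lemma mem_sp2_iff_det2 (M : Matrix (Fin 1 ⊕ Fin 1) (Fin 1 ⊕ Fin 1) F) :
    M ∈ Matrix.symplecticGroup (Fin 1) F ↔ det2 M = 1 := by
  conv_lhs => rw [eq_mk2 M]
  rw [mk2_mem_iff]
  rfl

lemma det2_one : det2 (1 : Matrix (Fin 1 ⊕ Fin 1) (Fin 1 ⊕ Fin 1) F) = 1 := by
  rw [one_eq_mk2, det2_mk2]; ring

lemma det2_mul (M N : Matrix (Fin 1 ⊕ Fin 1) (Fin 1 ⊕ Fin 1) F) :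
    det2 (M * N) = det2 M * det2 N := by
  rw [eq_mk2 M, eq_mk2 N, mk2_mul, det2_mk2, det2_mk2, det2_mk2]; ring

/-- `det2` as a monoid hom -/
def det2Hom : Matrix (Fin 1 ⊕ Fin 1) (Fin 1 ⊕ Fin 1) F →* F where
  toFun := det2
  map_one' := det2_one
  map_mul' := det2_mul

/-- the determinant on `GL_2` -/
def delta : GL (Fin 1 ⊕ Fin 1) F →* Fˣ :=
  MonoidHom.toHomUnits (det2Hom.comp (Units.coeHom _))

lemma delta_coe (g : GL (Fin 1 ⊕ Fin 1) F) :
    ((delta g : Fˣ) : F) = det2 (g : Matrix (Fin 1 ⊕ Fin 1) (Fin 1 ⊕ Fin 1) F) := rfl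

/-- `Sp_2 → GL_2` -/
def kappa : Matrix.symplecticGroup (Fin 1) F →* GL (Fin 1 ⊕ Fin 1) F :=
  MonoidHom.toHomUnits (Matrix.symplecticGroup (Fin 1) F).subtype

lemma kappa_coe (g : Matrix.symplecticGroup (Fin 1) F) :
    ((kappa g : GL (Fin 1 ⊕ Fin 1) F) : Matrix (Fin 1 ⊕ Fin 1) (Fin 1 ⊕ Fin 1) F) =
      (g : Matrix (Fin 1 ⊕ Fin 1) (Fin 1 ⊕ Fin 1) F) := rfl

lemma kappa_injective : Function.Injective (kappa (F := F)) := by
  intro a b h
  apply Subtype.ext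
  have := congrArg Units.val h
  exact this

lemma kappa_range : (kappa (F := F)).range = (delta (F := F)).ker := by
  ext g
  constructor
  · rintro ⟨s, rfl⟩
    rw [MonoidHom.mem_ker]
    apply Units.ext
    rw [delta_coe, kappa_coe]
    exact (mem_sp2_iff_det2 _).1 s.2
  · intro hg
    rw [MonoidHom.mem_ker] at hg
    have h1 : det2 (g : Matrix (Fin 1 ⊕ Fin 1) (Fin 1 ⊕ Fin 1) F) = 1 := congrArg Units.val hg
    exact ⟨⟨g, (mem_sp2_iff_det2 _).2 h1⟩, Units.ext rfl⟩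

lemma card_two_sub_units [Fintype F] (hq : Fintype.card F % 4 = 3) (U : Subgroup Fˣ)
    (hU : IsPGroup 2 U) : Nat.card U ≤ 2 := by
  obtain ⟨k, hk⟩ := hU.exists_card_eq
  have h1 : Nat.card U ∣ Nat.card Fˣ := Subgroup.card_subgroup_dvd_card U
  rw [hk] at h1 ⊢
  rw [Nat.card_units, Nat.card_eq_fintype_card] at h1
  rcases k with _ | _ | k
  · norm_num
  · norm_num
  · exfalso
    have : 4 ∣ Fintype.card F - 1 := dvd_trans ⟨2 ^ k, by ring⟩ h1
    omega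

lemma card_gl2 [Fintype F] : Nat.card (GL (Fin 1 ⊕ Fin 1) F) =
    ∏ i : Fin 2, (Fintype.card F ^ 2 - Fintype.card F ^ (i : ℕ)) := by
  rw [← Matrix.card_GL_field (𝔽 := F) 2]
  exact Nat.card_congr
    (Units.mapEquiv (Matrix.reindexAlgEquiv F F (finSumFinEquiv (m := 1) (n := 1))).toMulEquiv).toEquiv

lemma card_sylow_gl2 [Fintype F] (hq : Fintype.card F % 4 = 3)
    (S : Sylow 2 (GL (Fin 1 ⊕ Fin 1) F)) :
    Nat.card S = 2 ^ (padicValNat 2 (Fintype.card F ^ 2 - 1) + 1) := by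
  have hodd : Odd (Fintype.card F) := Nat.odd_iff.2 (by omega)
  rw [Sylow.card_eq_multiplicity, card_gl2, Nat.factorization_def _ Nat.prime_two,
    val_GL _ hodd (by omega) 2, Finset.sum_range_succ, Finset.sum_range_one]
  have h1 := val_odd (Fintype.card F) hq 0
  simp only [mul_zero, zero_add] at h1 ⊢
  rw [h1, add_comm]

lemma card_sylow_sp2 [Fintype F] (hodd : Odd (Fintype.card F))
    (P : Sylow 2 (Matrix.symplecticGroup (Fin 1) F)) :
    Nat.card P = 2 ^ padicValNat 2 (Fintype.card F ^ 2 - 1) := by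
  rw [Sylow.card_eq_multiplicity, Cfsg.Agent.Lib.Helper5.SympCount.card_sp F 1 (Fintype.card F)
    (by rw [Nat.card_eq_fintype_card]), Nat.factorization_def _ Nat.prime_two,
    val_sp _ hodd Fintype.one_lt_card 1]
  simp

theorem gl2_exists_good_sylow [Fintype F] (hq : Fintype.card F % 4 = 3) :
    ∃ S : Sylow 2 (GL (Fin 1 ⊕ Fin 1) F), Good 2 (S : Subgroup (GL (Fin 1 ⊕ Fin 1) F)) := by
  classical
  have hodd : Odd (Fintype.card F) := Nat.odd_iff.2 (by omega)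
  have h2 : (2 : F) ≠ 0 := by
    apply Ring.two_ne_zero
    intro h
    rw [FiniteField.even_card_iff_char_two] at h
    omega
  obtain ⟨t, htc⟩ : ∃ t : GL (Fin 1 ⊕ Fin 1) F,
      (t : Matrix (Fin 1 ⊕ Fin 1) (Fin 1 ⊕ Fin 1) F) = mk2 1 0 0 (-1) := by
    refine ⟨⟨mk2 1 0 0 (-1), mk2 1 0 0 (-1), ?_, ?_⟩, rfl⟩ <;>
    · rw [mk2_mul, one_eq_mk2]
      exact mk2_congr (by ring) (by ring) (by ring) (by ring)
  have ht2 : t * t = 1 := by
    apply Units.ext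
    rw [Units.val_mul, htc, mk2_mul, Units.val_one, one_eq_mk2]
    exact mk2_congr (by ring) (by ring) (by ring) (by ring)
  have htd : delta t ≠ 1 := by
    intro h
    have h3 : det2 (t : Matrix (Fin 1 ⊕ Fin 1) (Fin 1 ⊕ Fin 1) F) = 1 := congrArg Units.val h
    rw [htc, det2_mk2] at h3
    apply h2
    linear_combination -h3
  have hpow : ∀ k : ℤ, (t ^ k) ^ 2 = 1 := by
    intro k
    rw [← zpow_natCast, ← _root_.zpow_mul, mul_comm, _root_.zpow_mul, zpow_natCast, pow_two, ht2,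
      _root_.one_zpow]
  have hzt : IsPGroup 2 (Subgroup.zpowers t) := by
    rintro ⟨x, hx⟩
    obtain ⟨k, rfl⟩ := Subgroup.mem_zpowers_iff.1 hx
    refine ⟨1, Subtype.ext ?_⟩
    show (t ^ k) ^ 2 ^ 1 = 1
    rw [pow_one, hpow]
  obtain ⟨S, hS⟩ := hzt.exists_le_sylow
  refine ⟨S, ?_⟩
  obtain ⟨Q₁, hQ₁⟩ : ∃ Q₁ : Subgroup (GL (Fin 1 ⊕ Fin 1) F),
      Q₁ = (delta (F := F)).ker ⊓ (S : Subgroup (GL (Fin 1 ⊕ Fin 1) F)) := ⟨_, rfl⟩
  have hidx : Nat.card S ≤ 2 * Nat.card Q₁ := by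
    let f : (S : Subgroup (GL (Fin 1 ⊕ Fin 1) F)) →* Fˣ :=
      (delta (F := F)).comp (S : Subgroup (GL (Fin 1 ⊕ Fin 1) F)).subtype
    have h1 := Subgroup.card_mul_index f.ker
    rw [Subgroup.index_ker] at h1
    have h3 : Nat.card f.range ≤ 2 := card_two_sub_units hq f.range
      (IsPGroup.of_surjective S.isPGroup' f.rangeRestrict f.rangeRestrict_surjective)
    have h4 : Nat.card f.ker = Nat.card Q₁ := by
      rw [hQ₁, ← Subgroup.subgroupOf_map_subtype,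
        Subgroup.card_map_of_injective (Subgroup.subtype_injective _)]
      rfl
    rw [h4] at h1
    calc Nat.card S = Nat.card Q₁ * Nat.card f.range := h1.symm
      _ ≤ Nat.card Q₁ * 2 := Nat.mul_le_mul_left _ h3
      _ = 2 * Nat.card Q₁ := mul_comm _ _
  have hcS := card_sylow_gl2 hq S
  have hQ₁le : Q₁ ≤ (kappa (F := F)).range := by
    rw [kappa_range, hQ₁]; exact inf_le_left
  have hQ₁S : Q₁ ≤ (S : Subgroup (GL (Fin 1 ⊕ Fin 1) F)) := by
    rw [hQ₁]; exact inf_le_right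
  have hmap : (Q₁.comap (kappa (F := F))).map kappa = Q₁ := Subgroup.map_comap_eq_self hQ₁le
  have hQ'p : IsPGroup 2 (Q₁.comap (kappa (F := F))) :=
    (S.isPGroup'.to_le hQ₁S).comap_of_injective kappa kappa_injective
  have hcQ' : Nat.card (Q₁.comap (kappa (F := F))) = Nat.card Q₁ := by
    conv_rhs => rw [← hmap]
    rw [Subgroup.card_map_of_injective kappa_injective]
  obtain ⟨P', hP'⟩ := hQ'p.exists_le_sylow
  have hcP' := card_sylow_sp2 hodd P'
  have hQP : Q₁.comap (kappa (F := F)) = P' := Subgroup.eq_of_le_of_card_ge hP' (by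
    rw [hcP', hcQ']
    rw [hcS, pow_succ] at hidx
    omega)
  have hQ'g : Good 2 (Q₁.comap (kappa (F := F))) := by
    rw [hQP]; exact sp2_sylow_good hodd P'
  have hQ₁g : Good 2 Q₁ := by
    rw [← hmap]; exact good_map _ hQ'g
  have htg : Good 2 (Subgroup.zpowers t) := by
    intro x hx
    obtain ⟨k, rfl⟩ := Subgroup.mem_zpowers_iff.1 hx
    rw [hpow]
    exact Subgroup.one_mem _
  have hsup : Q₁ ⊔ Subgroup.zpowers t = S := by
    apply Subgroup.eq_of_le_of_card_ge (sup_le hQ₁S hS)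
    have hlt : Nat.card Q₁ < Nat.card ↥(Q₁ ⊔ Subgroup.zpowers t) := by
      by_contra hle
      push Not at hle
      have heq : Q₁ = Q₁ ⊔ Subgroup.zpowers t := Subgroup.eq_of_le_of_card_ge le_sup_left hle
      have htQ : t ∈ Q₁ := by
        rw [heq]; exact Subgroup.mem_sup_right (Subgroup.mem_zpowers t)
      rw [hQ₁] at htQ
      exact htd (MonoidHom.mem_ker.1 htQ.1)
    obtain ⟨c, hc⟩ : Nat.card Q₁ ∣ Nat.card ↥(Q₁ ⊔ Subgroup.zpowers t) :=
      Subgroup.card_dvd_of_le le_sup_left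
    have hc2 : 2 ≤ c := by
      by_contra h
      push Not at h
      interval_cases c
      · rw [hc] at hlt; omega
      · rw [hc] at hlt; omega
    calc Nat.card S ≤ 2 * Nat.card Q₁ := hidx
      _ ≤ c * Nat.card Q₁ := Nat.mul_le_mul_right _ hc2
      _ = Nat.card ↥(Q₁ ⊔ Subgroup.zpowers t) := by rw [hc, mul_comm]
  rw [← hsup]
  exact good_sup hQ₁g htg

end gl2

end Cfsg.Agent.Lib.Helper1.SylSl
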