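import Mathlib
import Cfsg.Agent.Lib.Helper1.SylSlB
import Cfsg.Agent.S0242

/-!
Sylow 2-subgroups of `SL_{2m+1}(F)`, `|F| ≡ 3 (mod 4)`: explicit model
`(S₁^m ⋊ T)` inside `GL_{2m}(F)`, embedded by `r ↦ diag(r, det r⁻¹)`.
-/

namespace Cfsg.Agent.Lib.Helper1.SylSl

open Cfsg.Agent.Lib.Helper1.SylSym Cfsg.Agent.Lib.Helper1.SylSp

section emb
variable {F : Type*} [Field F] (n : ℕ)

/-- the base group hom at `GL` level -/
def betaG : (Fin n → GL (Fin 1 ⊕ Fin 1) F) →* GL (Fin n ⊕ Fin n) F :=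
  MonoidHom.toHomUnits
    { toFun := fun f => bm n (fun i => (f i : Matrix (Fin 1 ⊕ Fin 1) (Fin 1 ⊕ Fin 1) F))
      map_one' := bm_one n
      map_mul' := fun f g => bm_mul n _ _ }

lemma betaG_coe (f : Fin n → GL (Fin 1 ⊕ Fin 1) F) :
    ((betaG n f : GL (Fin n ⊕ Fin n) F) : Matrix (Fin n ⊕ Fin n) (Fin n ⊕ Fin n) F) =
      bm n (fun i => (f i : Matrix (Fin 1 ⊕ Fin 1) (Fin 1 ⊕ Fin 1) F)) := rfl

/-- the top group hom at `GL` level -/
def tauG : Equiv.Perm (Fin n) →* GL (Fin n ⊕ Fin n) F :=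
  MonoidHom.toHomUnits
    { toFun := fun σ => pm n σ
      map_one' := pm_one n
      map_mul' := fun σ τ => pm_mul n σ τ }

lemma tauG_coe (σ : Equiv.Perm (Fin n)) :
    ((tauG n σ : GL (Fin n ⊕ Fin n) F) : Matrix (Fin n ⊕ Fin n) (Fin n ⊕ Fin n) F) =
      pm n σ := rfl

lemma tauG_betaG (σ : Equiv.Perm (Fin n)) (f : Fin n → GL (Fin 1 ⊕ Fin 1) F) :
    (tauG n σ : GL (Fin n ⊕ Fin n) F) * betaG n f =
      betaG n (fun i => f (σ.symm i)) * tauG n σ := by
  apply Units.ext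
  rw [Units.val_mul, Units.val_mul, tauG_coe, betaG_coe, betaG_coe]
  exact pm_mul_bm n σ _

lemma betaG_injective : Function.Injective (betaG (F := F) n) := by
  intro f g h
  have h1 : bm n (fun i => (f i : Matrix (Fin 1 ⊕ Fin 1) (Fin 1 ⊕ Fin 1) F)) =
      bm n (fun i => (g i : Matrix (Fin 1 ⊕ Fin 1) (Fin 1 ⊕ Fin 1) F)) := congrArg Units.val h
  unfold bm at h1
  rw [Matrix.fromBlocks_inj] at h1
  obtain ⟨h11, h12, h21, h22⟩ := h1
  funext i
  apply Units.ext
  rw [eq_mk2 (f i : Matrix (Fin 1 ⊕ Fin 1) (Fin 1 ⊕ Fin 1) F),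
    eq_mk2 (g i : Matrix (Fin 1 ⊕ Fin 1) (Fin 1 ⊕ Fin 1) F)]
  exact mk2_congr (congrFun (Matrix.diagonal_injective h11) i)
    (congrFun (Matrix.diagonal_injective h12) i) (congrFun (Matrix.diagonal_injective h21) i)
    (congrFun (Matrix.diagonal_injective h22) i)

lemma tauG_injective : Function.Injective (tauG (F := F) n) := by
  intro σ σ' h
  have h1 : (pm n σ : Matrix (Fin n ⊕ Fin n) (Fin n ⊕ Fin n) F) = pm n σ' :=
    congrArg Units.val h
  unfold pm at h1
  rw [Matrix.fromBlocks_inj] at h1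
  exact pmat_injective n h1.1

lemma rangeG_inf : (betaG (F := F) n).range ⊓ (tauG (F := F) n).range = ⊥ := by
  rw [eq_bot_iff]
  rintro x ⟨⟨f, rfl⟩, ⟨σ, hσ⟩⟩
  have h1 : (pm n σ : Matrix (Fin n ⊕ Fin n) (Fin n ⊕ Fin n) F) =
      bm n (fun i => (f i : Matrix (Fin 1 ⊕ Fin 1) (Fin 1 ⊕ Fin 1) F)) := congrArg Units.val hσ
  unfold pm bm at h1
  rw [Matrix.fromBlocks_inj] at h1
  have h2 : σ = 1 := by
    ext j
    have h3 := congrFun (congrFun h1.1 (σ j)) j
    simp only [pmat, Matrix.of_apply, if_true] at h3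
    by_contra hne
    rw [Matrix.diagonal_apply_ne _ (fun h4 => hne (by rw [h4]; rfl))] at h3
    exact one_ne_zero h3
  rw [Subgroup.mem_bot, ← hσ, h2, map_one]

end emb

section sl
variable {F : Type*} [Field F]

/-- `GL_J → SL_{J ⊕ 1}`, `r ↦ diag(r, det r⁻¹)` -/
def phiOne (J : Type*) [Fintype J] [DecidableEq J] :
    GL J F →* Matrix.SpecialLinearGroup (J ⊕ Fin 1) F where
  toFun r := ⟨Matrix.fromBlocks (r : Matrix J J F) 0 0
      (Matrix.diagonal fun _ : Fin 1 => (((Matrix.GeneralLinearGroup.det r)⁻¹ : Fˣ) : F)), by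
    rw [Matrix.det_fromBlocks_zero₂₁, Matrix.det_diagonal, Finset.prod_const, Finset.card_univ,
      Fintype.card_fin, pow_one]
    exact Units.mul_inv (Matrix.GeneralLinearGroup.det r)⟩
  map_one' := by
    apply Subtype.ext
    simp
  map_mul' r s := by
    apply Subtype.ext
    show Matrix.fromBlocks _ _ _ _ = Matrix.fromBlocks _ _ _ _ * Matrix.fromBlocks _ _ _ _
    rw [Matrix.fromBlocks_multiply]
    simp [mul_comm]

lemma phiOne_coe (J : Type*) [Fintype J] [DecidableEq J] (r : GL J F) :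
    ((phiOne J r : Matrix.SpecialLinearGroup (J ⊕ Fin 1) F) :
      Matrix (J ⊕ Fin 1) (J ⊕ Fin 1) F) = Matrix.fromBlocks (r : Matrix J J F) 0 0
      (Matrix.diagonal fun _ : Fin 1 => (((Matrix.GeneralLinearGroup.det r)⁻¹ : Fˣ) : F)) := rfl

lemma phiOne_injective (J : Type*) [Fintype J] [DecidableEq J] :
    Function.Injective (phiOne (F := F) J) := by
  intro r s h
  have h1 := congrArg Subtype.val h
  rw [phiOne_coe, phiOne_coe, Matrix.fromBlocks_inj] at h1
  exact Units.ext h1.1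

/-- reindexing `SL` -/
def slReindex {a b : Type*} [Fintype a] [DecidableEq a] [Fintype b] [DecidableEq b] (e : a ≃ b) :
    Matrix.SpecialLinearGroup a F →* Matrix.SpecialLinearGroup b F where
  toFun g := ⟨Matrix.reindexAlgEquiv F F e g.1, by
    rw [Matrix.det_reindexAlgEquiv]; exact g.2⟩
  map_one' := Subtype.ext (map_one _)
  map_mul' g h := Subtype.ext (map_mul _ _ _)

lemma slReindex_injective {a b : Type*} [Fintype a] [DecidableEq a] [Fintype b] [DecidableEq b]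
    (e : a ≃ b) : Function.Injective (slReindex (F := F) e) := by
  intro g h hgh
  apply Subtype.ext
  exact (Matrix.reindexAlgEquiv F F e).injective (congrArg Subtype.val hgh)

end sl

section main
open Pointwise

variable {F : Type*} [Field F] [Fintype F]

lemma val_sl (hq : Fintype.card F % 4 = 3) (m : ℕ) :
    padicValNat 2 (Nat.card (Matrix.SpecialLinearGroup (Fin (2 * m + 1)) F)) =
      m * (padicValNat 2 (Fintype.card F ^ 2 - 1) + 1) + padicValNat 2 m.factorial := by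
  have hodd : Odd (Fintype.card F) := Nat.odd_iff.2 (by omega)
  have h1 := Cfsg.Agent.S0242.result (F := F) rfl (2 * m + 1) (by omega)
  have h2 := congrArg (padicValNat 2) h1
  rw [val_GL _ hodd (by omega), sum_val _ hq,
    padicValNat.mul (by omega) Nat.card_pos.ne',
    val_two_of_mod_four (Fintype.card F - 1) (by omega)] at h2
  omega

theorem sl_sylow_good (hq : Fintype.card F % 4 = 3) (m : ℕ)
    (P : Sylow 2 (Matrix.SpecialLinearGroup (Fin (2 * m + 1)) F)) :
    Good 2 (P : Subgroup (Matrix.SpecialLinearGroup (Fin (2 * m + 1)) F)) := by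
  classical
  obtain ⟨S₁, hS₁⟩ := gl2_exists_good_sylow (F := F) hq
  let T₀ : Sylow 2 (Equiv.Perm (Fin m)) := default
  have hTg := (Cfsg.Agent.Lib.Helper1.SylSym.main 2 m (Fin m) (Fintype.card_fin m) T₀).1
  obtain ⟨B, hB⟩ : ∃ B : Subgroup (GL (Fin m ⊕ Fin m) F), B = (Subgroup.pi Set.univ
      (fun _ : Fin m => (S₁ : Subgroup (GL (Fin 1 ⊕ Fin 1) F)))).map (betaG m) :=
    ⟨_, rfl⟩
  obtain ⟨T, hT⟩ : ∃ T : Subgroup (GL (Fin m ⊕ Fin m) F),
      T = (T₀ : Subgroup (Equiv.Perm (Fin m))).map (tauG (F := F) m) := ⟨_, rfl⟩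
  have hnorm : ∀ t ∈ T, ∀ b ∈ B, t * b * t⁻¹ ∈ B := by
    rw [hB, hT]
    rintro _ ⟨σ, hσ, rfl⟩ _ ⟨f, hf, rfl⟩
    refine ⟨fun i => f (σ.symm i), fun i _ => hf (σ.symm i) (Set.mem_univ _), ?_⟩
    rw [tauG_betaG, mul_inv_cancel_right]
  have hBT : B ⊓ T = ⊥ := by
    rw [eq_bot_iff, ← rangeG_inf (F := F) m, hB, hT]
    exact inf_le_inf (Subgroup.map_le_range _ _) (Subgroup.map_le_range _ _)
  have hWg : Good 2 (prodSub B T hnorm) := by
    rw [prodSub_eq_sup, hB, hT]
    exact good_sup (good_map _ (good_pi _ hS₁)) (good_map _ hTg)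
  have hcardS := card_sylow_gl2 hq S₁
  have hcardT : Nat.card T₀ = 2 ^ padicValNat 2 m.factorial := by
    rw [Sylow.card_eq_multiplicity, Nat.card_perm, Nat.card_eq_fintype_card, Fintype.card_fin,
      Nat.factorization_def _ Nat.prime_two]
  have hcardW : Nat.card (prodSub B T hnorm) =
      2 ^ (m * (padicValNat 2 (Fintype.card F ^ 2 - 1) + 1) + padicValNat 2 m.factorial) := by
    rw [prodSub_card B T hnorm hBT, hB, hT, Subgroup.card_map_of_injective (betaG_injective m),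
      Subgroup.card_map_of_injective (tauG_injective m), hcardT, card_pi_const, hcardS,
      Nat.card_eq_fintype_card, Fintype.card_fin, ← pow_mul, ← pow_add, mul_comm]
  have hcard : Fintype.card ((Fin m ⊕ Fin m) ⊕ Fin 1) = Fintype.card (Fin (2 * m + 1)) := by
    simp; ring
  obtain ⟨Φ, hΦ⟩ : ∃ Φ : GL (Fin m ⊕ Fin m) F →* Matrix.SpecialLinearGroup (Fin (2 * m + 1)) F,
      Function.Injective Φ :=
    ⟨(slReindex (Fintype.equivOfCardEq hcard)).comp (phiOne (Fin m ⊕ Fin m)),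
      (slReindex_injective _).comp (phiOne_injective _)⟩
  have hW'g : Good 2 ((prodSub B T hnorm).map Φ) := good_map _ hWg
  have hcardW' : Nat.card ((prodSub B T hnorm).map Φ) =
      2 ^ (m * (padicValNat 2 (Fintype.card F ^ 2 - 1) + 1) + padicValNat 2 m.factorial) := by
    rw [Subgroup.card_map_of_injective hΦ, hcardW]
  obtain ⟨P', hP'⟩ := (IsPGroup.of_card hcardW').exists_le_sylow
  have hcardP' : Nat.card P' =
      2 ^ (m * (padicValNat 2 (Fintype.card F ^ 2 - 1) + 1) + padicValNat 2 m.factorial) := by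
    rw [Sylow.card_eq_multiplicity, Nat.factorization_def _ Nat.prime_two, val_sl hq m]
  have hWP : (prodSub B T hnorm).map Φ = P' :=
    Subgroup.eq_of_le_of_card_ge hP' (by rw [hcardP', hcardW'])
  obtain ⟨g, hg⟩ := MulAction.exists_smul_eq (Matrix.SpecialLinearGroup (Fin (2 * m + 1)) F) P' P
  rw [← hg, Sylow.coe_subgroup_smul, ← hWP, Subgroup.pointwise_smul_def]
  exact good_map _ hW'g

end main

end Cfsg.Agent.Lib.Helper1.SylSl
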