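import Mathlib
import Cfsg.Agent.Lib.Helper1.SylSlC

/-!
Sylow 2-subgroups of `SL_{2m}(F)`: reduction to a Sylow 2-subgroup `S` of `GL` with
`S ⊓ ker det` good; the case `|F| ≡ 3 (mod 4)`.
-/

namespace Cfsg.Agent.Lib.Helper1.SylSl

open Cfsg.Agent.Lib.Helper1.SylSym Cfsg.Agent.Lib.Helper1.SylSp

section general
variable {G H : Type*} [Group G] [Group H]

/-- a Sylow subgroup meets a kernel in a subgroup of Sylow order at least -/
lemma card_sylow_inf_ker [Finite G] {p : ℕ} [Fact p.Prime] (φ : G →* H) (P : Sylow p G) :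
    p ^ (Nat.card φ.ker).factorization p ≤ Nat.card ↥(φ.ker ⊓ (P : Subgroup G)) := by
  have hp := Fact.out (p := p.Prime)
  let f : (P : Subgroup G) →* H := φ.comp (P : Subgroup G).subtype
  have h1 := Subgroup.card_mul_index f.ker
  rw [Subgroup.index_ker] at h1
  have h4 : Nat.card f.ker = Nat.card ↥(φ.ker ⊓ (P : Subgroup G)) := by
    rw [← Subgroup.subgroupOf_map_subtype,
      Subgroup.card_map_of_injective (Subgroup.subtype_injective _)]
    rfl
  have h5 : IsPGroup p f.range :=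
    IsPGroup.of_surjective P.isPGroup' f.rangeRestrict f.rangeRestrict_surjective
  haveI : Finite f.range := Finite.of_surjective f.rangeRestrict f.rangeRestrict_surjective
  obtain ⟨j, hj⟩ := h5.exists_card_eq
  have h6 : f.range ≤ φ.range := by
    rintro _ ⟨x, rfl⟩; exact ⟨x, rfl⟩
  have h7 : p ^ j ∣ Nat.card φ.range := hj ▸ Subgroup.card_dvd_of_le h6
  have h8 := Subgroup.card_mul_index φ.ker
  rw [Subgroup.index_ker] at h8
  have hrpos : Nat.card φ.range ≠ 0 := by
    intro h0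
    rw [h0, mul_zero] at h8
    exact Nat.card_pos.ne' h8.symm
  have h9 : j ≤ (Nat.card φ.range).factorization p :=
    (hp.pow_dvd_iff_le_factorization hrpos).1 h7
  have h10 : (Nat.card G).factorization p =
      (Nat.card φ.ker).factorization p + (Nat.card φ.range).factorization p := by
    rw [← h8, Nat.factorization_mul Nat.card_pos.ne' hrpos]
    rfl
  have h11 := P.card_eq_multiplicity
  rw [← h1, h4, hj, h10] at h11
  have h12 : Nat.card ↥(φ.ker ⊓ (P : Subgroup G)) =
      p ^ ((Nat.card φ.ker).factorization p + ((Nat.card φ.range).factorization p - j)) := by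
    apply Nat.eq_of_mul_eq_mul_right (pow_pos hp.pos j)
    rw [h11, ← pow_add]
    congr 1
    omega
  rw [h12]
  exact Nat.pow_le_pow_right hp.pos (by omega)

end general

section sl
variable {F : Type*} [Field F] [Fintype F]

lemma card_GL_of_card (I : Type*) [Fintype I] [DecidableEq I] (N : ℕ) (h : Fintype.card I = N) :
    Nat.card (GL I F) = ∏ i : Fin N, (Fintype.card F ^ N - Fintype.card F ^ (i : ℕ)) := by
  rw [← Matrix.card_GL_field (𝔽 := F) N]
  exact Nat.card_congr
    (Units.mapEquiv (Matrix.reindexAlgEquiv F F (Fintype.equivFinOfCardEq h)).toMulEquiv).toEquiv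

theorem sl_good_of_gl {I J : Type*} [Fintype I] [DecidableEq I] [Fintype J] [DecidableEq J]
    (e : I ≃ J) (S : Sylow 2 (GL I F))
    (hS : Good 2 ((S : Subgroup (GL I F)) ⊓
      (Matrix.GeneralLinearGroup.det (n := I) (R := F)).ker))
    (P : Sylow 2 (Matrix.SpecialLinearGroup J F)) :
    Good 2 (P : Subgroup (Matrix.SpecialLinearGroup J F)) := by
  classical
  obtain ⟨ι, hιdef⟩ : ∃ ι : Matrix.SpecialLinearGroup J F →* GL I F,
      ι = Matrix.SpecialLinearGroup.toGL.comp (slReindex e.symm) := ⟨_, rfl⟩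
  have hι : Function.Injective ι := by
    rw [hιdef]
    exact Matrix.SpecialLinearGroup.toGL_injective.comp (slReindex_injective _)
  have hker : ∀ A, ι A ∈ (Matrix.GeneralLinearGroup.det (n := I) (R := F)).ker := by
    intro A
    rw [MonoidHom.mem_ker, hιdef]
    apply Units.ext
    rw [Matrix.GeneralLinearGroup.val_det_apply]
    exact (slReindex e.symm A).2
  have hsurj : ∀ g ∈ (Matrix.GeneralLinearGroup.det (n := I) (R := F)).ker, ∃ A, ι A = g := by
    intro g hg
    rw [MonoidHom.mem_ker] at hg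
    have hg' : (g : Matrix I I F).det = 1 := by
      have := congrArg Units.val hg
      rwa [Matrix.GeneralLinearGroup.val_det_apply] at this
    refine ⟨slReindex e ⟨g, hg'⟩, ?_⟩
    rw [hιdef]
    apply Units.ext
    show Matrix.reindexAlgEquiv F F e.symm (Matrix.reindexAlgEquiv F F e (g : Matrix I I F)) = g
    rw [← Matrix.symm_reindexAlgEquiv]
    exact AlgEquiv.symm_apply_apply _ _
  obtain ⟨K, hK⟩ : ∃ K : Subgroup (GL I F), K = (S : Subgroup (GL I F)) ⊓
      (Matrix.GeneralLinearGroup.det (n := I) (R := F)).ker := ⟨_, rfl⟩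
  rw [← hK] at hS
  obtain ⟨PG, hPG⟩ := (IsPGroup.map P.isPGroup' ι).exists_le_sylow
  obtain ⟨g, hg⟩ := MulAction.exists_smul_eq (GL I F) S PG
  have hle : (P : Subgroup (Matrix.SpecialLinearGroup J F)).map ι ≤
      K.map (MulAut.conj g).toMonoidHom := by
    rintro _ ⟨A, hA, rfl⟩
    have h1 : ι A ∈ (PG : Subgroup (GL I F)) := hPG ⟨A, hA, rfl⟩
    rw [← hg, Sylow.coe_subgroup_smul, Subgroup.pointwise_smul_def] at h1
    obtain ⟨s, hs, hsA⟩ := h1
    refine ⟨s, ?_, hsA⟩
    rw [hK]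
    have h2 : s = g⁻¹ * ι A * g := by
      rw [← hsA]
      show s = g⁻¹ * (g * s * g⁻¹) * g
      group
    refine ⟨hs, MonoidHom.mem_ker.2 ?_⟩
    rw [h2, map_mul, map_mul, MonoidHom.mem_ker.1 (hker A), map_inv]
    simp
  have hKp : IsPGroup 2 K := S.isPGroup'.to_le (hK ▸ inf_le_left)
  have hKr : K ≤ ι.range := by
    intro x hx
    rw [hK] at hx
    exact hsurj x hx.2
  have hmap : (K.comap ι).map ι = K := Subgroup.map_comap_eq_self hKr
  have hcK : Nat.card (K.comap ι) = Nat.card K := by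
    conv_rhs => rw [← hmap]
    rw [Subgroup.card_map_of_injective hι]
  obtain ⟨P₂, hP₂⟩ := (hKp.comap_of_injective ι hι).exists_le_sylow
  have hc : Nat.card K ≤ Nat.card P := by
    rw [← hcK, Sylow.card_eq_multiplicity P, ← Sylow.card_eq_multiplicity P₂]
    exact Subgroup.card_le_of_le hP₂
  have heq : (P : Subgroup (Matrix.SpecialLinearGroup J F)).map ι =
      K.map (MulAut.conj g).toMonoidHom :=
    Subgroup.eq_of_le_of_card_ge hle (by
      rw [Subgroup.card_map_of_injective hι,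
        Subgroup.card_map_of_injective (MulAut.conj g).injective]
      exact hc)
  apply good_of_map ι hι
  rw [heq]
  exact good_map _ hS

theorem gl_good_reindex {I J : Type*} [Fintype I] [DecidableEq I] [Fintype J] [DecidableEq J]
    (e : I ≃ J)
    (h : ∃ S : Sylow 2 (GL I F), Good 2 ((S : Subgroup (GL I F)) ⊓
      (Matrix.GeneralLinearGroup.det (n := I) (R := F)).ker)) :
    ∃ S : Sylow 2 (GL J F), Good 2 ((S : Subgroup (GL J F)) ⊓
      (Matrix.GeneralLinearGroup.det (n := J) (R := F)).ker) := by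
  classical
  obtain ⟨S, hS⟩ := h
  obtain ⟨ψ, hψ⟩ : ∃ ψ : GL I F ≃* GL J F,
      ψ = Units.mapEquiv (Matrix.reindexAlgEquiv F F e).toMulEquiv := ⟨_, rfl⟩
  have hdet : ∀ g : GL I F, Matrix.GeneralLinearGroup.det (ψ.toMonoidHom g) =
      Matrix.GeneralLinearGroup.det g := by
    intro g
    apply Units.ext
    rw [Matrix.GeneralLinearGroup.val_det_apply, Matrix.GeneralLinearGroup.val_det_apply, hψ]
    exact Matrix.det_reindexAlgEquiv F F e _
  have hcard : Nat.card (GL J F) = Nat.card (GL I F) := (Nat.card_congr ψ.toEquiv).symm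
  have hc : Nat.card ((S : Subgroup (GL I F)).map ψ.toMonoidHom) =
      2 ^ (Nat.card (GL J F)).factorization 2 := by
    rw [Subgroup.card_map_of_injective ψ.injective, hcard, S.card_eq_multiplicity]
  refine ⟨Sylow.ofCard _ hc, ?_⟩
  rw [Sylow.coe_ofCard]
  have hmapeq : (S : Subgroup (GL I F)).map ψ.toMonoidHom ⊓
      (Matrix.GeneralLinearGroup.det (n := J) (R := F)).ker =
      ((S : Subgroup (GL I F)) ⊓
        (Matrix.GeneralLinearGroup.det (n := I) (R := F)).ker).map ψ.toMonoidHom := by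
    ext x
    constructor
    · rintro ⟨⟨s, hs, rfl⟩, hx⟩
      refine ⟨s, ⟨hs, MonoidHom.mem_ker.2 ?_⟩, rfl⟩
      rw [← hdet s]
      exact MonoidHom.mem_ker.1 hx
    · rintro ⟨s, ⟨hs, hs2⟩, rfl⟩
      refine ⟨⟨s, hs, rfl⟩, MonoidHom.mem_ker.2 ?_⟩
      rw [hdet s]
      exact MonoidHom.mem_ker.1 hs2
  rw [hmapeq]
  exact good_map _ hS

lemma det2_eq_det (M : Matrix (Fin 1 ⊕ Fin 1) (Fin 1 ⊕ Fin 1) F) : M.det = det2 M := by
  rw [← Matrix.det_submatrix_equiv_self (finSumFinEquiv (m := 1) (n := 1)).symm M]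
  have h := Matrix.det_fin_two (M.submatrix (finSumFinEquiv (m := 1) (n := 1)).symm
    (finSumFinEquiv (m := 1) (n := 1)).symm)
  rw [h]
  have h0 : (finSumFinEquiv (m := 1) (n := 1)).symm 0 = Sum.inl 0 := rfl
  have h1 : (finSumFinEquiv (m := 1) (n := 1)).symm 1 = Sum.inr 0 := rfl
  simp only [Matrix.submatrix_apply, det2, h0, h1]
  ring

lemma delta_eq_det (g : GL (Fin 1 ⊕ Fin 1) F) :
    delta g = Matrix.GeneralLinearGroup.det g := by
  apply Units.ext
  rw [delta_coe, Matrix.GeneralLinearGroup.val_det_apply, det2_eq_det]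

theorem gl2_good_inf_ker (hodd : Odd (Fintype.card F)) (S : Sylow 2 (GL (Fin 1 ⊕ Fin 1) F)) :
    Good 2 ((delta (F := F)).ker ⊓ (S : Subgroup (GL (Fin 1 ⊕ Fin 1) F))) := by
  classical
  obtain ⟨Q₁, hQ₁⟩ : ∃ Q₁ : Subgroup (GL (Fin 1 ⊕ Fin 1) F),
      Q₁ = (delta (F := F)).ker ⊓ (S : Subgroup (GL (Fin 1 ⊕ Fin 1) F)) := ⟨_, rfl⟩
  have hge := card_sylow_inf_ker (delta (F := F)) S
  rw [← hQ₁] at hge ⊢
  have hkc : Nat.card (delta (F := F)).ker = Nat.card (Matrix.symplecticGroup (Fin 1) F) := by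
    rw [← kappa_range]
    exact (Nat.card_congr (MonoidHom.ofInjective kappa_injective).toEquiv).symm
  have hQ₁le : Q₁ ≤ (kappa (F := F)).range := by
    rw [kappa_range, hQ₁]; exact inf_le_left
  have hQ₁S : Q₁ ≤ (S : Subgroup (GL (Fin 1 ⊕ Fin 1) F)) := by
    rw [hQ₁]; exact inf_le_right
  have hmap : (Q₁.comap (kappa (F := F))).map kappa = Q₁ := Subgroup.map_comap_eq_self hQ₁le
  have hQ'p : IsPGroup 2 (Q₁.comap (kappa (F := F))) :=
    (S.isPGroup'.to_le hQ₁S).comap_of_injective kappa kappa_injective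
  have hcQ' : Nat.card (Q₁.comap (kappa (F := F))) = Nat.card Q₁ := by
    conv_rhs => rw [← hmap]
    rw [Subgroup.card_map_of_injective kappa_injective]
  obtain ⟨P', hP'⟩ := hQ'p.exists_le_sylow
  have hQP : Q₁.comap (kappa (F := F)) = P' := Subgroup.eq_of_le_of_card_ge hP' (by
    rw [hcQ', P'.card_eq_multiplicity, ← hkc]
    exact hge)
  have hQ'g : Good 2 (Q₁.comap (kappa (F := F))) := by
    rw [hQP]; exact sp2_sylow_good hodd P'
  rw [← hmap]
  exact good_map _ hQ'g

end sl

end Cfsg.Agent.Lib.Helper1.SylSl
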