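import Mathlib
import Cfsg.Agent.Lib.Helper1.SylSlD

/-!
A Sylow 2-subgroup `S` of `GL_{2m}(F)`, `|F| ≡ 3 (mod 4)`, with `S ⊓ ker det` good.
-/

namespace Cfsg.Agent.Lib.Helper1.SylSl

open Cfsg.Agent.Lib.Helper1.SylSym Cfsg.Agent.Lib.Helper1.SylSp

section three
variable {F : Type*} [Field F] [Fintype F]

theorem gl_even_good_three (hq : Fintype.card F % 4 = 3) (m : ℕ) :
    ∃ S : Sylow 2 (GL (Fin m ⊕ Fin m) F), Good 2 ((S : Subgroup (GL (Fin m ⊕ Fin m) F)) ⊓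
      (Matrix.GeneralLinearGroup.det (n := Fin m ⊕ Fin m) (R := F)).ker) := by
  classical
  have hodd : Odd (Fintype.card F) := Nat.odd_iff.2 (by omega)
  obtain ⟨t, htc⟩ : ∃ t : GL (Fin 1 ⊕ Fin 1) F,
      (t : Matrix (Fin 1 ⊕ Fin 1) (Fin 1 ⊕ Fin 1) F) = mk2 1 0 0 (-1) := by
    refine ⟨⟨mk2 1 0 0 (-1), mk2 1 0 0 (-1), ?_, ?_⟩, rfl⟩ <;>
    · rw [mk2_mul, one_eq_mk2]
      exact mk2_congr (by ring) (by ring) (by ring) (by ring)
  have ht2 : t * t = 1 := by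
    apply Units.ext
    rw [Units.val_mul, htc, mk2_mul, Units.val_one, one_eq_mk2]
    exact mk2_congr (by ring) (by ring) (by ring) (by ring)
  have htd : det2 (t : Matrix (Fin 1 ⊕ Fin 1) (Fin 1 ⊕ Fin 1) F) = -1 := by
    rw [htc, det2_mk2]; ring
  have hpow : ∀ k : ℤ, (t ^ k) ^ 2 = 1 := by
    intro k
    rw [← zpow_natCast, ← zpow_mul, mul_comm, zpow_mul, zpow_natCast, pow_two, ht2, one_zpow]
  have hzt : IsPGroup 2 (Subgroup.zpowers t) := by
    rintro ⟨x, hx⟩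
    obtain ⟨k, rfl⟩ := Subgroup.mem_zpowers_iff.1 hx
    refine ⟨1, Subtype.ext ?_⟩
    show (t ^ k) ^ 2 ^ 1 = 1
    rw [pow_one, hpow]
  obtain ⟨S₁, hS₁⟩ := hzt.exists_le_sylow
  have htS : t ∈ (S₁ : Subgroup (GL (Fin 1 ⊕ Fin 1) F)) := hS₁ (Subgroup.mem_zpowers t)
  have hQg := gl2_good_inf_ker hodd S₁
  have hδ : ∀ s ∈ (S₁ : Subgroup (GL (Fin 1 ⊕ Fin 1) F)),
      det2 (s : Matrix (Fin 1 ⊕ Fin 1) (Fin 1 ⊕ Fin 1) F) = 1 ∨
      det2 (s : Matrix (Fin 1 ⊕ Fin 1) (Fin 1 ⊕ Fin 1) F) = -1 := by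
    intro s hs
    let f : (S₁ : Subgroup (GL (Fin 1 ⊕ Fin 1) F)) →* Fˣ :=
      (delta (F := F)).comp (S₁ : Subgroup (GL (Fin 1 ⊕ Fin 1) F)).subtype
    have h3 : Nat.card f.range ≤ 2 := card_two_sub_units hq f.range
      (IsPGroup.of_surjective S₁.isPGroup' f.rangeRestrict f.rangeRestrict_surjective)
    have h4 : (⟨delta s, ⟨⟨s, hs⟩, rfl⟩⟩ : f.range) ^ Nat.card f.range = 1 := pow_card_eq_one'
    have h5 : (delta s) ^ Nat.card f.range = 1 := congrArg Subtype.val h4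
    have h6 : (delta s) ^ 2 = 1 := by
      have hpos : 0 < Nat.card f.range := Nat.card_pos
      have h7 : Nat.card f.range = 1 ∨ Nat.card f.range = 2 := by omega
      rcases h7 with h7 | h7
      · rw [h7, pow_one] at h5
        rw [h5, one_pow]
      · rw [h7] at h5
        exact h5
    have h8 : det2 (s : Matrix (Fin 1 ⊕ Fin 1) (Fin 1 ⊕ Fin 1) F) *
        det2 (s : Matrix (Fin 1 ⊕ Fin 1) (Fin 1 ⊕ Fin 1) F) = 1 := by
      have := congrArg Units.val h6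
      rw [Units.val_pow_eq_pow_val, delta_coe, Units.val_one, pow_two] at this
      exact this
    exact mul_self_eq_one_iff.1 h8
  let T₀ : Sylow 2 (Equiv.Perm (Fin m)) := default
  have hTg := (Cfsg.Agent.Lib.Helper1.SylSym.main 2 m (Fin m) (Fintype.card_fin m) T₀).1
  obtain ⟨B, hB⟩ : ∃ B : Subgroup (GL (Fin m ⊕ Fin m) F), B = (Subgroup.pi Set.univ
      (fun _ : Fin m => (S₁ : Subgroup (GL (Fin 1 ⊕ Fin 1) F)))).map (betaG m) :=
    ⟨_, rfl⟩
  obtain ⟨T, hT⟩ : ∃ T : Subgroup (GL (Fin m ⊕ Fin m) F),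
      T = (T₀ : Subgroup (Equiv.Perm (Fin m))).map (tauG (F := F) m) := ⟨_, rfl⟩
  have hnorm : ∀ t ∈ T, ∀ b ∈ B, t * b * t⁻¹ ∈ B := by
    rw [hB, hT]
    rintro _ ⟨σ, hσ, rfl⟩ _ ⟨f, hf, rfl⟩
    refine ⟨fun i => f (σ.symm i), fun i _ => hf (σ.symm i) (Set.mem_univ _), ?_⟩
    rw [tauG_betaG, mul_inv_cancel_right]
  have hBT : B ⊓ T = ⊥ := by
    rw [eq_bot_iff, ← rangeG_inf (F := F) m, hB, hT]
    exact inf_le_inf (Subgroup.map_le_range _ _) (Subgroup.map_le_range _ _)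
  have hcardS := card_sylow_gl2 hq S₁
  have hcardT : Nat.card T₀ = 2 ^ padicValNat 2 m.factorial := by
    rw [Sylow.card_eq_multiplicity, Nat.card_perm, Nat.card_eq_fintype_card, Fintype.card_fin,
      Nat.factorization_def _ Nat.prime_two]
  have hcardW : Nat.card (prodSub B T hnorm) =
      2 ^ (m * (padicValNat 2 (Fintype.card F ^ 2 - 1) + 1) + padicValNat 2 m.factorial) := by
    rw [prodSub_card B T hnorm hBT, hB, hT, Subgroup.card_map_of_injective (betaG_injective m),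
      Subgroup.card_map_of_injective (tauG_injective m), hcardT, card_pi_const, hcardS,
      Nat.card_eq_fintype_card, Fintype.card_fin, ← pow_mul, ← pow_add, mul_comm]
  have hcardGL : (Nat.card (GL (Fin m ⊕ Fin m) F)).factorization 2 =
      m * (padicValNat 2 (Fintype.card F ^ 2 - 1) + 1) + padicValNat 2 m.factorial := by
    rw [card_GL_of_card (Fin m ⊕ Fin m) (2 * m) (by simp; ring),
      Nat.factorization_def _ Nat.prime_two, val_GL _ hodd (by omega)]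
    have h1 := sum_val _ hq m
    rw [Finset.sum_range_succ, val_odd _ hq m] at h1
    omega
  refine ⟨Sylow.ofCard (prodSub B T hnorm) (by rw [hcardW, hcardGL]), ?_⟩
  rw [Sylow.coe_ofCard]
  obtain ⟨D, hD⟩ : ∃ D : Subgroup (GL (Fin m ⊕ Fin m) F),
      D = (Matrix.GeneralLinearGroup.det (n := Fin m ⊕ Fin m) (R := F)).ker := ⟨_, rfl⟩
  rw [← hD]
  obtain ⟨BQ, hBQ⟩ : ∃ BQ : Subgroup (GL (Fin m ⊕ Fin m) F), BQ = (Subgroup.pi Set.univ
      (fun _ : Fin m => (delta (F := F)).ker ⊓ (S₁ : Subgroup (GL (Fin 1 ⊕ Fin 1) F)))).map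
      (betaG m) := ⟨_, rfl⟩
  obtain ⟨E, hE⟩ : ∃ E : Subgroup (GL (Fin m ⊕ Fin m) F), E = (Subgroup.pi Set.univ
      (fun _ : Fin m => Subgroup.zpowers t)).map (betaG m) ⊓ D := ⟨_, rfl⟩
  have hBQg : Good 2 BQ := by
    rw [hBQ]; exact good_map _ (good_pi _ hQg)
  have hEg : Good 2 E := by
    intro x hx
    rw [hE] at hx
    obtain ⟨⟨u, hu, rfl⟩, -⟩ := hx
    have hu2 : u ^ 2 = 1 := by
      funext i
      obtain ⟨k, hk⟩ := Subgroup.mem_zpowers_iff.1 (hu i (Set.mem_univ i))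
      rw [Pi.pow_apply, ← hk, hpow]
      rfl
    rw [← map_pow, hu2, map_one]
    exact Subgroup.one_mem _
  have hTg' : Good 2 T := by
    rw [hT]; exact good_map _ hTg
  have hdetB : ∀ f : Fin m → GL (Fin 1 ⊕ Fin 1) F,
      (∀ i, det2 (f i : Matrix (Fin 1 ⊕ Fin 1) (Fin 1 ⊕ Fin 1) F) = 1) → betaG m f ∈ D := by
    intro f hf
    rw [hD, MonoidHom.mem_ker]
    apply Units.ext
    rw [Matrix.GeneralLinearGroup.val_det_apply, betaG_coe]
    exact SymplecticGroup.det_eq_one (bm_mem m _ (fun i => (mem_sp2_iff_det2 _).2 (hf i)))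
  have hdetT : ∀ σ : Equiv.Perm (Fin m), tauG (F := F) m σ ∈ D := by
    intro σ
    rw [hD, MonoidHom.mem_ker]
    apply Units.ext
    rw [Matrix.GeneralLinearGroup.val_det_apply, tauG_coe]
    exact SymplecticGroup.det_eq_one (pm_mem m σ)
  have hKeq : prodSub B T hnorm ⊓ D = BQ ⊔ E ⊔ T := by
    apply le_antisymm
    · rintro x ⟨⟨b, hb, t', ht', rfl⟩, hxD⟩
      rw [hB] at hb
      obtain ⟨f, hf, rfl⟩ := hb
      have ht'' := ht'
      rw [hT] at ht''
      obtain ⟨σ, hσ, rfl⟩ := ht''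
      obtain ⟨u, hu⟩ : ∃ u : Fin m → GL (Fin 1 ⊕ Fin 1) F, u = fun i =>
          if det2 (f i : Matrix (Fin 1 ⊕ Fin 1) (Fin 1 ⊕ Fin 1) F) = 1 then 1 else t := ⟨_, rfl⟩
      obtain ⟨q, hq'⟩ : ∃ q : Fin m → GL (Fin 1 ⊕ Fin 1) F, q = fun i => f i * u i := ⟨_, rfl⟩
      have huu : ∀ i, u i * u i = 1 := by
        intro i
        rw [hu]
        show (if det2 (f i : Matrix (Fin 1 ⊕ Fin 1) (Fin 1 ⊕ Fin 1) F) = 1 then 1 else t) *
          (if det2 (f i : Matrix (Fin 1 ⊕ Fin 1) (Fin 1 ⊕ Fin 1) F) = 1 then 1 else t) = 1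
        split_ifs
        · exact one_mul 1
        · exact ht2
      have hfq : f = q * u := by
        funext i
        rw [hq', Pi.mul_apply, mul_assoc, huu, mul_one]
      have hq1 : ∀ i, det2 (q i : Matrix (Fin 1 ⊕ Fin 1) (Fin 1 ⊕ Fin 1) F) = 1 := by
        intro i
        rw [hq', hu]
        show det2 ((f i * (if det2 (f i : Matrix (Fin 1 ⊕ Fin 1) (Fin 1 ⊕ Fin 1) F) = 1
          then 1 else t) : GL (Fin 1 ⊕ Fin 1) F) : Matrix (Fin 1 ⊕ Fin 1) (Fin 1 ⊕ Fin 1) F) = 1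
        split_ifs with h
        · rw [mul_one]; exact h
        · rw [Units.val_mul, det2_mul, htd]
          rcases hδ (f i) (hf i (Set.mem_univ i)) with h' | h'
          · exact absurd h' h
          · rw [h']; ring
      have hqS : ∀ i, q i ∈ (S₁ : Subgroup (GL (Fin 1 ⊕ Fin 1) F)) := by
        intro i
        rw [hq', hu]
        show f i * (if det2 (f i : Matrix (Fin 1 ⊕ Fin 1) (Fin 1 ⊕ Fin 1) F) = 1
          then 1 else t) ∈ (S₁ : Subgroup (GL (Fin 1 ⊕ Fin 1) F))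
        split_ifs
        · rw [mul_one]; exact hf i (Set.mem_univ i)
        · exact Subgroup.mul_mem _ (hf i (Set.mem_univ i)) htS
      have hqQ : betaG m q ∈ BQ := by
        rw [hBQ]
        refine ⟨q, fun i _ => ⟨MonoidHom.mem_ker.2 ?_, hqS i⟩, rfl⟩
        apply Units.ext
        rw [delta_coe]
        exact hq1 i
      have huE : betaG m u ∈ E := by
        rw [hE]
        refine ⟨⟨u, fun i _ => ?_, rfl⟩, ?_⟩
        · rw [hu]
          show (if det2 (f i : Matrix (Fin 1 ⊕ Fin 1) (Fin 1 ⊕ Fin 1) F) = 1 then 1 else t) ∈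
            Subgroup.zpowers t
          split_ifs
          · exact Subgroup.one_mem _
          · exact Subgroup.mem_zpowers t
        · have h1 : betaG m u = (betaG m q)⁻¹ * (betaG m f * tauG m σ) * (tauG m σ)⁻¹ := by
            rw [hfq, map_mul]; group
          rw [h1]
          exact D.mul_mem (D.mul_mem (D.inv_mem (hdetB q hq1)) hxD) (D.inv_mem (hdetT σ))
      rw [hfq, map_mul]
      exact Subgroup.mul_mem _ (Subgroup.mul_mem _
        (Subgroup.mem_sup_left (Subgroup.mem_sup_left hqQ))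
        (Subgroup.mem_sup_left (Subgroup.mem_sup_right huE))) (Subgroup.mem_sup_right ht')
    · refine sup_le (sup_le ?_ ?_) ?_
      · rw [hBQ]
        rintro _ ⟨f, hf, rfl⟩
        refine ⟨⟨betaG m f, ?_, 1, T.one_mem, by simp⟩, hdetB f (fun i => ?_)⟩
        · rw [hB]; exact ⟨f, fun i hi => (hf i hi).2, rfl⟩
        · have h1 := MonoidHom.mem_ker.1 (hf i (Set.mem_univ i)).1
          have h2 := congrArg Units.val h1
          rwa [delta_coe] at h2
      · rw [hE]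
        rintro _ ⟨⟨u, hu, rfl⟩, hxD⟩
        refine ⟨⟨betaG m u, ?_, 1, T.one_mem, by simp⟩, hxD⟩
        rw [hB]; exact ⟨u, fun i hi => hS₁ (hu i hi), rfl⟩
      · intro x hx
        have hx' := hx
        rw [hT] at hx'
        obtain ⟨σ, hσ, rfl⟩ := hx'
        exact ⟨⟨1, B.one_mem, tauG m σ, hx, by simp⟩, hdetT σ⟩
  rw [hKeq]
  exact good_sup (good_sup hBQg hEg) hTg'

end three

end Cfsg.Agent.Lib.Helper1.SylSl
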