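import Mathlib
import Cfsg.Agent.Lib.Helper1.SylSlE

/-!
A Sylow 2-subgroup `S` of `GL_N(F)`, `N = 2^(k+1)`, `|F| ≡ 1 (mod 4)`, with `S ⊓ ker det` good
(doubling construction `S ≀ C_2`); Sylow 2-subgroups of `SL_{2m}(F)`.
-/

namespace Cfsg.Agent.Lib.Helper1.SylSl

open Cfsg.Agent.Lib.Helper1.SylSym Cfsg.Agent.Lib.Helper1.SylSp
open scoped commutatorElement

section val
open Nat

lemma val_one_mod_four (q : ℕ) (hq : q % 4 = 1) (hq1 : 1 < q) (n : ℕ) (hn : n ≠ 0) :
    padicValNat 2 (q ^ n - 1) = padicValNat 2 (q - 1) + padicValNat 2 n := by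
  have h1 : q ^ n - 1 ≠ 0 := by
    have : 1 < q ^ n := Nat.one_lt_pow hn hq1
    omega
  have h2 : q - 1 ≠ 0 := by omega
  apply Nat.cast_injective (R := ℕ∞)
  rw [Nat.cast_add, padicValNat_eq_emultiplicity h1, padicValNat_eq_emultiplicity h2,
    padicValNat_eq_emultiplicity hn]
  have h3 := Int.two_pow_sub_pow' (x := (q : ℤ)) (y := 1) n (by omega) (by omega)
  rw [← Int.natCast_emultiplicity, ← Int.natCast_emultiplicity, ← Int.natCast_emultiplicity]
  have h4 : ((q ^ n - 1 : ℕ) : ℤ) = (q : ℤ) ^ n - 1 ^ n := by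
    rw [Nat.cast_sub (by omega), Nat.cast_pow, one_pow, Nat.cast_one]
  have h5 : ((q - 1 : ℕ) : ℤ) = (q : ℤ) - 1 := by
    rw [Nat.cast_sub (by omega), Nat.cast_one]
  rw [h4, h5]
  exact h3

lemma sum_val_one (q : ℕ) (hq : q % 4 = 1) (hq1 : 1 < q) (N : ℕ) :
    ∑ k ∈ Finset.range N, padicValNat 2 (q ^ (k + 1) - 1) =
      N * padicValNat 2 (q - 1) + padicValNat 2 N ! := by
  induction N with
  | zero => simp
  | succ N ih =>
    rw [Finset.sum_range_succ, ih, val_one_mod_four q hq hq1 (N + 1) (by omega),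
      Nat.factorial_succ, padicValNat.mul (by omega) (Nat.factorial_ne_zero N)]
    ring

lemma val_fact_pow_two (k : ℕ) : padicValNat 2 (2 ^ k)! + 1 = 2 ^ k := by
  induction k with
  | zero => simp
  | succ k ih =>
    rw [pow_succ, mul_comm, padicValNat_factorial_mul]
    omega

lemma val_GL_double (q : ℕ) (hq : q % 4 = 1) (hq1 : 1 < q) (k : ℕ) :
    padicValNat 2 (∏ i : Fin (2 * 2 ^ k), (q ^ (2 * 2 ^ k) - q ^ (i : ℕ))) =
      2 * padicValNat 2 (∏ i : Fin (2 ^ k), (q ^ (2 ^ k) - q ^ (i : ℕ))) + 1 := by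
  have hodd : Odd q := Nat.odd_iff.2 (by omega)
  rw [val_GL q hodd hq1, val_GL q hodd hq1, sum_val_one q hq hq1, sum_val_one q hq hq1,
    padicValNat_factorial_mul]
  have h1 := val_fact_pow_two k
  have h2 : 2 * 2 ^ k * padicValNat 2 (q - 1) = 2 * (2 ^ k * padicValNat 2 (q - 1)) := by ring
  rw [h2]
  omega

end val

section pair
variable {G : Type*} [Group G]

/-- the subgroup `{1, w}` for an involution `w` -/
def pairSub (w : G) (hw : w * w = 1) : Subgroup G where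
  carrier := {1, w}
  one_mem' := Or.inl rfl
  mul_mem' := by
    rintro a b (rfl | rfl) (rfl | rfl)
    · left; exact one_mul 1
    · right; exact one_mul _
    · right; exact mul_one _
    · left; exact hw
  inv_mem' := by
    rintro a (rfl | rfl)
    · left; exact inv_one
    · right; exact inv_eq_of_mul_eq_one_left hw

lemma mem_pairSub {w : G} {hw : w * w = 1} {x : G} : x ∈ pairSub w hw ↔ x = 1 ∨ x = w :=
  Iff.rfl

lemma card_pairSub (w : G) (hw : w * w = 1) (h1 : w ≠ 1) : Nat.card (pairSub w hw) = 2 := by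
  show Nat.card (({1, w} : Set G)) = 2
  rw [Nat.card_coe_set_eq, Set.ncard_pair (Ne.symm h1)]

end pair

section double
variable {F : Type*} [Field F]

/-- block diagonal hom -/
def dgHom (J : Type*) [Fintype J] [DecidableEq J] : GL J F × GL J F →* GL (J ⊕ J) F :=
  MonoidHom.toHomUnits
    { toFun := fun p => Matrix.fromBlocks (p.1 : Matrix J J F) 0 0 (p.2 : Matrix J J F)
      map_one' := Matrix.fromBlocks_one
      map_mul' := fun p r => by simp [Matrix.fromBlocks_multiply] }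

lemma dgHom_coe (J : Type*) [Fintype J] [DecidableEq J] (p : GL J F × GL J F) :
    ((dgHom J p : GL (J ⊕ J) F) : Matrix (J ⊕ J) (J ⊕ J) F) =
      Matrix.fromBlocks (p.1 : Matrix J J F) 0 0 (p.2 : Matrix J J F) := rfl

lemma dgHom_injective (J : Type*) [Fintype J] [DecidableEq J] :
    Function.Injective (dgHom (F := F) J) := by
  intro p r h
  have h1 := congrArg Units.val h
  rw [dgHom_coe, dgHom_coe, Matrix.fromBlocks_inj] at h1
  exact Prod.ext (Units.ext h1.1) (Units.ext h1.2.2.2)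

/-- the block swap -/
def wG (J : Type*) [Fintype J] [DecidableEq J] : GL (J ⊕ J) F :=
  ⟨Matrix.fromBlocks 0 1 1 0, Matrix.fromBlocks 0 1 1 0,
    by simp [Matrix.fromBlocks_multiply, Matrix.fromBlocks_one],
    by simp [Matrix.fromBlocks_multiply, Matrix.fromBlocks_one]⟩

lemma wG_coe (J : Type*) [Fintype J] [DecidableEq J] :
    ((wG J : GL (J ⊕ J) F) : Matrix (J ⊕ J) (J ⊕ J) F) = Matrix.fromBlocks 0 1 1 0 := rfl

lemma wG_mul_self (J : Type*) [Fintype J] [DecidableEq J] :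
    (wG J : GL (J ⊕ J) F) * wG J = 1 := by
  apply Units.ext
  rw [Units.val_mul, wG_coe, Units.val_one, Matrix.fromBlocks_multiply]
  simp [Matrix.fromBlocks_one]

lemma wG_dg (J : Type*) [Fintype J] [DecidableEq J] (x y : GL J F) :
    (wG J : GL (J ⊕ J) F) * dgHom J (x, y) = dgHom J (y, x) * wG J := by
  apply Units.ext
  rw [Units.val_mul, Units.val_mul, wG_coe, dgHom_coe, dgHom_coe, Matrix.fromBlocks_multiply,
    Matrix.fromBlocks_multiply]
  simp

lemma det_dg (J : Type*) [Fintype J] [DecidableEq J] (p : GL J F × GL J F) :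
    Matrix.GeneralLinearGroup.det (dgHom J p) =
      Matrix.GeneralLinearGroup.det p.1 * Matrix.GeneralLinearGroup.det p.2 := by
  apply Units.ext
  rw [Matrix.GeneralLinearGroup.val_det_apply, dgHom_coe, Matrix.det_fromBlocks_zero₂₁,
    Units.val_mul, Matrix.GeneralLinearGroup.val_det_apply,
    Matrix.GeneralLinearGroup.val_det_apply]

lemma det_wG (J : Type*) [Fintype J] [DecidableEq J] (hJ : Even (Fintype.card J)) :
    Matrix.GeneralLinearGroup.det (wG (F := F) J) = 1 := by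
  apply Units.ext
  rw [Matrix.GeneralLinearGroup.val_det_apply, wG_coe, Units.val_one]
  have h1 : (Matrix.fromBlocks 0 1 1 0 : Matrix (J ⊕ J) (J ⊕ J) F) =
      Matrix.J J F * Matrix.fromBlocks 1 0 0 (-1) := by
    rw [Matrix.J, Matrix.fromBlocks_multiply]
    simp
  rw [h1, Matrix.det_mul, SymplecticGroup.det_eq_one (SymplecticGroup.J_mem J F), one_mul,
    Matrix.det_fromBlocks_zero₂₁, Matrix.det_one, one_mul, Matrix.det_neg, Matrix.det_one,
    mul_one, hJ.neg_one_pow]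

theorem gl_double_good [Fintype F] (hq : Fintype.card F % 4 = 1) (k : ℕ) (J : Type*)
    [Fintype J] [DecidableEq J] (hJ : Fintype.card J = 2 ^ (k + 1))
    (h : ∃ S : Sylow 2 (GL J F), Good 2 ((S : Subgroup (GL J F)) ⊓
      (Matrix.GeneralLinearGroup.det (n := J) (R := F)).ker)) :
    ∃ S : Sylow 2 (GL (J ⊕ J) F), Good 2 ((S : Subgroup (GL (J ⊕ J) F)) ⊓
      (Matrix.GeneralLinearGroup.det (n := J ⊕ J) (R := F)).ker) := by
  classical
  obtain ⟨S, hS⟩ := h
  have hJne : Nonempty J := by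
    rw [← Fintype.card_pos_iff, hJ]; positivity
  have hJeven : Even (Fintype.card J) := by
    rw [hJ, pow_succ]; exact even_two.mul_left _
  obtain ⟨A, hA⟩ : ∃ A : Subgroup (GL (J ⊕ J) F), A =
      ((S : Subgroup (GL J F)).prod (S : Subgroup (GL J F))).map (dgHom J) := ⟨_, rfl⟩
  have hw2 := wG_mul_self (F := F) J
  have hw1 : (wG J : GL (J ⊕ J) F) ≠ 1 := by
    intro h1
    have h2 := congrArg Units.val h1
    rw [wG_coe, Units.val_one, ← Matrix.fromBlocks_one, Matrix.fromBlocks_inj] at h2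
    exact one_ne_zero h2.2.1
  obtain ⟨C, hC⟩ : ∃ C : Subgroup (GL (J ⊕ J) F), C = pairSub (wG J) hw2 := ⟨_, rfl⟩
  have hnorm : ∀ c ∈ C, ∀ a ∈ A, c * a * c⁻¹ ∈ A := by
    rw [hC, hA]
    rintro c (rfl | rfl) _ ⟨⟨x, y⟩, hxy, rfl⟩
    · rw [one_mul, inv_one, mul_one]
      exact ⟨(x, y), hxy, rfl⟩
    · refine ⟨(y, x), ⟨hxy.2, hxy.1⟩, ?_⟩
      rw [wG_dg, mul_inv_cancel_right]
  have hAC : A ⊓ C = ⊥ := by
    rw [eq_bot_iff]
    rintro x ⟨hxA, hxC⟩
    rw [hC] at hxC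
    rcases hxC with rfl | rfl
    · exact Subgroup.mem_bot.2 rfl
    · exfalso
      rw [hA] at hxA
      obtain ⟨⟨x, y⟩, -, hxy⟩ := hxA
      have h2 := congrArg Units.val hxy
      rw [dgHom_coe, wG_coe, Matrix.fromBlocks_inj] at h2
      exact one_ne_zero h2.2.1.symm
  have hcardA : Nat.card A = Nat.card S * Nat.card S := by
    rw [hA, Subgroup.card_map_of_injective (dgHom_injective J),
      Nat.card_congr (Subgroup.prodEquiv _ _).toEquiv, Nat.card_prod]
  have hcardW : Nat.card (prodSub A C hnorm) = Nat.card S * Nat.card S * 2 := by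
    rw [prodSub_card A C hnorm hAC, hcardA, hC, card_pairSub _ _ hw1]
  have hv : (Nat.card (GL (J ⊕ J) F)).factorization 2 =
      2 * (Nat.card (GL J F)).factorization 2 + 1 := by
    rw [card_GL_of_card (J ⊕ J) (2 * 2 ^ (k + 1)) (by simp [hJ]; ring),
      card_GL_of_card J (2 ^ (k + 1)) hJ, Nat.factorization_def _ Nat.prime_two,
      Nat.factorization_def _ Nat.prime_two]
    exact val_GL_double _ hq Fintype.one_lt_card (k + 1)
  have hcS := S.card_eq_multiplicity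
  refine ⟨Sylow.ofCard (prodSub A C hnorm) (by rw [hcardW, hcS, hv]; ring), ?_⟩
  rw [Sylow.coe_ofCard]
  obtain ⟨D, hD⟩ : ∃ D : Subgroup (GL (J ⊕ J) F),
      D = (Matrix.GeneralLinearGroup.det (n := J ⊕ J) (R := F)).ker := ⟨_, rfl⟩
  rw [← hD]
  obtain ⟨K, hK⟩ : ∃ K : Subgroup (GL (J ⊕ J) F), K = prodSub A C hnorm ⊓ D := ⟨_, rfl⟩
  rw [← hK, good_iff_le_gk]
  have hwK : wG J ∈ K := by
    rw [hK]
    refine ⟨⟨1, A.one_mem, wG J, ?_, (one_mul _).symm⟩, ?_⟩
    · rw [hC]; exact Or.inr rfl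
    · rw [hD]; exact MonoidHom.mem_ker.2 (det_wG J hJeven)
  have hwgk : wG J ∈ gk 2 K :=
    mem_gk.2 ⟨hwK, by rw [pow_two, hw2]; exact Subgroup.one_mem _⟩
  have hanti : ∀ a ∈ (S : Subgroup (GL J F)), dgHom J (a, a⁻¹) ∈ gk 2 K := by
    intro a ha
    have hmem : dgHom J (a, a⁻¹) ∈ K := by
      rw [hK]
      refine ⟨⟨dgHom J (a, a⁻¹), ?_, 1, C.one_mem, (mul_one _).symm⟩, ?_⟩
      · rw [hA]; exact ⟨(a, a⁻¹), ⟨ha, Subgroup.inv_mem _ ha⟩, rfl⟩
      · rw [hD]
        refine MonoidHom.mem_ker.2 ?_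
        rw [det_dg, map_inv, mul_inv_cancel]
    refine mem_gk.2 ⟨hmem, ?_⟩
    have h1 : dgHom J (a, a⁻¹) ^ 2 = ⁅dgHom J (a, a⁻¹), wG J⁆ := by
      rw [commutatorElement_def, pow_two]
      have h2 : wG J * (dgHom J (a, a⁻¹))⁻¹ * (wG J)⁻¹ = dgHom J (a, a⁻¹) := by
        rw [← map_inv, Prod.inv_mk, inv_inv, wG_dg, mul_inv_cancel_right]
      rw [mul_assoc, mul_assoc, ← mul_assoc (wG J), h2]
    rw [h1]
    exact Subgroup.commutator_mem_commutator hmem hwK
  have hlow : ((S : Subgroup (GL J F)) ⊓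
      (Matrix.GeneralLinearGroup.det (n := J) (R := F)).ker).map
      ((dgHom J).comp (MonoidHom.inr (GL J F) (GL J F))) ≤ gk 2 K := by
    apply le_gk_of_good _ (good_map _ hS)
    rintro _ ⟨y, ⟨hyS, hyD⟩, rfl⟩
    rw [hK]
    refine ⟨⟨dgHom J (1, y), ?_, 1, C.one_mem, (mul_one _).symm⟩, ?_⟩
    · rw [hA]; exact ⟨(1, y), ⟨Subgroup.one_mem _, hyS⟩, rfl⟩
    · rw [hD]
      refine MonoidHom.mem_ker.2 ?_
      show Matrix.GeneralLinearGroup.det (dgHom J (1, y)) = 1
      rw [det_dg, map_one, one_mul]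
      exact MonoidHom.mem_ker.1 hyD
  intro x hx
  rw [hK] at hx
  obtain ⟨⟨a', ha', c, hc, rfl⟩, hxD⟩ := hx
  rw [hA] at ha'
  obtain ⟨⟨a, b⟩, ⟨haS, hbS⟩, rfl⟩ := ha'
  have hcgk : c ∈ gk 2 K := by
    rw [hC] at hc
    rcases hc with rfl | rfl
    · exact Subgroup.one_mem _
    · exact hwgk
  have hcD : c ∈ D := by
    have := (mem_gk.1 hcgk).1
    rw [hK] at this
    exact this.2
  have habD : dgHom J (a, b) ∈ D := by
    have h1 : dgHom J (a, b) = dgHom J (a, b) * c * c⁻¹ := by group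
    rw [h1]
    exact D.mul_mem hxD (D.inv_mem hcD)
  have hdet : Matrix.GeneralLinearGroup.det a * Matrix.GeneralLinearGroup.det b = 1 := by
    rw [hD, MonoidHom.mem_ker, det_dg] at habD
    exact habD
  have hsplit : dgHom J (a, b) = dgHom J (a, a⁻¹) * dgHom J (1, a * b) := by
    rw [← map_mul, Prod.mk_mul_mk, mul_one, inv_mul_cancel_left]
  rw [hsplit]
  refine Subgroup.mul_mem _ (Subgroup.mul_mem _ (hanti a haS)
    (hlow ⟨a * b, ⟨Subgroup.mul_mem _ haS hbS, MonoidHom.mem_ker.2 ?_⟩, rfl⟩)) hcgk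
  rw [map_mul]
  exact hdet

theorem gl_pow_two_good [Fintype F] (hq : Fintype.card F % 4 = 1) :
    ∀ (k : ℕ) (J : Type) [Fintype J] [DecidableEq J], Fintype.card J = 2 ^ (k + 1) →
      ∃ S : Sylow 2 (GL J F), Good 2 ((S : Subgroup (GL J F)) ⊓
        (Matrix.GeneralLinearGroup.det (n := J) (R := F)).ker) := by
  intro k
  induction k with
  | zero =>
    intro J _ _ hJ
    have hodd : Odd (Fintype.card F) := Nat.odd_iff.2 (by omega)
    have e : Fin 1 ⊕ Fin 1 ≃ J := Fintype.equivOfCardEq (by simp [hJ])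
    apply gl_good_reindex e
    refine ⟨default, ?_⟩
    have h1 := gl2_good_inf_ker hodd (default : Sylow 2 (GL (Fin 1 ⊕ Fin 1) F))
    have hk : (delta (F := F)).ker =
        (Matrix.GeneralLinearGroup.det (n := Fin 1 ⊕ Fin 1) (R := F)).ker := by
      ext g
      rw [MonoidHom.mem_ker, MonoidHom.mem_ker, delta_eq_det]
    rw [inf_comm, ← hk]
    exact h1
  | succ k ih =>
    intro J _ _ hJ
    have e : Fin (2 ^ (k + 1)) ⊕ Fin (2 ^ (k + 1)) ≃ J :=
      Fintype.equivOfCardEq (by simp [hJ]; ring)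
    apply gl_good_reindex e
    exact gl_double_good hq k (Fin (2 ^ (k + 1))) (by simp)
      (ih (Fin (2 ^ (k + 1))) (by simp))

theorem sl_even_good [Fintype F] (m : ℕ)
    (hq : 4 ∣ Fintype.card F + 1 ∨ (4 ∣ Fintype.card F - 1 ∧ ∃ j : ℕ, m = 2 ^ j))
    (P : Sylow 2 (Matrix.SpecialLinearGroup (Fin (2 * m)) F)) :
    Good 2 (P : Subgroup (Matrix.SpecialLinearGroup (Fin (2 * m)) F)) := by
  rcases hq with hq | ⟨hq, j, rfl⟩
  · have hq3 : Fintype.card F % 4 = 3 := by omega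
    obtain ⟨S, hS⟩ := gl_even_good_three hq3 m
    exact sl_good_of_gl (Fintype.equivOfCardEq (by simp; ring)) S hS P
  · have hq1 : Fintype.card F % 4 = 1 := by
      have := Fintype.one_lt_card (α := F)
      omega
    obtain ⟨S, hS⟩ := gl_pow_two_good hq1 j (Fin (2 * 2 ^ j)) (by simp; ring)
    exact sl_good_of_gl (Equiv.refl _) S hS P

end double

end Cfsg.Agent.Lib.Helper1.SylSl
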