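import Mathlib
import Cfsg.Agent.Lib.Helper1.GWrB
import Cfsg.Agent.Lib.Helper1.SylSlF
import Cfsg.Agent.S4014

/-!
Sylow 2-subgroups of `GL_n(F)`, `|F|` odd: a 2-subgroup of Sylow order with derived length at most
`log₂ n + 1` (wreath products of a Singer-normaliser 2-group / of a cyclic group).
-/

namespace Cfsg.Agent.Lib.Helper1.GWr

open scoped commutatorElement
open Matrix Cfsg.Agent.Lib.Helper1.SpDL Cfsg.Agent.Lib.Helper1.SylSp

section gen
variable {G : Type*} [Group G]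

lemma abelian_dser (C : Subgroup G) (h : ∀ x ∈ C, ∀ y ∈ C, x * y = y * x) : dser C 1 = ⊥ := by
  rw [dser_succ, dser_zero, Subgroup.commutator_eq_bot_iff_le_centralizer]
  intro x hx
  rw [Subgroup.mem_centralizer_iff]
  intro y hy
  exact h y hy x hx

lemma dser_prodSub_bot (B T : Subgroup G) (hnorm : ∀ t ∈ T, ∀ b ∈ B, t * b * t⁻¹ ∈ B) (a b : ℕ)
    (hB : dser B a = ⊥) (hT : dser T b = ⊥) : dser (prodSub B T hnorm) (b + a) = ⊥ := by
  rw [dser_add, eq_bot_iff, ← hB]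
  apply dser_mono
  intro x hx
  obtain ⟨b', hb', t, ht, rfl⟩ :=
    dser_prod B T hnorm (prodSub B T hnorm) (fun x hx => hx) _ x hx
  rw [hT, Subgroup.mem_bot] at ht
  rw [ht, mul_one]
  exact hb'

lemma comm_central_left {a b c : G} (hc : ∀ g : G, c * g = g * c) : ⁅a * c, b⁆ = ⁅a, b⁆ := by
  rw [commutatorElement_def, commutatorElement_def, _root_.mul_inv_rev, mul_assoc a c b, hc b]
  group

lemma comm_central_right {a b c : G} (hc : ∀ g : G, c * g = g * c) : ⁅a, b * c⁆ = ⁅a, b⁆ := by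
  rw [commutatorElement_def, commutatorElement_def, _root_.mul_inv_rev, ← mul_assoc a b c,
    mul_assoc (a * b) c a⁻¹, hc a⁻¹]
  group

theorem central_ext (W : Subgroup G) (z : G) (hz : ∀ g : G, z * g = g * z) (hzz : z * z = 1)
    (hzW : z ∉ W) (k : ℕ) (hW : dser W (k + 1) = ⊥) :
    ∃ W' : Subgroup G, dser W' (k + 1) = ⊥ ∧ Nat.card W' = 2 * Nat.card W := by
  have hz1 : z ≠ 1 := fun h => hzW (h ▸ W.one_mem)
  obtain ⟨Z, hZ⟩ : ∃ Z : Subgroup G, Z = SylSl.pairSub z hzz := ⟨_, rfl⟩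
  have hZc : ∀ t ∈ Z, ∀ g : G, t * g = g * t := by
    intro t ht g
    rw [hZ] at ht
    rcases SylSl.mem_pairSub.1 ht with rfl | rfl
    · rw [one_mul, mul_one]
    · exact hz g
  have hnorm : ∀ t ∈ Z, ∀ b ∈ W, t * b * t⁻¹ ∈ W := by
    intro t ht b hb
    rw [hZc t ht b, mul_inv_cancel_right]; exact hb
  have hWZ : W ⊓ Z = ⊥ := by
    rw [eq_bot_iff]
    rintro x ⟨hx1, hx2⟩
    rw [hZ] at hx2
    rcases SylSl.mem_pairSub.1 hx2 with rfl | rfl
    · exact Subgroup.mem_bot.2 rfl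
    · exact absurd hx1 hzW
  refine ⟨prodSub W Z hnorm, ?_, ?_⟩
  · have h1 : dser (prodSub W Z hnorm) 1 ≤ dser W 1 := by
      rw [dser_succ, dser_zero, dser_succ, dser_zero, Subgroup.commutator_le]
      rintro _ ⟨w, hw, t, ht, rfl⟩ _ ⟨w', hw', t', ht', rfl⟩
      rw [comm_central_left (hZc t ht), comm_central_right (hZc t' ht')]
      exact Subgroup.commutator_mem_commutator hw hw'
    have h2 := dser_mono h1 k
    rw [← dser_add, ← dser_add, add_comm 1 k, hW] at h2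
    exact eq_bot_iff.2 h2
  · rw [prodSub_card W Z hnorm hWZ, hZ, SylSl.card_pairSub z hzz hz1, mul_comm]

end gen

section big2
variable {G Hb o : Type*} [Group G] [Group Hb]
  {β : (o → Hb) →* G} {τ : Equiv.Perm o →* G}
  (hrel : ∀ (σ : Equiv.Perm o) (f : o → Hb), τ σ * β f = β (fun i => f (σ.symm i)) * τ σ)

include hrel in
theorem wreath_sub' [Finite o] (hβ : Function.Injective β) (hτ : Function.Injective τ)
    (hinf : β.range ⊓ τ.range = ⊥) (C : Subgroup Hb) (T₀ : Subgroup (Equiv.Perm o)) (a b : ℕ)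
    (hC : dser C a = ⊥) (hT : dser T₀ b = ⊥) :
    ∃ W : Subgroup G, dser W (b + a) = ⊥ ∧
      Nat.card W = Nat.card C ^ Nat.card o * Nat.card T₀ ∧
      ∀ x ∈ W, ∃ (f : o → Hb) (σ : Equiv.Perm o), x = β f * τ σ := by
  obtain ⟨B, hB⟩ : ∃ B : Subgroup G, B = (Subgroup.pi Set.univ (fun _ : o => C)).map β :=
    ⟨_, rfl⟩
  obtain ⟨T, hT'⟩ : ∃ T : Subgroup G, T = T₀.map τ := ⟨_, rfl⟩
  have hnorm : ∀ t ∈ T, ∀ b ∈ B, t * b * t⁻¹ ∈ B := by
    rw [hB, hT']
    rintro _ ⟨σ, hσ, rfl⟩ _ ⟨f, hf, rfl⟩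
    refine ⟨fun i => f (σ.symm i), fun i _ => hf (σ.symm i) (Set.mem_univ _), ?_⟩
    rw [hrel, mul_inv_cancel_right]
  have hBT : B ⊓ T = ⊥ := by
    rw [eq_bot_iff, ← hinf, hB, hT']
    exact inf_le_inf (Subgroup.map_le_range _ _) (Subgroup.map_le_range _ _)
  refine ⟨prodSub B T hnorm, ?_, ?_, ?_⟩
  · apply dser_prodSub_bot
    · have h3 : dser (Subgroup.pi Set.univ (fun _ : o => C)) a = ⊥ := by
        rw [eq_bot_iff]
        refine (dser_pi _ a).trans ?_
        rw [hC, Subgroup.pi_bot]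
      rw [hB, dser_map, h3, Subgroup.map_bot]
    · rw [hT', dser_map, hT, Subgroup.map_bot]
  · rw [prodSub_card B T hnorm hBT, hB, hT', Subgroup.card_map_of_injective hβ,
      Subgroup.card_map_of_injective hτ, card_pi_const]
  · rintro _ ⟨b', hb', t, ht, rfl⟩
    rw [hB] at hb'
    rw [hT'] at ht
    obtain ⟨f, -, rfl⟩ := hb'
    obtain ⟨σ, -, rfl⟩ := ht
    exact ⟨f, σ, rfl⟩

end big2

theorem exists_wreath_data {F : Type*} [Field F] (e w n : ℕ) (he : 0 < e) (hew : e * w ≤ n) :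
    ∃ (β : (Fin w → GL (Fin e) F) →* GL (Fin n) F) (τ : Equiv.Perm (Fin w) →* GL (Fin n) F),
      (∀ (σ : Equiv.Perm (Fin w)) (f : Fin w → GL (Fin e) F),
        τ σ * β f = β (fun i => f (σ.symm i)) * τ σ) ∧
      Function.Injective β ∧ Function.Injective τ ∧ β.range ⊓ τ.range = ⊥ ∧
      (e * w < n → (2 : F) ≠ 0 → ∀ f σ, β f * τ σ ≠ -1) := by
  classical
  have hcardN : Fintype.card ((Fin e × Fin w) ⊕ Fin (n - e * w)) = Fintype.card (Fin n) := by
    simp only [Fintype.card_sum, Fintype.card_prod, Fintype.card_fin]; omega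
  obtain ⟨ε, -⟩ : ∃ ε : (Fin e × Fin w) ⊕ Fin (n - e * w) ≃ Fin n, ε = ε :=
    ⟨Fintype.equivOfCardEq hcardN, rfl⟩
  obtain ⟨φ, hφ⟩ : ∃ φ : GL ((Fin e × Fin w) ⊕ Fin (n - e * w)) F ≃* GL (Fin n) F,
      φ = Units.mapEquiv (Matrix.reindexAlgEquiv F F ε).toMulEquiv := ⟨_, rfl⟩
  have : Nonempty (Fin e) := ⟨⟨0, he⟩⟩
  refine ⟨φ.toMonoidHom.comp (wbeta (r := Fin (n - e * w))),
    φ.toMonoidHom.comp (wtau (F := F) (m := Fin e) (r := Fin (n - e * w))), ?_, ?_, ?_, ?_, ?_⟩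
  · intro σ f
    show φ (wtau σ) * φ (wbeta f) = φ (wbeta _) * φ (wtau σ)
    rw [← map_mul, ← map_mul, wrel]
  · exact φ.injective.comp wbeta_injective
  · exact φ.injective.comp wtau_injective
  · rw [eq_bot_iff]
    rintro x ⟨⟨f, rfl⟩, ⟨σ, hσ⟩⟩
    have h1 : (wtau σ : GL ((Fin e × Fin w) ⊕ Fin (n - e * w)) F) = wbeta f := φ.injective hσ
    have h2 : (wbeta f : GL ((Fin e × Fin w) ⊕ Fin (n - e * w)) F) ∈
        (wbeta : (Fin w → GL (Fin e) F) →* GL ((Fin e × Fin w) ⊕ Fin (n - e * w)) F).range ⊓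
        (wtau : Equiv.Perm (Fin w) →* GL ((Fin e × Fin w) ⊕ Fin (n - e * w)) F).range :=
      ⟨⟨f, rfl⟩, ⟨σ, h1⟩⟩
    rw [wrange_inf, Subgroup.mem_bot] at h2
    rw [Subgroup.mem_bot]
    show φ (wbeta f) = 1
    rw [h2, map_one]
  · intro hlt h2 f σ hneg
    have h1 : φ (wbeta f * wtau σ) = -1 := by
      rw [map_mul]; exact hneg
    have h3 : φ (-1) = -1 := by
      rw [hφ]
      apply Units.ext
      simp only [Units.coe_mapEquiv, Units.val_neg, Units.val_one]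
      show (Matrix.reindexAlgEquiv F F ε) (-1) = -1
      rw [map_neg, map_one]
    rw [← h3] at h1
    have h4 := φ.injective h1
    have h5 := congrArg Units.val h4
    rw [Units.val_mul, wbeta_coe, wtau_coe] at h5
    unfold bmat pfull at h5
    rw [Matrix.fromBlocks_multiply] at h5
    have h6 := congrFun (congrFun h5 (Sum.inr ⟨0, by omega⟩)) (Sum.inr ⟨0, by omega⟩)
    have h7 : (1 : F) = -1 := by simpa using h6
    apply h2
    linear_combination h7

section s1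

theorem exists_s1_aux {F K : Type*} [Field F] [Fintype F] [Field K] [Algebra F K] [Finite K]
    (hfr : Module.finrank F K = 2) :
    ∃ S₁ : Subgroup (GL (Fin 2) F), dser S₁ 2 = ⊥ ∧
      Nat.card S₁ = 2 ^ (padicValNat 2 (Fintype.card F ^ 2 - 1) + 1) := by
  classical
  have : Module.Finite F K := Module.Finite.of_finite
  have hcardK : Nat.card K = Fintype.card F ^ 2 := by
    rw [Module.natCard_eq_pow_finrank (K := F) (V := K), hfr, Nat.card_eq_fintype_card]
  obtain ⟨φ, hφdef⟩ : ∃ φ : K →ₐ[F] K, φ = FiniteField.frobeniusAlgHom F K := ⟨_, rfl⟩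
  have hφ : ∀ x, φ x = x ^ Fintype.card F := fun x => by rw [hφdef]; rfl
  have hφφ : ∀ x, φ (φ x) = x := by
    intro x
    have := Fintype.ofFinite K
    rw [hφ, hφ, ← pow_mul, ← sq, ← hcardK, Nat.card_eq_fintype_card]
    exact FiniteField.pow_card x
  have hφne : ∃ x : K, φ x ≠ x := by
    by_contra hall
    rw [not_exists] at hall
    have hall : ∀ x : K, φ x = x := fun x => not_not.1 (hall x)
    have h1 : FiniteField.frobeniusAlgHom F K = 1 := by
      rw [← hφdef]; exact AlgHom.ext hall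
    have h2 := FiniteField.orderOf_frobeniusAlgHom F K
    rw [h1, orderOf_one, hfr] at h2
    omega
  obtain ⟨Ψ, hΨdef⟩ : ∃ Ψ : Kˣ →* (Module.End F K)ˣ,
      Ψ = Units.map (MonoidHomClass.toMonoidHom (Algebra.lmul F K)) := ⟨_, rfl⟩
  have hΨapp : ∀ (x : Kˣ) (y : K),
      ((Ψ x : (Module.End F K)ˣ) : Module.End F K) y = (x : K) * y := by
    intro x y; rw [hΨdef]; rfl
  have hΨinj : Function.Injective Ψ := by
    intro x y h
    apply Units.ext
    have h1 := hΨapp x 1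
    rw [h, hΨapp y 1, mul_one, mul_one] at h1
    exact h1.symm
  have hmm : φ.toLinearMap * φ.toLinearMap = (1 : Module.End F K) :=
    LinearMap.ext (fun x => hφφ x)
  obtain ⟨gF, hgF⟩ : ∃ gF : (Module.End F K)ˣ, (gF : Module.End F K) = φ.toLinearMap :=
    ⟨⟨φ.toLinearMap, φ.toLinearMap, hmm, hmm⟩, rfl⟩
  have hgFapp : ∀ y, (gF : Module.End F K) y = φ y := by
    intro y; rw [hgF]; rfl
  have hgg : gF * gF = 1 := by
    apply Units.ext; rw [Units.val_mul, hgF]; exact hmm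
  have hrelF : ∀ x : Kˣ, gF * Ψ x = Ψ (x ^ Fintype.card F) * gF := by
    intro x
    apply Units.ext
    apply LinearMap.ext
    intro y
    rw [Units.val_mul, Units.val_mul, Module.End.mul_apply, Module.End.mul_apply, hgFapp,
      hΨapp, hΨapp, hgFapp, map_mul, hφ (x : K), Units.val_pow_eq_pow_val]
  have hgFnot : ∀ u : Kˣ, Ψ u ≠ gF := by
    intro u hu
    have h1 : ∀ y : K, (u : K) * y = φ y := by
      intro y
      rw [← hΨapp u y, hu, hgFapp]
    have h2 : (u : K) = 1 := by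
      have h3 := h1 1
      rw [mul_one, map_one] at h3; exact h3
    obtain ⟨x, hx⟩ := hφne
    apply hx
    rw [← h1 x, h2, one_mul]
  have hgF1 : gF ≠ 1 := by
    intro h
    exact hgFnot 1 (by rw [map_one, h])
  obtain ⟨S, -⟩ : ∃ S : Sylow 2 Kˣ, S = S := ⟨default, rfl⟩
  obtain ⟨B, hB⟩ : ∃ B : Subgroup (Module.End F K)ˣ, B = (S : Subgroup Kˣ).map Ψ := ⟨_, rfl⟩
  obtain ⟨T, hT⟩ : ∃ T : Subgroup (Module.End F K)ˣ, T = SylSl.pairSub gF hgg := ⟨_, rfl⟩
  have hnorm : ∀ t ∈ T, ∀ b ∈ B, t * b * t⁻¹ ∈ B := by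
    intro t ht b hb
    rw [hT] at ht
    rw [hB] at hb ⊢
    obtain ⟨x, hx, rfl⟩ := hb
    rcases SylSl.mem_pairSub.1 ht with rfl | rfl
    · rw [one_mul, inv_one, mul_one]; exact ⟨x, hx, rfl⟩
    · rw [hrelF, mul_inv_cancel_right]
      exact ⟨x ^ Fintype.card F, pow_mem hx _, rfl⟩
  have hBT : B ⊓ T = ⊥ := by
    rw [eq_bot_iff]
    rintro x ⟨hx1, hx2⟩
    rw [hT] at hx2
    rw [hB] at hx1
    rcases SylSl.mem_pairSub.1 hx2 with rfl | rfl
    · exact Subgroup.mem_bot.2 rfl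
    · obtain ⟨u, -, hu⟩ := hx1
      exact absurd hu (hgFnot u)
  have hBd : dser B 1 = ⊥ := by
    apply abelian_dser
    rw [hB]
    rintro _ ⟨x, -, rfl⟩ _ ⟨y, -, rfl⟩
    rw [← map_mul, ← map_mul, mul_comm]
  have hTd : dser T 1 = ⊥ := by
    apply abelian_dser
    rw [hT]
    intro x hx y hy
    rcases SylSl.mem_pairSub.1 hx with h1 | h1 <;>
      rcases SylSl.mem_pairSub.1 hy with h2 | h2 <;> rw [h1, h2] <;>
      first | rfl | rw [one_mul, mul_one] | rw [mul_one, one_mul]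
  have hWd := dser_prodSub_bot B T hnorm 1 1 hBd hTd
  have hWc : Nat.card (prodSub B T hnorm) =
      2 ^ (padicValNat 2 (Fintype.card F ^ 2 - 1) + 1) := by
    rw [prodSub_card B T hnorm hBT, hB, hT, Subgroup.card_map_of_injective hΨinj,
      Sylow.card_eq_multiplicity, Nat.factorization_def _ Nat.prime_two, Nat.card_units, hcardK,
      SylSl.card_pairSub gF hgg hgF1]
    exact (pow_succ 2 _).symm
  obtain ⟨b, -⟩ : ∃ b : Module.Basis (Fin 2) F K, b = b :=
    ⟨Module.finBasisOfFinrankEq F K hfr, rfl⟩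
  obtain ⟨θ, -⟩ : ∃ θ : (Module.End F K)ˣ ≃* GL (Fin 2) F, θ = θ :=
    ⟨Units.mapEquiv (LinearMap.toMatrixAlgEquiv b).toMulEquiv, rfl⟩
  refine ⟨(prodSub B T hnorm).map θ.toMonoidHom, ?_, ?_⟩
  · rw [dser_map, hWd, Subgroup.map_bot]
  · rw [Subgroup.card_map_of_injective θ.injective, hWc]

theorem exists_s1 {F : Type*} [Field F] [Fintype F] :
    ∃ S₁ : Subgroup (GL (Fin 2) F), dser S₁ 2 = ⊥ ∧
      Nat.card S₁ = 2 ^ (padicValNat 2 (Fintype.card F ^ 2 - 1) + 1) := by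
  classical
  obtain ⟨p', hchar⟩ := CharP.exists F
  have : Fact p'.Prime := ⟨CharP.char_is_prime F p'⟩
  exact exists_s1_aux (K := FiniteField.Extension F p' 2) (FiniteField.finrank_extension F p' 2)

end s1

theorem two_bound {F : Type*} [Field F] [Fintype F] (hodd : Odd (Fintype.card F)) (n : ℕ)
    (hn : 1 ≤ n) :
    ∃ W : Subgroup (GL (Fin n) F), dser W (Nat.log 2 n + 1) = ⊥ ∧
      Nat.card W = 2 ^ (Nat.card (GL (Fin n) F)).factorization 2 := by
  classical
  have h2F : (2 : F) ≠ 0 := by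
    apply Ring.two_ne_zero
    intro h
    rw [FiniteField.even_card_iff_char_two] at h
    rw [Nat.odd_iff] at hodd
    omega
  obtain ⟨q, hq⟩ : ∃ q, q = Fintype.card F := ⟨_, rfl⟩
  have hq1 : 1 < q := by rw [hq]; exact Fintype.one_lt_card
  have hoddq : Odd q := by rw [hq]; exact hodd
  have hfac : (Nat.card (GL (Fin n) F)).factorization 2 =
      ∑ k ∈ Finset.range n, padicValNat 2 (q ^ (k + 1) - 1) := by
    rw [Matrix.card_GL_field, Nat.factorization_def _ Nat.prime_two, ← hq,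
      SylSl.val_GL q hoddq hq1 n]
  rw [hfac]
  have hq4 : q % 4 = 1 ∨ q % 4 = 3 := by rw [Nat.odd_iff] at hoddq; omega
  rcases hq4 with hq4 | hq4
  · obtain ⟨C, hCab, hCcard⟩ := exists_singer 2 (F := F) 1 Nat.one_pos
    rw [pow_one, ← hq] at hCcard
    have hC1 : dser C 1 = ⊥ := abelian_dser C hCab
    obtain ⟨β, τ, hrel, hβ, hτ, hinf, -⟩ :=
      exists_wreath_data (F := F) 1 n n Nat.one_pos (by omega)
    obtain ⟨T₀, -⟩ : ∃ T₀ : Sylow 2 (Equiv.Perm (Fin n)), T₀ = T₀ := ⟨default, rfl⟩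
    have hT0 := (Cfsg.Agent.S4014.result 2 n hn T₀).1
    have hcardT : Nat.card T₀ = 2 ^ padicValNat 2 n.factorial := by
      rw [Sylow.card_eq_multiplicity, Nat.card_perm, Nat.card_eq_fintype_card, Fintype.card_fin,
        Nat.factorization_def _ Nat.prime_two]
    obtain ⟨W, hWd, hWc, -⟩ := wreath_sub' hrel hβ hτ hinf C
      (T₀ : Subgroup (Equiv.Perm (Fin n))) 1 (Nat.log 2 n) hC1 ((ds_eq_bot_iff _ _).1 hT0)
    refine ⟨W, hWd, ?_⟩
    rw [hWc, hCcard, hcardT, Nat.card_eq_fintype_card, Fintype.card_fin, ← pow_mul, ← pow_add,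
      SylSl.sum_val_one q hq4 hq1 n, mul_comm]
  · by_cases hn1 : n = 1
    · subst hn1
      obtain ⟨C, hCab, hCcard⟩ := exists_singer 2 (F := F) 1 Nat.one_pos
      rw [pow_one, ← hq] at hCcard
      refine ⟨C, ?_, ?_⟩
      · rw [Nat.log_one_right]
        exact abelian_dser C hCab
      · rw [hCcard]
        simp
    · have hn2 : 2 ≤ n := by omega
      obtain ⟨m, hm⟩ : ∃ m, m = n / 2 := ⟨_, rfl⟩
      have hm1 : 1 ≤ m := by omega
      have hlog : Nat.log 2 n + 1 = Nat.log 2 m + 2 := by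
        rw [hm, Nat.log_of_one_lt_of_le (by norm_num) hn2]
      obtain ⟨S₁, hS₁d, hS₁c⟩ := exists_s1 (F := F)
      rw [← hq] at hS₁c
      obtain ⟨β, τ, hrel, hβ, hτ, hinf, hneg⟩ :=
        exists_wreath_data (F := F) 2 m n (by norm_num) (by omega)
      obtain ⟨T₀, -⟩ : ∃ T₀ : Sylow 2 (Equiv.Perm (Fin m)), T₀ = T₀ := ⟨default, rfl⟩
      have hT0 := (Cfsg.Agent.S4014.result 2 m hm1 T₀).1
      have hcardT : Nat.card T₀ = 2 ^ padicValNat 2 m.factorial := by
        rw [Sylow.card_eq_multiplicity, Nat.card_perm, Nat.card_eq_fintype_card,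
          Fintype.card_fin, Nat.factorization_def _ Nat.prime_two]
      obtain ⟨W, hWd, hWc, hWel⟩ := wreath_sub' hrel hβ hτ hinf S₁
        (T₀ : Subgroup (Equiv.Perm (Fin m))) 2 (Nat.log 2 m) hS₁d ((ds_eq_bot_iff _ _).1 hT0)
      have hWc' : Nat.card W =
          2 ^ (m * (padicValNat 2 (q ^ 2 - 1) + 1) + padicValNat 2 m.factorial) := by
        rw [hWc, hS₁c, hcardT, Nat.card_eq_fintype_card, Fintype.card_fin, ← pow_mul, ← pow_add,
          mul_comm]
      have hsum := SylSl.sum_val q hq4 m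
      rcases Nat.even_or_odd' n with ⟨j, hj | hj⟩
      · have hmj : m = j := by omega
        subst hmj
        refine ⟨W, by rw [hlog]; exact hWd, ?_⟩
        rw [hWc', hj]
        congr 1
        rw [Finset.sum_range_succ, SylSl.val_odd q hq4 m] at hsum
        linarith
      · have hmj : m = j := by omega
        subst hmj
        have hzW : (-1 : GL (Fin n) F) ∉ W := by
          intro h
          obtain ⟨f, σ, hfσ⟩ := hWel _ h
          exact hneg (by omega) h2F f σ hfσ.symm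
        obtain ⟨W', hW'd, hW'c⟩ := central_ext W (-1) (fun g => by simp) (by simp) hzW
          (Nat.log 2 m + 1) hWd
        refine ⟨W', by rw [hlog]; exact hW'd, ?_⟩
        rw [hW'c, hWc', hj, hsum, ← pow_succ']
        congr 1
        ring

end Cfsg.Agent.Lib.Helper1.GWr
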