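import Mathlib
import Cfsg.Agent.S0001

set_option autoImplicit false
set_option linter.unusedSectionVars false
set_option linter.unusedVariables false

/-!
# Glauberman's lemma (Isaacs 13.8), via the Schur–Zassenhaus theorem
-/

namespace Cfsg.Agent.Lib.Helper1

open scoped Pointwise

/-- a conjugate of a complement of a normal Hall subgroup `A` lies in any subgroup `W` with
`W A` the whole group -/
theorem complement_conj_le {Γ : Type*} [Group Γ] [Finite Γ] (A : Subgroup Γ) [hAn : A.Normal]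
    (hA : (Nat.card A).Coprime A.index) (hsolv : Group.IsSolvable A ∨ Group.IsSolvable (Γ ⧸ A))
    (B : Subgroup Γ) (hB : Subgroup.IsComplement' A B) (W : Subgroup Γ) (hW : W ⊔ A = ⊤) :
    ∃ g : Γ, ∀ b ∈ B, g⁻¹ * b * g ∈ W := by
  haveI : (A.subgroupOf W).Normal := Subgroup.normal_subgroupOf
  have hidx : (A.subgroupOf W).index = A.index := by
    have h1 : A.relIndex (W ⊔ A) = A.relIndex W := Subgroup.relIndex_sup_right W A
    rw [hW, Subgroup.relIndex_top_right] at h1
    exact h1.symm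
  have hcard : Nat.card (A.subgroupOf W) ∣ Nat.card A :=
    Subgroup.card_dvd_of_injective ((W.subtype).subgroupComap A) (by
      intro x y hxy
      exact Subtype.ext (Subtype.ext (congrArg (fun t : A => (t : Γ)) hxy)))
  have hcop : (Nat.card (A.subgroupOf W)).Coprime (A.subgroupOf W).index := by
    rw [hidx]
    exact Nat.Coprime.coprime_dvd_left hcard hA
  obtain ⟨H₀, hH₀⟩ := Subgroup.exists_right_complement'_of_coprime hcop
  have hH₀card : Nat.card H₀ = A.index := by
    rw [← hidx]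
    exact hH₀.symm.index_eq_card.symm
  have hHcard : Nat.card (H₀.map W.subtype) = A.index := by
    rw [← hH₀card]
    exact (Nat.card_congr (H₀.equivMapOfInjective W.subtype W.subtype_injective).toEquiv).symm
  have hH : Subgroup.IsComplement' A (H₀.map W.subtype) := by
    apply Subgroup.isComplement'_of_coprime
    · rw [hHcard]
      exact Subgroup.card_mul_index A
    · rw [hHcard]
      exact hA
  obtain ⟨g, hg⟩ := Cfsg.Agent.S0001.result A hA hsolv (H₀.map W.subtype) B hH hB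
  refine ⟨g, fun b hb => ?_⟩
  rw [← hg] at hb
  obtain ⟨h, hh, rfl⟩ := (Subgroup.mem_smul_pointwise_iff_exists _ _ _).mp hb
  obtain ⟨w, hw, rfl⟩ := hh
  have h1 : g⁻¹ * (MulAut.conj g • (W.subtype w)) * g = w := by
    rw [MulAut.smul_def, MulAut.conj_apply]
    show g⁻¹ * (g * (w : Γ) * g⁻¹) * g = w
    group
  rw [h1]
  exact w.2

/-- Glauberman's lemma, in a form with a kernel: `S` normalizes `N ⊲ G`, coprime to `|G : N|`,
`G` transitive on an invariant set on which `N` acts trivially. -/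
theorem glauberman_lemma {X : Type*} [Group X] [Finite X] (G N S : Subgroup X) [hG : G.Normal]
    [hN : N.Normal] (hNG : N ≤ G) (hGS : G ⊔ S = ⊤) (hcop : (N.relIndex G).Coprime (Nat.card S))
    (hsolv : Group.IsSolvable S ∨ Group.IsSolvable (G.map (QuotientGroup.mk' N)))
    {Ω : Type*} [MulAction X Ω] (O : Set Ω) (hO : O.Nonempty)
    (hstab : ∀ x : X, ∀ ω ∈ O, x • ω ∈ O)
    (hNfix : ∀ n ∈ N, ∀ ω ∈ O, n • ω = ω)
    (htrans : ∀ ω ∈ O, ∀ ω' ∈ O, ∃ g ∈ G, g • ω = ω') :
    ∃ ω ∈ O, ∀ s ∈ S, s • ω = ω := by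
  classical
  obtain ⟨ω₀, hω₀⟩ := hO
  obtain ⟨π, hπ⟩ : ∃ π : X →* X ⧸ N, π = QuotientGroup.mk' N := ⟨_, rfl⟩
  have hπs : Function.Surjective π := by rw [hπ]; exact QuotientGroup.mk'_surjective N
  have hπker : π.ker = N := by rw [hπ]; exact QuotientGroup.ker_mk' N
  obtain ⟨A, hAdef⟩ : ∃ A : Subgroup (X ⧸ N), A = G.map π := ⟨_, rfl⟩
  obtain ⟨B, hBdef⟩ : ∃ B : Subgroup (X ⧸ N), B = S.map π := ⟨_, rfl⟩
  obtain ⟨W, hWdef⟩ : ∃ W : Subgroup (X ⧸ N), W = (MulAction.stabilizer X ω₀).map π :=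
    ⟨_, rfl⟩
  haveI hAn : A.Normal := by rw [hAdef]; exact hG.map π hπs
  have hdec : ∀ x : X, ∃ g ∈ G, ∃ s ∈ S, x = g * s := by
    intro x
    have hx : x ∈ ((G ⊔ S : Subgroup X) : Set X) := by rw [hGS]; trivial
    rw [Subgroup.normal_mul] at hx
    obtain ⟨g, hg, s, hs, rfl⟩ := Set.mem_mul.mp hx
    exact ⟨g, hg, s, hs, rfl⟩
  have hAcard : Nat.card A = N.relIndex G := by
    rw [hAdef]
    have h1 := Subgroup.relIndex_ker G π
    rw [hπker] at h1
    exact h1.symm
  have hAidx : A.index = G.index := by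
    rw [hAdef]
    exact Subgroup.index_map_eq G hπs (by rw [hπker]; exact hNG)
  have hGidx : G.index ∣ Nat.card S := by
    have h1 : G.relIndex (G ⊔ S) = G.relIndex S := Subgroup.relIndex_sup_left S G
    rw [hGS, Subgroup.relIndex_top_right] at h1
    rw [h1]
    exact Subgroup.relIndex_dvd_card G S
  have hBcard : Nat.card B ∣ Nat.card S := by
    rw [hBdef]
    exact Subgroup.card_map_dvd S π
  have hA : (Nat.card A).Coprime A.index := by
    rw [hAcard, hAidx]
    exact Nat.Coprime.coprime_dvd_right hGidx hcop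
  have hAB : (Nat.card A).Coprime (Nat.card B) := by
    rw [hAcard]
    exact Nat.Coprime.coprime_dvd_right hBcard hcop
  have hcompl : Subgroup.IsComplement' A B := by
    apply Subgroup.isComplement'_of_disjoint_and_mul_eq_univ
    · exact Subgroup.disjoint_of_coprime_natCard hAB
    · rw [Set.eq_univ_iff_forall]
      intro q
      obtain ⟨x, rfl⟩ := hπs q
      obtain ⟨g, hg, s, hs, rfl⟩ := hdec x
      rw [map_mul]
      exact Set.mul_mem_mul (by rw [hAdef]; exact Subgroup.mem_map_of_mem π hg)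
        (by rw [hBdef]; exact Subgroup.mem_map_of_mem π hs)
  have hsolv' : Group.IsSolvable A ∨ Group.IsSolvable ((X ⧸ N) ⧸ A) := by
    rcases hsolv with h | h
    · right
      haveI := h
      apply Group.isSolvable_of_surjective (f := ((QuotientGroup.mk' A).comp π).comp S.subtype)
      intro q
      obtain ⟨q', rfl⟩ := QuotientGroup.mk'_surjective A q
      obtain ⟨x, rfl⟩ := hπs q'
      obtain ⟨g, hg, s, hs, rfl⟩ := hdec x
      refine ⟨⟨s, hs⟩, ?_⟩
      simp only [MonoidHom.comp_apply, Subgroup.subtype_apply, map_mul]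
      have h1 : QuotientGroup.mk' A (π g) = 1 := by
        rw [QuotientGroup.mk'_apply, QuotientGroup.eq_one_iff, hAdef]
        exact Subgroup.mem_map_of_mem π hg
      rw [h1, one_mul]
    · left
      rw [hAdef, hπ]
      exact h
  have hW : W ⊔ A = ⊤ := by
    rw [eq_top_iff]
    intro q _
    obtain ⟨x, rfl⟩ := hπs q
    obtain ⟨g, hg, hgx⟩ := htrans ω₀ hω₀ (x • ω₀) (hstab x ω₀ hω₀)
    have h1 : g⁻¹ * x ∈ MulAction.stabilizer X ω₀ := by
      rw [MulAction.mem_stabilizer_iff, mul_smul, ← hgx, inv_smul_smul]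
    have h2 : π x = π g * π (g⁻¹ * x) := by
      rw [← map_mul]
      congr 1
      group
    rw [h2]
    exact Subgroup.mul_mem _
      (Subgroup.mem_sup_right (by rw [hAdef]; exact Subgroup.mem_map_of_mem π hg))
      (Subgroup.mem_sup_left (by rw [hWdef]; exact Subgroup.mem_map_of_mem π h1))
  obtain ⟨q, hq⟩ := complement_conj_le A hA hsolv' B hcompl W hW
  obtain ⟨g, rfl⟩ := hπs q
  refine ⟨g • ω₀, hstab g ω₀ hω₀, ?_⟩
  intro s hs
  have h1 := hq (π s) (by rw [hBdef]; exact Subgroup.mem_map_of_mem π hs)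
  rw [← map_inv, ← map_mul, ← map_mul, hWdef] at h1
  obtain ⟨w, hw, hwe⟩ := h1
  have h2 : w⁻¹ * (g⁻¹ * s * g) ∈ N := by
    rw [← hπker, MonoidHom.mem_ker, map_mul, map_inv, hwe, inv_mul_cancel]
  have h3 : (g⁻¹ * s * g) • ω₀ = ω₀ := by
    have h4 : g⁻¹ * s * g = w * (w⁻¹ * (g⁻¹ * s * g)) := by group
    rw [h4, mul_smul, hNfix _ h2 ω₀ hω₀]
    exact hw
  calc s • g • ω₀ = g • (g⁻¹ * s * g) • ω₀ := by
        rw [← mul_smul, ← mul_smul]
        congr 1
        group
    _ = g • ω₀ := by rw [h3]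

end Cfsg.Agent.Lib.Helper1
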