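import Mathlib
import Cfsg.Agent.Lib.Helper10.Glaub22
import Cfsg.Agent.Lib.Helper10.Glaub13
import Cfsg.Agent.Lib.Helper1.CharCoset
import Cfsg.Agent.Lib.Helper1.CharPElem
import Cfsg.Agent.Lib.Helper6.Fong
import Cfsg.Agent.Lib.Helper6.ClassSum

set_option autoImplicit false
set_option linter.unusedSectionVars false
set_option linter.unusedVariables false
set_option linter.style.haveILetI false

/-!
# Groups with a normal `p`-complement and exactly one `p`-singular irreducible character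
-/

namespace Cfsg.Agent.Lib.Helper1

open Cfsg
open scoped ComplexConjugate

universe u

section onesing

variable {G : Type u} [Group G] [Finite G]

/-- the quotient by the normal `p`-complement is abelian -/
theorem quot_comm_of_unique_sing (p : ℕ) [hp : Fact p.Prime] (N : Subgroup G) [hNn : N.Normal]
    (P : Sylow p G) (hNP : N ⊔ (P : Subgroup G) = ⊤)
    (hcop : (Nat.card N).Coprime (Nat.card (P : Subgroup G)))
    (hidx : ∃ k : ℕ, N.index = p ^ k) (hNbot : N ≠ ⊥)
    (hone : ∀ χ ψ : Cfsg.IrrCharacter G, p ∣ Cfsg.charDegree (χ : G → ℂ) →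
      p ∣ Cfsg.charDegree (ψ : G → ℂ) → χ = ψ) (a b : G ⧸ N) : a * b = b * a := by
  classical
  haveI := Fintype.ofFinite G
  apply abelian_of_all_linear
  intro β
  by_contra hβ1
  obtain ⟨d, hd, hdvd, hdpos⟩ := IsIrrCharacter.degree_dvd_card β.2
  obtain ⟨k, hk⟩ := hidx
  have hcardQ : Nat.card (G ⧸ N) = p ^ k := by rw [← hk]; rfl
  have hpd : p ∣ d := by
    rw [hcardQ] at hdvd
    obtain ⟨j, hj, rfl⟩ := (Nat.dvd_prime_pow hp.out).mp hdvd
    cases j with
    | zero => exfalso; apply hβ1; rw [hd]; simp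
    | succ j => exact dvd_pow_self p (Nat.succ_ne_zero j)
  have hd0 : (d : ℂ) ≠ 0 := by exact_mod_cast hdpos.ne'
  have hχ0 : Cfsg.IsIrrCharacter G (fun g : G => (β : G ⧸ N → ℂ) (g : G ⧸ N)) :=
    IsIrrCharacter.inflate N β.2
  have hχ0one : (fun g : G => (β : G ⧸ N → ℂ) (g : G ⧸ N)) 1 = (d : ℂ) := by
    show (β : G ⧸ N → ℂ) ((1 : G) : G ⧸ N) = d
    rw [QuotientGroup.mk_one]; exact hd
  have hχ0deg : Cfsg.charDegree (fun g : G => (β : G ⧸ N → ℂ) (g : G ⧸ N)) = d :=
    charDegree_eq hχ0one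
  have hχ0N : ∀ n : N, (β : G ⧸ N → ℂ) ((n : G) : G ⧸ N) = (d : ℂ) := by
    intro n
    rw [(QuotientGroup.eq_one_iff (n : G)).mpr n.2]; exact hd
  -- a nontrivial irreducible character of N
  have hNne : ∃ n : N, n ≠ 1 := by
    by_contra hcon
    push Not at hcon
    apply hNbot
    rw [eq_bot_iff]
    intro x hx
    have := hcon ⟨x, hx⟩
    exact Subgroup.mem_bot.mpr (congrArg Subtype.val this)
  haveI : Fintype N := Fintype.ofFinite _
  obtain ⟨θ, hθne⟩ := Cfsg.Agent.Lib.Helper6.exists_irr_ne_one hNne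
  have hθ1 : Cfsg.classInner (fun _ : N => (1 : ℂ)) (θ : N → ℂ) = 0 :=
    classInner_irr_ne isIrrCharacter_one θ.2 (fun h => hθne h.symm)
  obtain ⟨χ, hχ, hχθ⟩ := exists_irr_above N θ.2 (X := G)
  obtain ⟨dχ, hdχ, hdχdvd, hdχpos⟩ := IsIrrCharacter.degree_dvd_card hχ
  have hχdeg : Cfsg.charDegree χ = dχ := charDegree_eq hdχ
  have hconst : ∀ (c : ℂ), Cfsg.classInner (fun _ : N => c) (θ : N → ℂ) = 0 := by
    intro c
    have h1 : Cfsg.classInner (fun _ : N => c) (θ : N → ℂ)
        = c * Cfsg.classInner (fun _ : N => (1 : ℂ)) (θ : N → ℂ) := by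
      unfold Cfsg.classInner
      rw [Finset.mul_sum, Finset.mul_sum, Finset.mul_sum]
      apply Finset.sum_congr rfl
      intro n _
      ring
    rw [h1, hθ1, mul_zero]
  have hnp : ¬ p ∣ dχ := by
    intro hp'
    have heq := hone ⟨χ, hχ⟩ ⟨_, hχ0⟩ (by rw [hχdeg]; exact hp') (by rw [hχ0deg]; exact hpd)
    have heq' : χ = fun g : G => (β : G ⧸ N → ℂ) (g : G ⧸ N) := congrArg Subtype.val heq
    apply hχθ
    have h2 : (fun k : N => χ k) = fun _ : N => (d : ℂ) := by
      funext n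
      rw [heq']
      exact hχ0N n
    rw [h2]
    exact hconst _
  obtain ⟨j, hj⟩ := (P.2 : IsPGroup p (P : Subgroup G)).exists_card_eq
  have hdc : dχ.Coprime (Nat.card (P : Subgroup G)) := by
    rw [hj]
    apply Nat.Coprime.pow_right
    exact ((Nat.Prime.coprime_iff_not_dvd hp.out).mpr hnp).symm
  have hχN := Cfsg.Agent.Lib.Helper10.Glaub.restrict_irr_of_coprime N (P : Subgroup G) hNP hcop hχ
    dχ hdχ hdc
  have hbij := gallagher_bij N hχ hχN
  have hmem := hbij.1 (inflate_mem_source N β.2)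
  obtain ⟨hirr, -⟩ := hmem
  have hprod1 : ((fun g : G => (β : G ⧸ N → ℂ) (g : G ⧸ N)) * χ) 1 = ((d * dχ : ℕ) : ℂ) := by
    show (β : G ⧸ N → ℂ) ((1 : G) : G ⧸ N) * χ 1 = _
    rw [QuotientGroup.mk_one, hd, hdχ, Nat.cast_mul]
  have hproddeg := charDegree_eq hprod1
  have heq := hone ⟨_, hirr⟩ ⟨_, hχ0⟩ (by rw [hproddeg]; exact Dvd.dvd.mul_right hpd _)
    (by rw [hχ0deg]; exact hpd)
  have heq' : (fun g : G => (β : G ⧸ N → ℂ) (g : G ⧸ N)) * χ
      = fun g : G => (β : G ⧸ N → ℂ) (g : G ⧸ N) := congrArg Subtype.val heq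
  apply hχθ
  have h2 : (fun k : N => χ k) = fun _ : N => (1 : ℂ) := by
    funext n
    have h3 := congrFun heq' (n : G)
    rw [Pi.mul_apply] at h3
    simp only [hχ0N n] at h3
    have h4 : (d : ℂ) * χ n = (d : ℂ) * 1 := by rw [h3, mul_one]
    exact mul_left_cancel₀ hd0 h4
  rw [h2]
  exact hθ1

/-- the classes of size prime to `p`, for abelian `P` -/
theorem card_pprime_classes (p : ℕ) [hp : Fact p.Prime] (N : Subgroup G) [hNn : N.Normal]
    (P : Sylow p G) (hNP : N ⊔ (P : Subgroup G) = ⊤)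
    (hcop : (Nat.card N).Coprime (Nat.card (P : Subgroup G))) (hpN : ¬ p ∣ Nat.card N)
    (hab : ∀ a ∈ (P : Subgroup G), ∀ b ∈ (P : Subgroup G), a * b = b * a)
    (D : Subgroup G) (hD : D = N ⊓ Subgroup.centralizer ((P : Subgroup G) : Set G)) :
    Nat.card {C : ConjClasses G // ¬ p ∣ Nat.card C.carrier}
      = Nat.card (ConjClasses D) * Nat.card (P : Subgroup G) := by
  classical
  rw [← Nat.card_prod]
  symm
  have hDN : D ≤ N := by rw [hD]; exact inf_le_left
  have hDc : ∀ d ∈ D, ∀ y ∈ (P : Subgroup G), y * d = d * y := by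
    intro d hd y hy
    rw [hD] at hd
    exact (Subgroup.mem_centralizer_iff.mp hd.2) y hy
  have hdisj : N ⊓ (P : Subgroup G) = ⊥ := Subgroup.inf_eq_bot_of_coprime hcop
  have hcardcl : ∀ g : G, Nat.card (ConjClasses.mk g).carrier
      = (Subgroup.centralizer ({g} : Set G)).index := by
    intro g
    rw [← Cfsg.Agent.Lib.Helper6.card_conj_eq_index g]
    apply Nat.card_congr
    apply Equiv.subtypeEquivRight
    intro x
    rw [ConjClasses.mem_carrier_iff_mk_eq, ConjClasses.mk_eq_mk_iff_isConj]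
  have hsize : ∀ (d : D) (y : (P : Subgroup G)),
      ¬ p ∣ Nat.card (ConjClasses.mk ((d : G) * (y : G))).carrier := by
    intro d y
    rw [hcardcl]
    have hle : (P : Subgroup G) ≤ Subgroup.centralizer ({(d : G) * (y : G)} : Set G) := by
      intro z hz
      rw [Subgroup.mem_centralizer_iff]
      intro x hx
      rw [Set.mem_singleton_iff] at hx
      subst hx
      have e1 := hab y y.2 z hz
      have e2 := hDc d d.2 z hz
      calc (d : G) * y * z = d * (y * z) := by group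
        _ = d * (z * y) := by rw [e1]
        _ = d * z * y := by group
        _ = z * d * y := by rw [e2]
        _ = z * (d * y) := by group
    intro hdvd
    exact P.not_dvd_index (dvd_trans hdvd (Subgroup.index_dvd_of_le hle))
  let Φ0 : ConjClasses D × (P : Subgroup G) → ConjClasses G :=
    fun x => Quotient.liftOn x.1 (fun d : D => ConjClasses.mk ((d : G) * (x.2 : G))) (by
      intro d d' hdd'
      have hdd'' : IsConj d d' := hdd'
      obtain ⟨c, hc⟩ := isConj_iff.mp hdd''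
      show ConjClasses.mk ((d : G) * (x.2 : G)) = ConjClasses.mk ((d' : G) * (x.2 : G))
      rw [ConjClasses.mk_eq_mk_iff_isConj, isConj_iff]
      refine ⟨(c : G), ?_⟩
      have hc' : (c : G) * d * (c : G)⁻¹ = d' := by
        have := congrArg Subtype.val hc
        simpa using this
      have hcy : (x.2 : G) * (c : G)⁻¹ = (c : G)⁻¹ * x.2 := hDc _ (D.inv_mem c.2) _ x.2.2
      calc (c : G) * ((d : G) * x.2) * (c : G)⁻¹ = c * d * (x.2 * (c : G)⁻¹) := by group
        _ = c * d * ((c : G)⁻¹ * x.2) := by rw [hcy]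
        _ = (c * d * (c : G)⁻¹) * x.2 := by group
        _ = d' * x.2 := by rw [hc'])
  have hΦ0 : ∀ x, ¬ p ∣ Nat.card (Φ0 x).carrier := by
    rintro ⟨c, y⟩
    induction c using Quotient.inductionOn with
    | _ d => exact hsize d y
  have hpw : ∀ t ∈ (P : Subgroup G), ∃ k : ℕ, ∀ h ∈ N, t ^ p ^ k * h * (t ^ p ^ k)⁻¹ = h := by
    intro t ht
    obtain ⟨k, hk⟩ := (P.2 : IsPGroup p (P : Subgroup G)) ⟨t, ht⟩
    refine ⟨k, fun h _ => ?_⟩
    have : t ^ p ^ k = 1 := by
      have := congrArg Subtype.val hk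
      simpa using this
    rw [this]; group
  apply Nat.card_congr
  refine Equiv.ofBijective (fun x => ⟨Φ0 x, hΦ0 x⟩) ⟨?_, ?_⟩
  · rintro ⟨c, y⟩ ⟨c', y'⟩ h
    induction c using Quotient.inductionOn with
    | _ d =>
    induction c' using Quotient.inductionOn with
    | _ d' =>
    have h1 : ConjClasses.mk ((d : G) * (y : G)) = ConjClasses.mk ((d' : G) * (y' : G)) :=
      congrArg Subtype.val h
    rw [ConjClasses.mk_eq_mk_iff_isConj, isConj_iff] at h1
    obtain ⟨g, hg⟩ := h1
    have hgmem : g ∈ N ⊔ (P : Subgroup G) := by rw [hNP]; exact Subgroup.mem_top g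
    obtain ⟨n, hn, z, hz, rfl⟩ := Subgroup.mem_sup_of_normal_left.1 hgmem
    have e1 : z * ((d : G) * y) * z⁻¹ = d * y := by
      have a1 := hDc d d.2 z hz
      have a2 := hab z hz y y.2
      calc z * ((d : G) * y) * z⁻¹ = (z * d) * y * z⁻¹ := by group
        _ = d * (z * y) * z⁻¹ := by rw [a1]; group
        _ = d * (y * z) * z⁻¹ := by rw [a2]
        _ = d * y := by group
    have h2 : n * ((d : G) * y) * n⁻¹ = d' * y' := by
      rw [← hg]
      calc n * ((d : G) * y) * n⁻¹ = n * (z * ((d : G) * y) * z⁻¹) * n⁻¹ := by rw [e1]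
        _ = n * z * ((d : G) * y) * (n * z)⁻¹ := by group
    have h3 : (y' : G) * (y : G)⁻¹ = (d' : G)⁻¹ * n * d * (y * n⁻¹ * (y : G)⁻¹) := by
      have : (y' : G) = (d' : G)⁻¹ * (n * ((d : G) * y) * n⁻¹) := by rw [h2]; group
      rw [this]; group
    have h4 : (y' : G) * (y : G)⁻¹ ∈ N := by
      rw [h3]
      exact N.mul_mem (N.mul_mem (N.mul_mem (N.inv_mem (hDN d'.2)) hn) (hDN d.2))
        (hNn.conj_mem _ (N.inv_mem hn) _)
    have h5 : (y' : G) * (y : G)⁻¹ ∈ (P : Subgroup G) := mul_mem y'.2 (inv_mem y.2)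
    have h6 : (y' : G) * (y : G)⁻¹ = 1 := by
      have : (y' : G) * (y : G)⁻¹ ∈ N ⊓ (P : Subgroup G) := ⟨h4, h5⟩
      rw [hdisj] at this
      exact Subgroup.mem_bot.mp this
    have hyy : (y' : G) = y := by rw [mul_inv_eq_one] at h6; exact h6
    obtain ⟨m, hm1, hm0⟩ := Nat.chineseRemainder hcop 1 0
    have hpowN : ∀ x ∈ N, x ^ m = x := by
      intro x hx
      have ho : orderOf x ∣ Nat.card N := by
        have := orderOf_dvd_natCard (⟨x, hx⟩ : N)
        rwa [Subgroup.orderOf_mk] at this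
      have := (pow_eq_pow_iff_modEq (x := x)).mpr (hm1.of_dvd ho)
      rw [this, pow_one]
    have hpowP : ∀ x ∈ (P : Subgroup G), x ^ m = 1 := by
      intro x hx
      have ho : orderOf x ∣ Nat.card (P : Subgroup G) := by
        have := orderOf_dvd_natCard (⟨x, hx⟩ : (P : Subgroup G))
        rwa [Subgroup.orderOf_mk] at this
      have := (pow_eq_pow_iff_modEq (x := x)).mpr (hm0.of_dvd ho)
      rw [this, pow_zero]
    have hc' : Commute (d' : G) (y' : G) := (hDc d' d'.2 y' y'.2).symm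
    have hc : Commute (d : G) (y : G) := (hDc d d.2 y y.2).symm
    have e2 : ((d' : G) * y') ^ m = d' := by
      rw [hc'.mul_pow, hpowN _ (hDN d'.2), hpowP _ y'.2, mul_one]
    have e3 : (n * ((d : G) * y) * n⁻¹) ^ m = n * d * n⁻¹ := by
      rw [conj_pow, hc.mul_pow, hpowN _ (hDN d.2), hpowP _ y.2, mul_one]
    rw [h2, e2] at e3
    have hconjN : IsConj (⟨d, hDN d.2⟩ : N) ⟨d', hDN d'.2⟩ := by
      rw [isConj_iff]
      refine ⟨⟨n, hn⟩, ?_⟩
      apply Subtype.ext
      show n * (d : G) * n⁻¹ = d'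
      exact e3.symm
    have hconjD := Cfsg.Agent.Lib.Helper10.Glaub.conj_in_D (P : Subgroup G) N D p hp.out hDN hD
      (fun s _ h hh => hNn.conj_mem h hh s) hpN hpw d d' hconjN
    apply Prod.ext
    · show ConjClasses.mk d = ConjClasses.mk d'
      exact ConjClasses.mk_eq_mk_iff_isConj.mpr hconjD
    · exact Subtype.ext hyy.symm
  · rintro ⟨C, hC⟩
    letI act : MulAction (P : Subgroup G) C.carrier :=
      { smul := fun y x => ⟨(y : G) * x * (y : G)⁻¹, by
          have hx : ConjClasses.mk (x : G) = C := ConjClasses.mem_carrier_iff_mk_eq.mp x.2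
          show (y : G) * x * (y : G)⁻¹ ∈ C.carrier
          rw [ConjClasses.mem_carrier_iff_mk_eq]
          exact (ConjClasses.mk_eq_mk_iff_isConj.mpr
            (isConj_iff.mpr ⟨(y : G)⁻¹, by group⟩)).trans hx⟩
        one_smul := by
          rintro ⟨x, hx⟩
          apply Subtype.ext
          show ((1 : (P : Subgroup G)) : G) * x * ((1 : (P : Subgroup G)) : G)⁻¹ = x
          simp
        mul_smul := by
          rintro a b ⟨x, hx⟩
          apply Subtype.ext
          show ((a * b : (P : Subgroup G)) : G) * x * ((a * b : (P : Subgroup G)) : G)⁻¹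
            = (a : G) * ((b : G) * x * (b : G)⁻¹) * (a : G)⁻¹
          rw [Subgroup.coe_mul]; group }
    obtain ⟨⟨g, hg⟩, hfix⟩ :=
      IsPGroup.nonempty_fixed_point_of_prime_not_dvd_card (P.2 : IsPGroup p (P : Subgroup G))
        C.carrier hC
    have hfix' : ∀ z ∈ (P : Subgroup G), z * g * z⁻¹ = g := by
      intro z hz
      have := hfix ⟨z, hz⟩
      exact congrArg Subtype.val this
    have hgmem : g ∈ N ⊔ (P : Subgroup G) := by rw [hNP]; exact Subgroup.mem_top g
    obtain ⟨n, hn, y₀, hy₀, rfl⟩ := Subgroup.mem_sup_of_normal_left.1 hgmem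
    have hnc : n ∈ Subgroup.centralizer ((P : Subgroup G) : Set G) := by
      rw [Subgroup.mem_centralizer_iff]
      intro z hz
      have e := hfix' z hz
      have hcz : y₀ * z⁻¹ = z⁻¹ * y₀ := hab y₀ hy₀ z⁻¹ (inv_mem hz)
      have e' : z * n * z⁻¹ * y₀ = n * y₀ := by
        calc z * n * z⁻¹ * y₀ = z * n * (z⁻¹ * y₀) := by group
          _ = z * n * (y₀ * z⁻¹) := by rw [hcz]
          _ = z * (n * y₀) * z⁻¹ := by group
          _ = n * y₀ := e
      have e'' : z * n * z⁻¹ = n := mul_right_cancel e'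
      calc z * n = z * n * z⁻¹ * z := by group
        _ = n * z := by rw [e'']
    have hnD : n ∈ D := by rw [hD]; exact ⟨hn, hnc⟩
    refine ⟨(ConjClasses.mk ⟨n, hnD⟩, ⟨y₀, hy₀⟩), ?_⟩
    apply Subtype.ext
    show ConjClasses.mk (n * y₀) = C
    exact ConjClasses.mem_carrier_iff_mk_eq.mp hg

theorem card_hom_units_of_comm {A : Type u} [Group A] [Finite A]
    (hcomm : ∀ a b : A, a * b = b * a) : Nat.card (A →* ℂˣ) = Nat.card A := by
  letI : CommGroup A := { (inferInstance : Group A) with mul_comm := hcomm }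
  exact CommGroup.card_monoidHom_of_hasEnoughRootsOfUnity A ℂ

/-- a normal `p`-complement and exactly one `p`-singular irreducible character, in a
non-nilpotent group: exactly one class of size divisible by `p` -/
theorem unique_sing_class (p : ℕ) [hp : Fact p.Prime] (hnil : ¬ Group.IsNilpotent G)
    (N : Subgroup G) [hNn : N.Normal] (hN : (Nat.card N).Coprime p)
    (hidx : ∃ k : ℕ, N.index = p ^ k)
    (hone : Nat.card {χ : Cfsg.IrrCharacter G // p ∣ Cfsg.charDegree (χ : G → ℂ)} = 1) :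
    Nat.card {C : ConjClasses G // p ∣ Nat.card C.carrier} = 1 := by
  classical
  haveI := Fintype.ofFinite G
  haveI : Fintype (Cfsg.IrrCharacter G) := irrFintype
  obtain ⟨P⟩ : Nonempty (Sylow p G) := inferInstance
  obtain ⟨k, hk⟩ := hidx
  have hpN : ¬ p ∣ Nat.card N := (Nat.Prime.coprime_iff_not_dvd hp.out).mp hN.symm
  have hcardG : Nat.card G = Nat.card N * p ^ k := by rw [← hk, Subgroup.card_mul_index]
  have hcardP : Nat.card (P : Subgroup G) = p ^ k := by
    rw [Sylow.card_eq_multiplicity, hcardG,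
      Nat.factorization_mul Nat.card_pos.ne' (pow_ne_zero _ hp.out.ne_zero),
      Nat.factorization_pow]
    have e1 : (Nat.card N).factorization p = 0 := Nat.factorization_eq_zero_of_not_dvd hpN
    have e2 : p.factorization p = 1 := hp.out.factorization_self
    simp only [Finsupp.coe_add, Pi.add_apply, Finsupp.coe_smul, Pi.smul_apply, e1, e2,
      smul_eq_mul, mul_one, zero_add]
  have hcop : (Nat.card N).Coprime (Nat.card (P : Subgroup G)) := by
    rw [hcardP]; exact Nat.Coprime.pow_right k hN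
  have hNP : N ⊔ (P : Subgroup G) = ⊤ :=
    (Subgroup.isComplement'_of_coprime (by rw [hcardP, hcardG]) hcop).sup_eq_top
  have hdisj : N ⊓ (P : Subgroup G) = ⊥ := Subgroup.inf_eq_bot_of_coprime hcop
  obtain ⟨hsub, ⟨χ₀⟩⟩ := Nat.card_eq_one_iff_unique.mp hone
  have hone' : ∀ χ ψ : Cfsg.IrrCharacter G, p ∣ Cfsg.charDegree (χ : G → ℂ) →
      p ∣ Cfsg.charDegree (ψ : G → ℂ) → χ = ψ := by
    intro χ ψ h1 h2
    have := hsub.elim ⟨χ, h1⟩ ⟨ψ, h2⟩
    exact congrArg Subtype.val this
  have hk0 : k ≠ 0 := by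
    rintro rfl
    obtain ⟨d, hd, hdvd, hdpos⟩ := IsIrrCharacter.degree_dvd_card χ₀.1.2
    have h1 := χ₀.2
    rw [charDegree_eq hd] at h1
    apply hpN
    have h2 := dvd_trans h1 hdvd
    rwa [hcardG, pow_zero, mul_one] at h2
  have hNbot : N ≠ ⊥ := by
    rintro rfl
    apply hnil
    have hG : IsPGroup p G := IsPGroup.of_card (n := k) (by rw [hcardG]; simp)
    exact hG.isNilpotent
  have hquot := quot_comm_of_unique_sing p N P hNP hcop ⟨k, hk⟩ hNbot hone'
  have hab : ∀ a ∈ (P : Subgroup G), ∀ b ∈ (P : Subgroup G), a * b = b * a := by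
    intro a ha b hb
    have h1 : a * b * a⁻¹ * b⁻¹ ∈ N := by
      rw [← QuotientGroup.eq_one_iff]
      simp only [QuotientGroup.mk_mul, QuotientGroup.mk_inv]
      rw [hquot (a : G ⧸ N) (b : G ⧸ N)]
      group
    have h2 : a * b * a⁻¹ * b⁻¹ ∈ (P : Subgroup G) :=
      mul_mem (mul_mem (mul_mem ha hb) (inv_mem ha)) (inv_mem hb)
    have h3 : a * b * a⁻¹ * b⁻¹ ∈ N ⊓ (P : Subgroup G) := ⟨h1, h2⟩
    rw [hdisj] at h3
    have h4 := Subgroup.mem_bot.mp h3
    calc a * b = (a * b * a⁻¹ * b⁻¹) * (b * a) := by group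
      _ = b * a := by rw [h4, one_mul]
  -- the character count
  obtain ⟨aa, haa⟩ : ∃ aa : ℕ, aa = Nat.card {θ : Cfsg.IrrCharacter N // ∀ (g : G) (n : N),
        (θ : N → ℂ) ⟨g * n * g⁻¹, hNn.conj_mem (n : G) n.2 g⟩ = (θ : N → ℂ) n} := ⟨_, rfl⟩
  have hc1 := Cfsg.Agent.Lib.Helper10.Glaub.card_coprime_degree N (P : Subgroup G) hNP hcop
  rw [Cfsg.Agent.Lib.Helper10.Glaub.card_lin N (P : Subgroup G) hNP hcop,
    card_hom_units_of_comm (fun a b => Subtype.ext (hab a a.2 b b.2)), ← haa] at hc1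
  have hc2 : Nat.card {χ : Cfsg.IrrCharacter G // ¬ p ∣ Cfsg.charDegree (χ : G → ℂ)}
      = aa * Nat.card (P : Subgroup G) := by
    rw [← hc1]
    apply Nat.card_congr
    apply Equiv.subtypeEquivRight
    intro χ
    rw [hcardP]
    constructor
    · intro h
      exact Nat.Coprime.pow_right k ((Nat.Prime.coprime_iff_not_dvd hp.out).mpr h).symm
    · intro h hpd
      have h1 : Nat.Coprime p (p ^ k) := Nat.Coprime.coprime_dvd_left hpd h
      have h2 : Nat.Coprime p p := Nat.Coprime.coprime_dvd_right (dvd_pow_self p hk0) h1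
      rw [Nat.coprime_self] at h2
      exact hp.out.ne_one h2
  have hc3 : Nat.card (Cfsg.IrrCharacter G) = 1 + aa * Nat.card (P : Subgroup G) := by
    rw [← hone, ← hc2, ← Nat.card_sum]
    exact Nat.card_congr
      (Equiv.sumCompl (fun χ : Cfsg.IrrCharacter G => p ∣ Cfsg.charDegree (χ : G → ℂ))).symm
  -- the class count
  obtain ⟨D, hD⟩ : ∃ D : Subgroup G,
      D = N ⊓ Subgroup.centralizer ((P : Subgroup G) : Set G) := ⟨_, rfl⟩
  have hd1 := card_pprime_classes p N P hNP hcop hpN hab D hD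
  haveI : Group.IsNilpotent (P : Subgroup G) := (P.2 : IsPGroup p (P : Subgroup G)).isNilpotent
  have hd2 := Cfsg.Agent.Lib.Helper10.Glaub.card_irr_inv_fix (P : Subgroup G) inferInstance
    (Nat.card N) N D rfl (fun s _ h hh => hNn.conj_mem h hh s) hcop hD
  have hd3 : Nat.card {χ : Cfsg.IrrCharacter N //
      Cfsg.Agent.Lib.Helper10.Glaub.SInv (P : Subgroup G) N (χ : N → ℂ)} = aa := by
    rw [haa]
    apply Nat.card_congr
    apply Equiv.subtypeEquivRight
    intro θ
    constructor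
    · intro h g n
      have hgmem : g ∈ N ⊔ (P : Subgroup G) := by rw [hNP]; exact Subgroup.mem_top g
      obtain ⟨n₀, hn₀, y, hy, rfl⟩ := Subgroup.mem_sup_of_normal_left.1 hgmem
      have hcf := IsIrrCharacter.isClassFunction θ.2
      have e1 : (⟨n₀ * y * n * (n₀ * y)⁻¹, hNn.conj_mem (n : G) n.2 (n₀ * y)⟩ : N)
          = ⟨n₀, hn₀⟩ * ⟨y * n * y⁻¹, hNn.conj_mem (n : G) n.2 y⟩ * ⟨n₀, hn₀⟩⁻¹ := by
        apply Subtype.ext
        show n₀ * y * n * (n₀ * y)⁻¹ = n₀ * (y * n * y⁻¹) * n₀⁻¹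
        group
      rw [e1, hcf]
      exact h y hy n _ rfl
    · intro h s hs g g' hgg'
      have e1 : g' = ⟨s * g * s⁻¹, hNn.conj_mem (g : G) g.2 s⟩ := Subtype.ext hgg'
      rw [e1]
      exact h s g
  have hd4 : Nat.card (ConjClasses D) = aa := by
    rw [← card_irr, ← hd2, hd3]
  have hd5 : Nat.card (ConjClasses G)
      = Nat.card {C : ConjClasses G // p ∣ Nat.card C.carrier} + aa * Nat.card (P : Subgroup G) := by
    rw [← hd4, ← hd1, ← Nat.card_sum]
    exact Nat.card_congr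
      (Equiv.sumCompl (fun C : ConjClasses G => p ∣ Nat.card C.carrier)).symm
  have hfin := card_irr (G := G)
  omega

end onesing

end Cfsg.Agent.Lib.Helper1
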