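import Mathlib
import Cfsg.Agent.Lib.Helper9.Cores
import Cfsg.Agent.Lib.Helper12.SylowBasic

set_option autoImplicit false
set_option linter.unusedSectionVars false
set_option linter.unusedVariables false
set_option linter.style.haveILetI false

namespace Cfsg.Agent.Lib.Helper1

open Cfsg.Agent.Lib.Helper9 Cfsg.Agent.Lib.Helper12.SylowBasic
open scoped Pointwise

universe u

section ti

variable {H : Type u} [Group H] [Finite H] (p : ℕ) [hp : Fact p.Prime]

theorem ti_elem (P : Sylow p H)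
    (hTI : ∀ g : H, g ∉ Subgroup.normalizer ((P : Subgroup H) : Set H) →
      (P : Subgroup H) ⊓ (MulAut.conj g • (P : Subgroup H)) = ⊥) :
    ∀ g x : H, x ∈ (P : Subgroup H) → x ≠ 1 → g * x * g⁻¹ ∈ (P : Subgroup H) →
      g ∈ Subgroup.normalizer ((P : Subgroup H) : Set H) := by
  intro g x hx hx1 hgx
  by_contra hg
  have h1 := hTI g hg
  have h2 : g * x * g⁻¹ ∈ (P : Subgroup H) ⊓ (MulAut.conj g • (P : Subgroup H)) := by
    refine Subgroup.mem_inf.mpr ⟨hgx, ?_⟩
    rw [Subgroup.mem_pointwise_smul_iff_inv_smul_mem]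
    have e : (MulAut.conj g)⁻¹ • (g * x * g⁻¹) = x := by
      simp [MulAut.smul_def]
      group
    rw [e]; exact hx
  rw [h1, Subgroup.mem_bot] at h2
  apply hx1
  have : x = g⁻¹ * (g * x * g⁻¹) * g := by group
  rw [this, h2]; group

theorem ti_all (P : Sylow p H)
    (hTI : ∀ g x : H, x ∈ (P : Subgroup H) → x ≠ 1 → g * x * g⁻¹ ∈ (P : Subgroup H) →
      g ∈ Subgroup.normalizer ((P : Subgroup H) : Set H)) (P₁ : Sylow p H) :
    ∀ g x : H, x ∈ (P₁ : Subgroup H) → x ≠ 1 → g * x * g⁻¹ ∈ (P₁ : Subgroup H) →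
      g ∈ Subgroup.normalizer ((P₁ : Subgroup H) : Set H) := by
  obtain ⟨a, ha⟩ := MulAction.exists_smul_eq H P P₁
  have hmem : ∀ h : H, h ∈ (P₁ : Subgroup H) ↔ a⁻¹ * h * a ∈ (P : Subgroup H) := by
    intro h
    rw [← ha]; exact mem_smul_sylow_iff P a h
  intro g x hx hx1 hgx
  rw [hmem] at hx hgx
  have h1 : a⁻¹ * x * a ≠ 1 := by
    intro h; apply hx1
    have : x = a * (a⁻¹ * x * a) * a⁻¹ := by group
    rw [this, h]; group
  have h2 : (a⁻¹ * g * a) * (a⁻¹ * x * a) * (a⁻¹ * g * a)⁻¹ ∈ (P : Subgroup H) := by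
    have : (a⁻¹ * g * a) * (a⁻¹ * x * a) * (a⁻¹ * g * a)⁻¹ = a⁻¹ * (g * x * g⁻¹) * a := by group
    rw [this]; exact hgx
  have h3 := hTI _ _ hx h1 h2
  rw [Subgroup.mem_normalizer_iff] at h3 ⊢
  intro h
  rw [hmem, hmem, h3 (a⁻¹ * h * a)]
  have : (a⁻¹ * g * a) * (a⁻¹ * h * a) * (a⁻¹ * g * a)⁻¹ = a⁻¹ * (g * h * g⁻¹) * a := by group
  rw [this]

theorem mem_sylow_of_mem_normalizer (P₁ : Sylow p H) (x : H) (hx : ∃ j : ℕ, x ^ (p ^ j) = 1)
    (hxN : x ∈ Subgroup.normalizer ((P₁ : Subgroup H) : Set H)) : x ∈ (P₁ : Subgroup H) := by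
  obtain ⟨j, hj⟩ := hx
  have hz : IsPGroup p (Subgroup.zpowers x) := by
    have : orderOf x ∣ p ^ j := orderOf_dvd_of_pow_eq_one hj
    obtain ⟨i, -, hi⟩ := (Nat.dvd_prime_pow hp.out).mp this
    apply IsPGroup.of_card (n := i)
    rw [Nat.card_zpowers, hi]
  have h2 := hz.inf_normalizer_sylow P₁
  have h3 : x ∈ Subgroup.zpowers x ⊓ Subgroup.normalizer ((P₁ : Subgroup H) : Set H) :=
    Subgroup.mem_inf.mpr ⟨Subgroup.mem_zpowers x, hxN⟩
  have h4 : x ∈ Subgroup.zpowers x ⊓ (P₁ : Subgroup H) := by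
    rw [← h2]; exact h3
  exact (Subgroup.mem_inf.mp h4).2

theorem eq_bot_of_le_normalizer_sylow (hOp : Cfsg.pCore p H = ⊥)
    (hOp' : Cfsg.pPrimeCore p H = ⊥)
    (P₁ : Sylow p H) (K : Subgroup H) (hK : K.Normal)
    (hKP : K ≤ Subgroup.normalizer ((P₁ : Subgroup H) : Set H)) : K = ⊥ := by
  have h1 : ∀ x ∈ K, (∃ j : ℕ, x ^ (p ^ j) = 1) → x ∈ (P₁ : Subgroup H) :=
    fun x hx hj => mem_sylow_of_mem_normalizer p P₁ x hj (hKP hx)
  have hT : ((P₁ : Subgroup H) ⊓ K).Normal := by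
    constructor
    intro t ht h
    rw [Subgroup.mem_inf] at ht ⊢
    refine ⟨h1 _ (hK.conj_mem t ht.2 h) ?_, hK.conj_mem t ht.2 h⟩
    obtain ⟨j, hj⟩ := P₁.isPGroup' ⟨t, ht.1⟩
    refine ⟨j, ?_⟩
    have hj' : t ^ (p ^ j) = 1 := by simpa using congrArg Subtype.val hj
    rw [conj_pow, hj']; group
  have hTp : IsPGroup p ((P₁ : Subgroup H) ⊓ K : Subgroup H) := P₁.isPGroup'.to_le inf_le_left
  have hTbot : (P₁ : Subgroup H) ⊓ K = ⊥ := by
    have := le_pCore hT hTp
    rw [hOp] at this; exact le_bot_iff.mp this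
  have hcop : (Nat.card K).Coprime p := by
    rw [Nat.coprime_comm, Nat.Prime.coprime_iff_not_dvd hp.out]
    intro hdvd
    obtain ⟨x, hx⟩ := exists_prime_orderOf_dvd_card' p hdvd
    have hxP : (x : H) ∈ (P₁ : Subgroup H) := by
      apply h1 _ x.2 ⟨1, ?_⟩
      rw [pow_one, ← hx, ← Subgroup.orderOf_coe, pow_orderOf_eq_one]
    have : (x : H) ∈ (P₁ : Subgroup H) ⊓ K := Subgroup.mem_inf.mpr ⟨hxP, x.2⟩
    rw [hTbot, Subgroup.mem_bot] at this
    have hx1 : x = 1 := Subtype.ext this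
    rw [hx1, orderOf_one] at hx
    exact hp.out.one_lt.ne' hx.symm
  have := le_pPrimeCore hK hcop
  rw [hOp'] at this; exact le_bot_iff.mp this

theorem exists_order_p_of_normal (hOp' : Cfsg.pPrimeCore p H = ⊥) (K : Subgroup H)
    (hK : K.Normal) (hK1 : K ≠ ⊥) : ∃ x ∈ K, orderOf x = p := by
  have hdvd : p ∣ Nat.card K := by
    by_contra hnd
    have hcop : (Nat.card K).Coprime p := by
      rw [Nat.coprime_comm]; exact (Nat.Prime.coprime_iff_not_dvd hp.out).mpr hnd
    have := le_pPrimeCore hK hcop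
    rw [hOp'] at this; exact hK1 (le_bot_iff.mp this)
  obtain ⟨x, hx⟩ := exists_prime_orderOf_dvd_card' p hdvd
  exact ⟨x, x.2, by rw [Subgroup.orderOf_coe]; exact hx⟩

theorem le_normalizer_of_commute
    (hTI : ∀ (P₁ : Sylow p H) (g x : H), x ∈ (P₁ : Subgroup H) → x ≠ 1 →
      g * x * g⁻¹ ∈ (P₁ : Subgroup H) → g ∈ Subgroup.normalizer ((P₁ : Subgroup H) : Set H))
    (P₁ : Sylow p H) (x : H) (hx : x ∈ (P₁ : Subgroup H)) (hx1 : x ≠ 1) (g : H)
    (hg : g * x = x * g) : g ∈ Subgroup.normalizer ((P₁ : Subgroup H) : Set H) := by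
  apply hTI P₁ g x hx hx1
  have : g * x * g⁻¹ = x := by rw [hg]; group
  rw [this]; exact hx

theorem ti_main (hOp : Cfsg.pCore p H = ⊥) (hOp' : Cfsg.pPrimeCore p H = ⊥)
    (P : Sylow p H) (hP1 : (P : Subgroup H) ≠ ⊥)
    (hTI : ∀ (P₁ : Sylow p H) (g x : H), x ∈ (P₁ : Subgroup H) → x ≠ 1 →
      g * x * g⁻¹ ∈ (P₁ : Subgroup H) → g ∈ Subgroup.normalizer ((P₁ : Subgroup H) : Set H)) :
    ∃ N : Subgroup H, N.Normal ∧ N ≠ ⊥ ∧ (∀ K : Subgroup H, K.Normal → K ≠ ⊥ → N ≤ K) ∧
      IsSimpleGroup N ∧ ¬ IsMulCommutative N ∧ Subgroup.centralizer (N : Set H) = ⊥ ∧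
      ∀ Q : Sylow p N, (Q : Subgroup N) ≠ ⊥ ∧
        ∀ n : N, n ∉ Subgroup.normalizer ((Q : Subgroup N) : Set N) →
          (Q : Subgroup N) ⊓ (MulAut.conj n • (Q : Subgroup N)) = ⊥ := by
  classical
  have htop : (⊤ : Subgroup H) ≠ ⊥ := by
    intro h; apply hP1; rw [eq_bot_iff, ← h]; exact le_top
  have hex : ∃ n, ∃ N : Subgroup H, N.Normal ∧ N ≠ ⊥ ∧ Nat.card N = n :=
    ⟨_, ⊤, inferInstance, htop, rfl⟩
  obtain ⟨N, hNn, hN1, hNcard⟩ := Nat.find_spec hex
  have hmin : ∀ K : Subgroup H, K.Normal → K ≠ ⊥ → Nat.card N ≤ Nat.card K :=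
    fun K hK hK1 => by
      rw [hNcard]; exact Nat.find_min' hex ⟨K, hK, hK1, rfl⟩
  obtain ⟨x, hxN, hxo⟩ := exists_order_p_of_normal p hOp' N hNn hN1
  have hx1 : x ≠ 1 := by
    intro h; rw [h, orderOf_one] at hxo; exact hp.out.one_lt.ne' hxo.symm
  have hzp : IsPGroup p (Subgroup.zpowers x) := by
    apply IsPGroup.of_card (n := 1); rw [Nat.card_zpowers, hxo, pow_one]
  obtain ⟨P₁, hP₁⟩ := hzp.exists_le_sylow
  have hxP : x ∈ (P₁ : Subgroup H) := hP₁ (Subgroup.mem_zpowers x)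
  have huniq : ∀ K : Subgroup H, K.Normal → K ≠ ⊥ → N ≤ K := by
    intro K hK hK1
    by_cases hdis : N ⊓ K = ⊥
    · exfalso
      apply hK1
      apply eq_bot_of_le_normalizer_sylow p hOp hOp' P₁ K hK
      intro k hk
      apply le_normalizer_of_commute p hTI P₁ x hxP hx1
      exact (Subgroup.commute_of_normal_of_disjoint N K hNn hK (disjoint_iff.mpr hdis)
        x k hxN hk).eq.symm
    · have hle := hmin (N ⊓ K) (Subgroup.normal_inf_normal N K) hdis
      have : N ⊓ K = N := Subgroup.eq_of_le_of_card_ge inf_le_left hle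
      rw [← this]; exact inf_le_right
  have hcent : Subgroup.centralizer (N : Set H) = ⊥ := by
    apply eq_bot_of_le_normalizer_sylow p hOp hOp' P₁ _ Subgroup.normal_centralizer
    intro c hc
    apply le_normalizer_of_commute p hTI P₁ x hxP hx1
    exact ((Subgroup.mem_centralizer_iff.mp hc) x hxN).symm
  have hnc : ¬ IsMulCommutative N := by
    intro hc
    apply hN1
    rw [eq_bot_iff, ← hcent]
    intro a ha
    rw [Subgroup.mem_centralizer_iff]
    intro b hb
    have := (isMulCommutative_iff.mp hc) (⟨b, hb⟩ : N) ⟨a, ha⟩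
    exact congrArg Subtype.val this
  have hpN : Cfsg.pPrimeCore p N = ⊥ := by
    have h := pPrimeCore_subtype_le p N
    rw [hOp', le_bot_iff] at h
    exact (Subgroup.map_eq_bot_iff_of_injective _ (Subgroup.subtype_injective N)).mp h
  have hsimple : IsSimpleGroup N := by
    haveI : Nontrivial N := (Subgroup.nontrivial_iff_ne_bot N).mpr hN1
    refine ⟨fun M hM => ?_⟩
    by_contra hcon
    push Not at hcon
    obtain ⟨hM1, hM2⟩ := hcon
    have hexK : ∃ n, ∃ K : Subgroup N, K.Normal ∧ K ≠ ⊥ ∧ Nat.card K = n :=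
      ⟨_, M, hM, hM1, rfl⟩
    obtain ⟨K, hKn, hK1, hKcard⟩ := Nat.find_spec hexK
    have hKmin : ∀ L : Subgroup N, L.Normal → L ≠ ⊥ → Nat.card K ≤ Nat.card L :=
      fun L hL hL1 => by
        rw [hKcard]; exact Nat.find_min' hexK ⟨L, hL, hL1, rfl⟩
    have hKtop : K ≠ ⊤ := by
      intro h
      have h1 := hKmin M hM hM1
      rw [h, Subgroup.card_top] at h1
      exact hM2 (Subgroup.eq_top_of_card_eq M (le_antisymm (Subgroup.card_le_card_group M) h1))
    obtain ⟨Kc, hKc⟩ : ∃ Kc : H → Subgroup N,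
        Kc = fun h => K.map (MulAut.conjNormal h : N ≃* N).toMonoidHom := ⟨_, rfl⟩
    have hKcmem : ∀ (h : H) (k : N), k ∈ K → (⟨h * k * h⁻¹, hNn.conj_mem k k.2 h⟩ : N) ∈ Kc h := by
      intro h k hk
      rw [hKc]
      refine Subgroup.mem_map.mpr ⟨k, hk, ?_⟩
      apply Subtype.ext
      simp
    have hKcn : ∀ h, (Kc h).Normal := fun h => by
      rw [hKc]; exact hKn.map _ (MulEquiv.surjective _)
    have hKccard : ∀ h, Nat.card (Kc h) = Nat.card K := fun h => by
      rw [hKc]; exact Subgroup.card_map_of_injective (MulEquiv.injective _)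
    have hdich : ∀ h, Kc h = K ∨ ∀ a ∈ K, ∀ b ∈ Kc h, a * b = b * a := by
      intro h
      by_cases hdis : K ⊓ Kc h = ⊥
      · right
        intro a ha b hb
        exact (Subgroup.commute_of_normal_of_disjoint K (Kc h) hKn (hKcn h)
          (disjoint_iff.mpr hdis) a b ha hb).eq
      · left
        haveI := hKn
        haveI := hKcn h
        have hle := hKmin (K ⊓ Kc h) inferInstance hdis
        have h1 : K ⊓ Kc h = K := Subgroup.eq_of_le_of_card_ge inf_le_left hle
        have h2 : K ≤ Kc h := by rw [← h1]; exact inf_le_right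
        exact (Subgroup.eq_of_le_of_card_ge h2 (hKccard h).le).symm
    have hpK : p ∣ Nat.card K := by
      by_contra hnd
      have hcop : (Nat.card K).Coprime p := by
        rw [Nat.coprime_comm]; exact (Nat.Prime.coprime_iff_not_dvd hp.out).mpr hnd
      have := le_pPrimeCore hKn hcop
      rw [hpN] at this; exact hK1 (le_bot_iff.mp this)
    obtain ⟨z, hz⟩ := exists_prime_orderOf_dvd_card' p hpK
    have hexh : ∃ h, Kc h ≠ K := by
      by_contra hall
      push Not at hall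
      have hKH : (K.map N.subtype).Normal := by
        constructor
        intro k hk h
        obtain ⟨k', hk', rfl⟩ := Subgroup.mem_map.mp hk
        have h1 := hKcmem h k' hk'
        rw [hall h] at h1
        exact Subgroup.mem_map.mpr ⟨_, h1, rfl⟩
      have hK'1 : K.map N.subtype ≠ ⊥ := by
        intro hb
        exact hK1 ((Subgroup.map_eq_bot_iff_of_injective _ (Subgroup.subtype_injective N)).mp hb)
      have hNle := huniq _ hKH hK'1
      apply hKtop
      rw [eq_top_iff]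
      intro n _
      obtain ⟨k', hk', hk'n⟩ := Subgroup.mem_map.mp (hNle n.2)
      have : k' = n := Subtype.ext hk'n
      rw [← this]; exact hk'
    obtain ⟨h₀, hh₀⟩ := hexh
    have hcomm₀ := (hdich h₀).resolve_left hh₀
    have hpKc : p ∣ Nat.card (Kc h₀) := by rw [hKccard]; exact hpK
    obtain ⟨y, hy⟩ := exists_prime_orderOf_dvd_card' p hpKc
    have hyo : orderOf ((y : N) : H) = p := by
      rw [Subgroup.orderOf_coe, Subgroup.orderOf_coe, hy]
    have hy1 : ((y : N) : H) ≠ 1 := by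
      intro h; rw [h, orderOf_one] at hyo; exact hp.out.one_lt.ne' hyo.symm
    have hzp2 : IsPGroup p (Subgroup.zpowers ((y : N) : H)) := by
      apply IsPGroup.of_card (n := 1); rw [Nat.card_zpowers, hyo, pow_one]
    obtain ⟨P₂, hP₂⟩ := hzp2.exists_le_sylow
    have hyP : ((y : N) : H) ∈ (P₂ : Subgroup H) := hP₂ (Subgroup.mem_zpowers _)
    have hKN : ∀ k ∈ K, ((k : N) : H) ∈ Subgroup.normalizer ((P₂ : Subgroup H) : Set H) := by
      intro k hk
      apply le_normalizer_of_commute p hTI P₂ _ hyP hy1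
      have := hcomm₀ k hk y y.2
      exact congrArg Subtype.val this
    have hzo : orderOf ((z : N) : H) = p := by
      rw [Subgroup.orderOf_coe, Subgroup.orderOf_coe, hz]
    have hz1 : ((z : N) : H) ≠ 1 := by
      intro h; rw [h, orderOf_one] at hzo; exact hp.out.one_lt.ne' hzo.symm
    have hzP : ((z : N) : H) ∈ (P₂ : Subgroup H) := by
      apply mem_sylow_of_mem_normalizer p P₂ _ ⟨1, ?_⟩ (hKN z z.2)
      rw [pow_one, ← hzo, pow_orderOf_eq_one]
    have hall : ∀ h, ∀ b ∈ Kc h,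
        ((b : N) : H) ∈ Subgroup.normalizer ((P₂ : Subgroup H) : Set H) := by
      intro h b hb
      rcases hdich h with he | hc
      · rw [he] at hb; exact hKN b hb
      · apply le_normalizer_of_commute p hTI P₂ _ hzP hz1
        have := hc z z.2 b hb
        exact (congrArg Subtype.val this).symm
    have hL : Subgroup.normalClosure ((K.map N.subtype : Subgroup H) : Set H) ≤
        Subgroup.normalizer ((P₂ : Subgroup H) : Set H) := by
      unfold Subgroup.normalClosure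
      rw [Subgroup.closure_le]
      intro w hw
      obtain ⟨k, hk, hconj⟩ := Group.mem_conjugatesOfSet_iff.mp hw
      obtain ⟨h, rfl⟩ := isConj_iff.mp hconj
      obtain ⟨k', hk', rfl⟩ := Subgroup.mem_map.mp hk
      exact hall h _ (hKcmem h k' hk')
    have hLbot := eq_bot_of_le_normalizer_sylow p hOp hOp' P₂ _ Subgroup.normalClosure_normal hL
    apply hK1
    have : K.map N.subtype ≤ ⊥ := by rw [← hLbot]; exact Subgroup.le_normalClosure
    exact (Subgroup.map_eq_bot_iff_of_injective _ (Subgroup.subtype_injective N)).mp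
      (le_bot_iff.mp this)
  refine ⟨N, hNn, hN1, huniq, hsimple, hnc, hcent, ?_⟩
  intro Q
  have hpN' : p ∣ Nat.card N := by
    have := orderOf_dvd_natCard (⟨x, hxN⟩ : N)
    rwa [Subgroup.orderOf_mk, hxo] at this
  refine ⟨Q.ne_bot_of_dvd_card hpN', ?_⟩
  intro n hn
  have hQp : IsPGroup p ((Q : Subgroup N).map N.subtype) := Q.isPGroup'.map _
  obtain ⟨P₃, hP₃⟩ := hQp.exists_le_sylow
  have hQiff : ∀ s : N, s ∈ (Q : Subgroup N) ↔ (s : H) ∈ (P₃ : Subgroup H) := by
    intro s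
    constructor
    · intro hs; exact hP₃ (Subgroup.mem_map_of_mem _ hs)
    · intro hs
      have hle : (Q : Subgroup N) ≤ (P₃ : Subgroup H).subgroupOf N := by
        intro t ht; rw [Subgroup.mem_subgroupOf]; exact hP₃ (Subgroup.mem_map_of_mem _ ht)
      have hpg : IsPGroup p ((P₃ : Subgroup H).subgroupOf N) := P₃.isPGroup'.comap_subtype
      have := Q.is_maximal' hpg hle
      rw [← this, Subgroup.mem_subgroupOf]; exact hs
  rw [eq_bot_iff]
  intro t ht
  rw [Subgroup.mem_bot]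
  by_contra ht1
  apply hn
  obtain ⟨ht1', ht2⟩ := Subgroup.mem_inf.mp ht
  rw [Subgroup.mem_pointwise_smul_iff_inv_smul_mem] at ht2
  have ht2' : n⁻¹ * t * n ∈ (Q : Subgroup N) := by
    have e : (MulAut.conj n)⁻¹ • t = n⁻¹ * t * n := by
      simp [MulAut.smul_def]
    rw [← e]; exact ht2
  have hs := (hQiff _).mp ht2'
  have htP := (hQiff _).mp ht1'
  have hnN : (n : H) ∈ Subgroup.normalizer ((P₃ : Subgroup H) : Set H) := by
    apply hTI P₃ (n : H) ((n⁻¹ * t * n : N) : H) hs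
    · intro h1; apply ht1
      have h1' : n⁻¹ * t * n = 1 := Subtype.ext h1
      have : t = n * (n⁻¹ * t * n) * n⁻¹ := by group
      rw [this, h1']; group
    · have : (n : H) * ((n⁻¹ * t * n : N) : H) * (n : H)⁻¹ = (t : H) := by
        push_cast; group
      rw [this]; exact htP
  rw [Subgroup.mem_normalizer_iff] at hnN ⊢
  intro s
  rw [hQiff, hQiff, hnN (s : H)]
  rfl

end ti

end Cfsg.Agent.Lib.Helper1
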