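import Mathlib
import Cfsg.Prelude.Def_CaseTheorems
import Cfsg.Agent.Lib.Helper9.Cores
import Cfsg.Agent.Lib.Lead.Cores

set_option autoImplicit false

namespace Cfsg.Agent.Lib.Helper1.ZStarCor

universe u

open scoped Pointwise

/-- The statement of Glauberman's Z*-theorem (in the form of statement S0215) for all finite
groups in the universe `u`. -/
def ZStarHyp : Prop :=
  ∀ (X : Type u) [Group X] [Finite X] (P : Sylow 2 X) (t : X), orderOf t = 2 → t ∈ P →
    (∀ g : X, g * t * g⁻¹ ∈ P → g * t * g⁻¹ = t) →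
    ∃ N : Subgroup X, N.Normal ∧ Odd (Nat.card N) ∧ ∀ g : X, t * g * t⁻¹ * g⁻¹ ∈ N

section aut

variable {N : Type u} [Group N] [Finite N]

/-- An involutive automorphism of a group of odd order fixes a Sylow `q`-subgroup. -/
theorem exists_invariant_sylow (hodd : Odd (Nat.card N)) (δ : MulAut N)
    (hδ : ∀ n : N, δ (δ n) = n) (q : ℕ) [Fact q.Prime] :
    ∃ Q : Sylow q N, ∀ x ∈ Q, δ x ∈ Q := by
  classical
  have : Fintype (Sylow q N) := Fintype.ofFinite _
  have hδ2 : δ * δ = 1 := by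
    ext n
    rw [MulAut.mul_apply, hδ, MulAut.one_apply]
  obtain ⟨Q₀⟩ : Nonempty (Sylow q N) := inferInstance
  have hcard : ¬ 2 ∣ Fintype.card (Sylow q N) := by
    rw [Fintype.card_eq_nat_card]
    intro h2
    have h1 : Nat.card (Sylow q N) ∣ Nat.card N :=
      (Sylow.card_dvd_index Q₀).trans (Subgroup.index_dvd_card _)
    exact (Nat.not_even_iff_odd.mpr hodd) (even_iff_two_dvd.mpr (h2.trans h1))
  have hσ : (MulAction.toPerm δ : Equiv.Perm (Sylow q N)) ^ 2 ^ 1 = 1 := by
    ext Q : 1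
    rw [pow_one, pow_two, Equiv.Perm.mul_apply, MulAction.toPerm_apply, MulAction.toPerm_apply,
      ← mul_smul, hδ2, one_smul, Equiv.Perm.one_apply]
  have : Fact (Nat.Prime 2) := ⟨Nat.prime_two⟩
  obtain ⟨Q, hQ⟩ := Equiv.Perm.exists_fixed_point_of_prime (p := 2) (n := 1) hcard hσ
  rw [MulAction.toPerm_apply] at hQ
  refine ⟨Q, fun x hx => ?_⟩
  have h1 : δ • x ∈ δ • (Q : Subgroup N) := Subgroup.smul_mem_pointwise_smul x δ Q hx
  rw [← Sylow.pointwise_smul_def, hQ] at h1
  exact h1

/-- If all "commutators" `n⁻¹ * δ n` with an involutive automorphism `δ` of a group of odd order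
are `p`-elements, then they all lie in one `δ`-invariant Sylow `p`-subgroup. -/
theorem comm_mem_sylow (hodd : Odd (Nat.card N)) (δ : MulAut N)
    (hδ : ∀ n : N, δ (δ n) = n) (p : ℕ) [hp : Fact p.Prime]
    (h : ∀ n : N, ∃ k : ℕ, orderOf (n⁻¹ * δ n) = p ^ k) :
    ∃ P : Sylow p N, (∀ x ∈ P, δ x ∈ P) ∧ ∀ n : N, n⁻¹ * δ n ∈ P := by
  classical
  -- the fixed subgroup
  let C : Subgroup N :=
    { carrier := {n | δ n = n}
      mul_mem' := by
        intro a b ha hb
        show δ (a * b) = a * b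
        rw [map_mul, ha, hb]
      one_mem' := map_one δ
      inv_mem' := by
        intro a ha
        show δ a⁻¹ = a⁻¹
        rw [map_inv, ha] }
  have hCmem : ∀ n : N, n ∈ C ↔ δ n = n := fun n => Iff.rfl
  -- every prime divisor of the index of C is p
  have hidx : ∀ q : ℕ, q.Prime → q ∣ C.index → q = p := by
    intro q hq hqd
    by_contra hne
    have : Fact q.Prime := ⟨hq⟩
    obtain ⟨Q, hQ⟩ := exists_invariant_sylow hodd δ hδ q
    have hQC : (Q : Subgroup N) ≤ C := by
      intro x hx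
      rw [hCmem]
      have hy : x⁻¹ * δ x ∈ (Q : Subgroup N) := Subgroup.mul_mem _ (Subgroup.inv_mem _ hx) (hQ x hx)
      obtain ⟨k, hk⟩ := h x
      obtain ⟨j, hj⟩ := (IsPGroup.iff_orderOf.mp Q.isPGroup') ⟨x⁻¹ * δ x, hy⟩
      have hj' : orderOf (x⁻¹ * δ x) = q ^ j := by
        rw [← hj, Subgroup.orderOf_mk]
      have h1 : orderOf (x⁻¹ * δ x) = 1 := by
        rcases Nat.eq_zero_or_pos k with hk0 | hk0
        · rw [hk, hk0, pow_zero]
        · exfalso
          have : p ∣ q ^ j := by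
            rw [← hj', hk]; exact dvd_pow_self p hk0.ne'
          have := (Nat.prime_dvd_prime_iff_eq hp.out hq).mp (hp.out.dvd_of_dvd_pow this)
          exact hne this.symm
      have h2 : x⁻¹ * δ x = 1 := orderOf_eq_one_iff.mp h1
      exact (inv_mul_eq_one.mp h2).symm
    have h1 : C.index ∣ (Q : Subgroup N).index := Subgroup.index_dvd_of_le hQC
    exact Q.not_dvd_index (hqd.trans h1)
  have hCidx0 : C.index ≠ 0 := Subgroup.index_ne_zero_of_finite
  obtain ⟨m, hm⟩ : ∃ m : ℕ, C.index = p ^ m :=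
    ⟨_, Nat.eq_prime_pow_of_unique_prime_dvd hCidx0 (fun {d} hd hdd => hidx d hd hdd)⟩
  obtain ⟨P, hP⟩ := exists_invariant_sylow hodd δ hδ p
  -- N = P * C
  have hPC : ∀ n : N, ∃ x ∈ P, x⁻¹ * n ∈ C := by
    intro n
    let ω₀ : N ⧸ C := ((1 : N) : N ⧸ C)
    let stab : Subgroup ↥(P : Subgroup N) := MulAction.stabilizer ↥(P : Subgroup N) ω₀
    have h1 : stab.index = (MulAction.orbit ↥(P : Subgroup N) ω₀).ncard :=
      MulAction.index_stabilizer _ _
    have h2 : stab.index * Nat.card stab = Nat.card ↥(P : Subgroup N) := Subgroup.index_mul_card _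
    have hstabC : stab.map (P : Subgroup N).subtype ≤ C := by
      rintro _ ⟨x, hx, rfl⟩
      have hx' : x • ω₀ = ω₀ := hx
      have e1 : x • ω₀ = (((x : N) * 1 : N) : N ⧸ C) := rfl
      rw [e1] at hx'
      have e2 := QuotientGroup.eq.mp hx'
      have e3 : ((x : N) * 1)⁻¹ * 1 ∈ C := e2
      rw [mul_one, mul_one] at e3
      have := C.inv_mem e3
      rwa [inv_inv] at this
    have h3 : Nat.card stab ∣ Nat.card C := by
      have := Subgroup.card_dvd_of_le hstabC
      rwa [Subgroup.card_map_of_injective (Subgroup.subtype_injective _)] at this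
    obtain ⟨b, hb⟩ := IsPGroup.iff_card.mp (P.isPGroup'.to_subgroup stab)
    have hPcard : Nat.card ↥(P : Subgroup N) = p ^ (Nat.card N).factorization p :=
      P.card_eq_multiplicity
    have hNC : Nat.card N = Nat.card C * p ^ m := by
      rw [← hm]; exact (Subgroup.card_mul_index C).symm
    have hC0 : Nat.card C ≠ 0 := Nat.card_pos.ne'
    have hfac : (Nat.card N).factorization p = (Nat.card C).factorization p + m := by
      rw [hNC, Nat.factorization_mul hC0 (pow_ne_zero _ hp.out.pos.ne'),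
        Nat.Prime.factorization_pow hp.out]
      simp
    have hble : b ≤ (Nat.card C).factorization p := by
      rw [hb] at h3
      exact (Nat.Prime.pow_dvd_iff_le_factorization hp.out hC0).mp h3
    have hidx2 : stab.index = p ^ ((Nat.card C).factorization p + m - b) := by
      rw [hb, hPcard, hfac] at h2
      have e : p ^ ((Nat.card C).factorization p + m) =
          p ^ ((Nat.card C).factorization p + m - b) * p ^ b := by
        rw [← pow_add]; congr 1; omega
      rw [e] at h2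
      exact Nat.eq_of_mul_eq_mul_right (pow_pos hp.out.pos b) h2
    have hge : Nat.card (N ⧸ C) ≤ (MulAction.orbit ↥(P : Subgroup N) ω₀).ncard := by
      rw [← h1, hidx2]
      have : Nat.card (N ⧸ C) = p ^ m := by rw [← hm]; rfl
      rw [this]
      exact Nat.pow_le_pow_right hp.out.pos (by omega)
    have huniv : MulAction.orbit ↥(P : Subgroup N) ω₀ = Set.univ := by
      rw [Set.eq_univ_iff_ncard]
      exact le_antisymm (Set.ncard_le_card _) hge
    have hn : ((n : N) : N ⧸ C) ∈ MulAction.orbit ↥(P : Subgroup N) ω₀ := by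
      rw [huniv]; exact Set.mem_univ _
    obtain ⟨x, hx⟩ := hn
    have hx' : x • ω₀ = ((n : N) : N ⧸ C) := hx
    have e1 : x • ω₀ = (((x : N) * 1 : N) : N ⧸ C) := rfl
    rw [e1, mul_one] at hx'
    exact ⟨x, x.2, QuotientGroup.eq.mp hx'⟩
  refine ⟨P, hP, fun n => ?_⟩
  obtain ⟨x, hx, hc⟩ := hPC n⁻¹
  have hc' : δ (x⁻¹ * n⁻¹) = x⁻¹ * n⁻¹ := hc
  have e : n⁻¹ * δ n = x * (δ x)⁻¹ := by
    have h1 : n⁻¹ = x * (x⁻¹ * n⁻¹) := by group
    have h2 : δ n = (δ (x⁻¹ * n⁻¹))⁻¹ * (δ x)⁻¹ := by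
      rw [← mul_inv_rev, ← map_mul, ← map_inv]
      congr 1
      group
    rw [h2, hc']
    group
  rw [e]
  exact Subgroup.mul_mem _ hx (Subgroup.inv_mem _ (hP x hx))

end aut

end Cfsg.Agent.Lib.Helper1.ZStarCor
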