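import Cfsg.Agent.Lib.Helper1.ZStarCorA

set_option autoImplicit false

namespace Cfsg.Agent.Lib.Helper1.ZStarCor

universe u

open scoped Pointwise

theorem mem_smul_sylow_iff {G : Type u} [Group G] {p : ℕ} (S : Sylow p G) (h x : G) :
    x ∈ (h • S : Sylow p G) ↔ h⁻¹ * x * h ∈ S := by
  have h1 : x ∈ (h • S : Sylow p G) ↔ x ∈ MulAut.conj h • (S : Subgroup G) := Iff.rfl
  rw [h1, Subgroup.mem_pointwise_smul_iff_inv_smul_mem]
  have h2 : (MulAut.conj h)⁻¹ • x = h⁻¹ * x * h := by
    rw [MulAut.smul_def, MulAut.conj_inv_apply]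
  rw [h2]
  rfl

/-- Statement S3184, assuming the Z*-theorem. -/
theorem central_mod_oddCore (hZ : ZStarHyp.{u}) {G : Type u} [Group G] [Finite G]
    (hCI : ∀ S T : Sylow 2 G, S ≠ T → ∃ U : Sylow 2 G,
      (S : Subgroup G) ⊓ (T : Subgroup G) ≤
        (Subgroup.center ↥(U : Subgroup G)).map (U : Subgroup G).subtype)
    (S : Sylow 2 G) (C : Subgroup ↥(S : Subgroup G)) (hC : C ≠ ⊥) (hCc : IsCyclic ↥C)
    (hCh : C.Characteristic)
    (c : ↥(S : Subgroup G)) (hc : c ∈ C) (hc2 : orderOf c = 2) :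
    ∀ g : G, (QuotientGroup.mk (s := Cfsg.oddCore G) (g * (c : G) * g⁻¹)) =
      QuotientGroup.mk (s := Cfsg.oddCore G) (c : G) := by
  classical
  have h2F : Fact (Nat.Prime 2) := ⟨Nat.prime_two⟩
  have hcG2 : orderOf (c : G) = 2 := by rw [Subgroup.orderOf_coe]; exact hc2
  -- uniqueness of the involution of C
  have huniq : ∀ c' : ↥(S : Subgroup G), c' ∈ C → orderOf c' = 2 → c' = c := by
    intro c' hc' hc'2
    have : Fintype ↥C := Fintype.ofFinite _
    have hdvd : 2 ∣ Fintype.card ↥C := by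
      have := orderOf_dvd_card (x := (⟨c, hc⟩ : C))
      rwa [Subgroup.orderOf_mk, hc2] at this
    have h1 := IsCyclic.card_orderOf_eq_totient (α := ↥C) hdvd
    rw [Nat.totient_two] at h1
    have hm1 : (⟨c, hc⟩ : C) ∈ Finset.univ.filter (fun a : C => orderOf a = 2) := by
      simp [Subgroup.orderOf_mk, hc2]
    have hm2 : (⟨c', hc'⟩ : C) ∈ Finset.univ.filter (fun a : C => orderOf a = 2) := by
      simp [Subgroup.orderOf_mk, hc'2]
    have := Finset.card_le_one.mp h1.le _ hm2 _ hm1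
    exact congrArg Subtype.val this
  have hfix : ∀ φ : ↥(S : Subgroup G) ≃* ↥(S : Subgroup G), φ c = c := by
    intro φ
    apply huniq
    · have := (Subgroup.characteristic_iff_map_eq.mp hCh) φ
      rw [← this]; exact Subgroup.mem_map_of_mem _ hc
    · rw [MulEquiv.orderOf_eq]; exact hc2
  have hnorm : ∀ n ∈ Subgroup.normalizer ((S : Subgroup G) : Set G), n * (c : G) * n⁻¹ = c := by
    intro n hn
    have hn' : ∀ s : G, s ∈ (S : Subgroup G) ↔ n * s * n⁻¹ ∈ (S : Subgroup G) := hn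
    have hmem : ∀ s : G, s ∈ (S : Subgroup G) → n * s * n⁻¹ ∈ (S : Subgroup G) :=
      fun s hs => (hn' s).mp hs
    have hmem' : ∀ s : G, s ∈ (S : Subgroup G) → n⁻¹ * s * n ∈ (S : Subgroup G) := by
      intro s hs
      apply (hn' (n⁻¹ * s * n)).mpr
      have e : n * (n⁻¹ * s * n) * n⁻¹ = s := by group
      rw [e]; exact hs
    let φ : ↥(S : Subgroup G) ≃* ↥(S : Subgroup G) :=
      { toFun := fun s => ⟨n * s * n⁻¹, hmem s s.2⟩
        invFun := fun s => ⟨n⁻¹ * s * n, hmem' s s.2⟩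
        left_inv := fun s => by apply Subtype.ext; show n⁻¹ * (n * (s : G) * n⁻¹) * n = s; group
        right_inv := fun s => by apply Subtype.ext; show n * (n⁻¹ * (s : G) * n) * n⁻¹ = s; group
        map_mul' := fun s t => by
          apply Subtype.ext
          show n * ((s : G) * t) * n⁻¹ = (n * s * n⁻¹) * (n * t * n⁻¹)
          group }
    have := hfix φ
    exact congrArg Subtype.val this
  have hcZ : ∀ s ∈ (S : Subgroup G), s * (c : G) = c * s := by
    intro s hs
    have := hnorm s (Subgroup.le_normalizer hs)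
    calc s * (c : G) = (s * c * s⁻¹) * s := by group
      _ = c * s := by rw [this]
  -- Burnside's fusion argument
  have hB : ∀ m : G, (∀ s ∈ (S : Subgroup G), s * (m * (c : G) * m⁻¹) = (m * c * m⁻¹) * s) →
      m * (c : G) * m⁻¹ = c := by
    intro m hm
    have hx : (c : G) ∈ Subgroup.centralizer ((S : Subgroup G) : Set G) := by
      rw [Subgroup.mem_centralizer_iff]; exact fun s hs => hcZ s hs
    have hy : (m⁻¹)⁻¹ * (c : G) * m⁻¹ ∈ Subgroup.centralizer ((S : Subgroup G) : Set G) := by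
      rw [inv_inv, Subgroup.mem_centralizer_iff]; exact fun s hs => hm s hs
    obtain ⟨n, hn, hnc⟩ := Sylow.conj_eq_normalizer_conj_of_mem_centralizer S (c : G) m⁻¹ hx hy
    rw [inv_inv] at hnc
    rw [hnc]
    have := hnorm n⁻¹ (Subgroup.inv_mem _ hn)
    rwa [inv_inv] at this
  -- the key isolation claim
  have hK : ∀ k : G, k * (c : G) * k⁻¹ ∈ S → k * (c : G) * k⁻¹ = c := by
    intro k hk
    obtain ⟨x, hx⟩ : ∃ x : G, x = k * (c : G) * k⁻¹ := ⟨_, rfl⟩
    rw [← hx] at hk ⊢
    have hxc : x * (c : G) = c * x := hcZ x hk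
    -- Step 1
    have hT₀H : ((k • S : Sylow 2 G) : Subgroup G) ≤ Subgroup.centralizer ({x} : Set G) := by
      intro t ht
      have ht' : k⁻¹ * t * k ∈ S := (mem_smul_sylow_iff S k t).mp ht
      rw [Subgroup.mem_centralizer_iff]
      intro y hy
      rw [Set.mem_singleton_iff] at hy
      rw [hy, hx]
      have := hcZ _ ht'
      calc k * (c : G) * k⁻¹ * t = k * ((c : G) * (k⁻¹ * t * k)) * k⁻¹ := by group
        _ = k * ((k⁻¹ * t * k) * (c : G)) * k⁻¹ := by rw [this]
        _ = t * (k * (c : G) * k⁻¹) := by group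
    have hcH : (c : G) ∈ Subgroup.centralizer ({x} : Set G) := by
      rw [Subgroup.mem_centralizer_iff]
      intro y hy
      rw [Set.mem_singleton_iff] at hy
      rw [hy]; exact hxc
    obtain ⟨k', hk'x, hk'S⟩ : ∃ k' : G, k' * (c : G) * k'⁻¹ = x ∧ k'⁻¹ * (c : G) * k' ∈ S := by
      let Q₀ : Sylow 2 ↥(Subgroup.centralizer ({x} : Set G)) := (k • S : Sylow 2 G).subtype hT₀H
      have hzp : IsPGroup 2 (Subgroup.zpowers
          (⟨(c : G), hcH⟩ : ↥(Subgroup.centralizer ({x} : Set G)))) := by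
        apply IsPGroup.of_card (n := 1)
        rw [Nat.card_zpowers, Subgroup.orderOf_mk, hcG2, pow_one]
      obtain ⟨Q, hQ⟩ := hzp.exists_le_sylow
      obtain ⟨y, hy⟩ := MulAction.exists_smul_eq ↥(Subgroup.centralizer ({x} : Set G)) Q₀ Q
      have h1 : (⟨(c : G), hcH⟩ : ↥(Subgroup.centralizer ({x} : Set G))) ∈ (y • Q₀ : Sylow 2 _) := by
        rw [hy]; exact hQ (Subgroup.mem_zpowers _)
      have h2 := (mem_smul_sylow_iff Q₀ y _).mp h1
      have h3 : ((y⁻¹ * (⟨(c : G), hcH⟩ : ↥(Subgroup.centralizer ({x} : Set G))) * y :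
          ↥(Subgroup.centralizer ({x} : Set G))) : G) ∈ (k • S : Sylow 2 G) := h2
      have h4 : (y : G)⁻¹ * (c : G) * (y : G) ∈ (k • S : Sylow 2 G) := h3
      have h5 := (mem_smul_sylow_iff S k _).mp h4
      have hyx : x * (y : G) = (y : G) * x := by
        have := y.2
        rw [Subgroup.mem_centralizer_iff] at this
        exact this x (Set.mem_singleton x)
      obtain ⟨yG, hyG⟩ : ∃ yG : G, yG = (y : G) := ⟨_, rfl⟩
      rw [← hyG] at h5 hyx
      refine ⟨yG * k, ?_, ?_⟩
      · calc yG * k * (c : G) * (yG * k)⁻¹ = yG * (k * (c : G) * k⁻¹) * yG⁻¹ := by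
              group
          _ = yG * x * yG⁻¹ := by rw [hx]
          _ = x * yG * yG⁻¹ := by rw [hyx]
          _ = x := by group
      · have e : (yG * k)⁻¹ * (c : G) * (yG * k) = k⁻¹ * (yG⁻¹ * (c : G) * yG) * k := by
          group
        rw [e]; exact h5
    -- Step 2
    by_cases hTS : (k' • S : Sylow 2 G) = S
    · have := hnorm k' (Sylow.smul_eq_iff_mem_normalizer.mp hTS)
      rw [← hk'x]; exact this
    · obtain ⟨U, hU⟩ := hCI S (k' • S) (Ne.symm hTS)
      have hcT : (c : G) ∈ (k' • S : Sylow 2 G) := (mem_smul_sylow_iff S k' _).mpr hk'S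
      have hxT : x ∈ (k' • S : Sylow 2 G) := by
        apply (mem_smul_sylow_iff S k' _).mpr
        rw [← hk'x]
        have e : k'⁻¹ * (k' * (c : G) * k'⁻¹) * k' = c := by group
        rw [e]; exact c.2
      have hcentral : ∀ w : G, w ∈ (S : Subgroup G) → w ∈ ((k' • S : Sylow 2 G) : Subgroup G) →
          w ∈ (U : Subgroup G) ∧ ∀ u ∈ (U : Subgroup G), u * w = w * u := by
        intro w hwS hwT
        obtain ⟨z, hz, hzw⟩ := hU ⟨hwS, hwT⟩
        have hzw' : (z : G) = w := hzw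
        refine ⟨hzw' ▸ z.2, fun u hu => ?_⟩
        have := Subgroup.mem_center_iff.mp hz ⟨u, hu⟩
        have := congrArg Subtype.val this
        rw [← hzw']
        exact this
      obtain ⟨h, hh⟩ := MulAction.exists_smul_eq G S U
      have hback : ∀ w : G, (w ∈ (U : Subgroup G) ∧ ∀ u ∈ (U : Subgroup G), u * w = w * u) →
          ∀ s ∈ (S : Subgroup G), s * (h⁻¹ * w * h) = (h⁻¹ * w * h) * s := by
        intro w hw s hs
        have hsU : h * s * h⁻¹ ∈ (U : Subgroup G) := by
          have : h * s * h⁻¹ ∈ (h • S : Sylow 2 G) := by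
            apply (mem_smul_sylow_iff S h _).mpr
            have e : h⁻¹ * (h * s * h⁻¹) * h = s := by group
            rw [e]; exact hs
          rw [hh] at this; exact this
        have := hw.2 _ hsU
        calc s * (h⁻¹ * w * h) = h⁻¹ * ((h * s * h⁻¹) * w) * h := by group
          _ = h⁻¹ * (w * (h * s * h⁻¹)) * h := by rw [this]
          _ = (h⁻¹ * w * h) * s := by group
      have e1 : h⁻¹ * (c : G) * (h⁻¹)⁻¹ = c := by
        apply hB
        rw [inv_inv]
        exact hback _ (hcentral _ c.2 hcT)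
      have e2 : (h⁻¹ * k') * (c : G) * (h⁻¹ * k')⁻¹ = c := by
        apply hB
        have e : (h⁻¹ * k') * (c : G) * (h⁻¹ * k')⁻¹ = h⁻¹ * x * h := by
          rw [← hk'x]; group
        rw [e]
        exact hback _ (hcentral _ hk hxT)
      rw [inv_inv] at e1
      have e3 : h⁻¹ * x * h = h⁻¹ * (c : G) * h := by
        rw [e1, ← e2, ← hk'x]; group
      have := mul_left_cancel (mul_right_cancel e3)
      exact this
  obtain ⟨N, hNn, hNodd, hN⟩ := hZ G S (c : G) hcG2 c.2 hK
  have hNle : N ≤ Cfsg.oddCore G :=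
    Cfsg.Agent.Lib.Helper9.le_pPrimeCore hNn (Nat.coprime_two_right.mpr hNodd)
  intro g
  rw [QuotientGroup.eq]
  apply hNle
  have e : (g * (c : G) * g⁻¹)⁻¹ * (c : G) = (c : G)⁻¹ * ((c : G) * g * (c : G)⁻¹ * g⁻¹) * (c : G) := by
    group
  rw [e]
  have := hNn.conj_mem _ (hN g) (c : G)⁻¹
  rwa [inv_inv] at this

end Cfsg.Agent.Lib.Helper1.ZStarCor
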