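import Cfsg.Agent.Lib.Helper1.ZStarCorC
import Cfsg.Prelude.Def_TwoFusion

set_option autoImplicit false

namespace Cfsg.Agent.Lib.Helper1.ZStarCor

universe u

open scoped Pointwise

/-- Statement S1251, assuming the Z*-theorem. -/
theorem strongly_closed_centralizes (hZ : ZStarHyp.{u}) {G : Type u} [Group G] [Finite G]
    (S : Sylow 2 G) (A : Subgroup G) (hA : Cfsg.IsStronglyClosed A (S : Subgroup G))
    (H : Subgroup G) (hAH : A ≤ Subgroup.normalizer (H : Set G)) (hO : Cfsg.oddCore ↥H = ⊥)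
    (hdisj : A ⊓ H = ⊥) : A ≤ Subgroup.centralizer (H : Set G) := by
  classical
  have h2F : Fact (Nat.Prime 2) := ⟨Nat.prime_two⟩
  have hAS : A ≤ (S : Subgroup G) := hA.1
  have hsc : ∀ x ∈ A, ∀ g : G, g * x * g⁻¹ ∈ (S : Subgroup G) → g * x * g⁻¹ ∈ A := hA.2
  have hnA : ∀ b ∈ A, ∀ h ∈ H, b * h * b⁻¹ ∈ H := by
    intro b hb h hh
    have : ∀ n : G, n ∈ (H : Set G) ↔ b * n * b⁻¹ ∈ (H : Set G) := hAH hb
    exact (this h).mp hh
  have hnA' : ∀ b ∈ A, ∀ h ∈ H, b⁻¹ * h * b ∈ H := by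
    intro b hb h hh
    have := hnA b⁻¹ (A.inv_mem hb) h hh
    rwa [inv_inv] at this
  have hAHtriv : ∀ w : G, w ∈ A → w ∈ H → w = 1 := by
    intro w hwA hwH
    have : w ∈ A ⊓ H := ⟨hwA, hwH⟩
    rw [hdisj] at this
    exact Subgroup.mem_bot.mp this
  by_contra hcon
  obtain ⟨B, hBdef⟩ : ∃ B : Subgroup G, B = A ⊓ Subgroup.centralizer (H : Set G) := ⟨_, rfl⟩
  have hBA : B ≤ A := by rw [hBdef]; exact inf_le_left
  have hBc : ∀ β ∈ B, ∀ h ∈ H, h * β = β * h := by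
    intro β hβ h hh
    rw [hBdef] at hβ
    exact (Subgroup.mem_centralizer_iff.mp hβ.2) h hh
  have hBmem : ∀ y ∈ A, (∀ h ∈ H, h * y = y * h) → y ∈ B := by
    intro y hy hc
    rw [hBdef]
    exact ⟨hy, Subgroup.mem_centralizer_iff.mpr hc⟩
  have hBconj : ∀ b ∈ A, ∀ β ∈ B, b * β * b⁻¹ ∈ B := by
    intro b hb β hβ
    apply hBmem _ (A.mul_mem (A.mul_mem hb (hBA hβ)) (A.inv_mem hb))
    intro h hh
    have h1 := hBc β hβ _ (hnA' b hb h hh)
    calc h * (b * β * b⁻¹) = b * ((b⁻¹ * h * b) * β) * b⁻¹ := by group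
      _ = b * (β * (b⁻¹ * h * b)) * b⁻¹ := by rw [h1]
      _ = b * β * b⁻¹ * h := by group
  -- choose a
  have hBn : (B.subgroupOf A).Normal := by
    constructor
    intro n hn g
    rw [Subgroup.mem_subgroupOf] at hn ⊢
    exact hBconj g g.2 n hn
  have hAp : IsPGroup 2 ↥A := S.isPGroup'.to_le hAS
  have hQp : IsPGroup 2 (↥A ⧸ B.subgroupOf A) := hAp.to_quotient _
  have hQnt : Nontrivial (↥A ⧸ B.subgroupOf A) := by
    by_contra hnt
    rw [not_nontrivial_iff_subsingleton] at hnt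
    apply hcon
    intro y hy
    have h1 : ((⟨y, hy⟩ : ↥A) : ↥A ⧸ B.subgroupOf A) = 1 := Subsingleton.elim _ _
    rw [QuotientGroup.eq_one_iff, Subgroup.mem_subgroupOf] at h1
    rw [hBdef] at h1
    exact h1.2
  have hcnt : Nontrivial (Subgroup.center (↥A ⧸ B.subgroupOf A)) := hQp.center_nontrivial
  have hcp : IsPGroup 2 (Subgroup.center (↥A ⧸ B.subgroupOf A)) := hQp.to_subgroup _
  have hdvd : 2 ∣ Nat.card (Subgroup.center (↥A ⧸ B.subgroupOf A)) := by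
    rcases hcp.card_eq_or_dvd with h1 | h1
    · exfalso
      have := Finite.one_lt_card (α := Subgroup.center (↥A ⧸ B.subgroupOf A))
      omega
    · exact h1
  have hcfin : Fintype (Subgroup.center (↥A ⧸ B.subgroupOf A)) := Fintype.ofFinite _
  have hdvd' : 2 ∣ Fintype.card (Subgroup.center (↥A ⧸ B.subgroupOf A)) := by
    rw [Fintype.card_eq_nat_card]; exact hdvd
  obtain ⟨zc, hzc⟩ := exists_prime_orderOf_dvd_card
    (G := Subgroup.center (↥A ⧸ B.subgroupOf A)) 2 hdvd'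
  obtain ⟨a', ha'⟩ := QuotientGroup.mk_surjective (zc : ↥A ⧸ B.subgroupOf A)
  have hzord : orderOf (a' : ↥A ⧸ B.subgroupOf A) = 2 := by
    rw [ha', Subgroup.orderOf_coe]; exact hzc
  obtain ⟨a, haA, haeq⟩ : ∃ a : G, ∃ h : a ∈ A, a' = ⟨a, h⟩ := ⟨a', a'.2, rfl⟩
  have haB : a ∉ B := by
    intro h
    have h1 : (a' : ↥A ⧸ B.subgroupOf A) = 1 := by
      rw [QuotientGroup.eq_one_iff, Subgroup.mem_subgroupOf, haeq]; exact h
    rw [h1, orderOf_one] at hzord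
    omega
  have ha2 : a * a ∈ B := by
    have h1 : (a' : ↥A ⧸ B.subgroupOf A) ^ 2 = 1 := by
      rw [← hzord]; exact pow_orderOf_eq_one _
    rw [← QuotientGroup.mk_pow, QuotientGroup.eq_one_iff, Subgroup.mem_subgroupOf, haeq] at h1
    have e : (((⟨a, haA⟩ : ↥A) ^ 2 : ↥A) : G) = a * a := by
      rw [Subgroup.coe_pow, pow_two]
    rwa [e] at h1
  have hacent : ∀ b ∈ A, b * a * b⁻¹ * a⁻¹ ∈ B := by
    intro b hb
    have h1 : ((⟨b, hb⟩ : ↥A) : ↥A ⧸ B.subgroupOf A) * (a' : ↥A ⧸ B.subgroupOf A)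
        = (a' : ↥A ⧸ B.subgroupOf A) * ((⟨b, hb⟩ : ↥A) : ↥A ⧸ B.subgroupOf A) := by
      have := zc.2
      rw [Subgroup.mem_center_iff] at this
      rw [ha']
      exact this _
    have h2 : (((⟨b, hb⟩ : ↥A) * a' * (⟨b, hb⟩ : ↥A)⁻¹ * a'⁻¹ : ↥A) : ↥A ⧸ B.subgroupOf A) = 1 := by
      rw [QuotientGroup.mk_mul, QuotientGroup.mk_mul, QuotientGroup.mk_mul, QuotientGroup.mk_inv,
        QuotientGroup.mk_inv, h1]
      group
    rw [QuotientGroup.eq_one_iff, Subgroup.mem_subgroupOf, haeq] at h2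
    exact h2
  -- the group X = H ⊔ A
  obtain ⟨X, hXdef⟩ : ∃ X : Subgroup G, X = H ⊔ A := ⟨_, rfl⟩
  have hHX : H ≤ X := by rw [hXdef]; exact le_sup_left
  have hAX : A ≤ X := by rw [hXdef]; exact le_sup_right
  have hdecomp : ∀ x : G, x ∈ X → ∃ h ∈ H, ∃ b ∈ A, x = h * b := by
    intro x hx
    have h1 : x ∈ ((H ⊔ A : Subgroup G) : Set G) := by rw [← hXdef]; exact hx
    rw [Subgroup.coe_mul_of_right_le_normalizer_left H A hAH] at h1
    obtain ⟨h, hh, b, hb, rfl⟩ := Set.mem_mul.mp h1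
    exact ⟨h, hh, b, hb, rfl⟩
  have hB'n : (B.subgroupOf X).Normal := by
    constructor
    intro n hn g
    rw [Subgroup.mem_subgroupOf] at hn ⊢
    obtain ⟨h, hh, b, hb, hg⟩ := hdecomp g g.2
    have h1 := hBconj b hb _ hn
    have h2 := hBc _ h1 h hh
    have e : ((g * n * g⁻¹ : ↥X) : G) = b * (n : G) * b⁻¹ := by
      rw [Subgroup.coe_mul, Subgroup.coe_mul, Subgroup.coe_inv, hg]
      calc h * b * (n : G) * (h * b)⁻¹ = (h * (b * (n : G) * b⁻¹)) * h⁻¹ := by group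
        _ = ((b * (n : G) * b⁻¹) * h) * h⁻¹ := by rw [h2]
        _ = b * (n : G) * b⁻¹ := by group
    rw [e]; exact h1
  have hAXp : IsPGroup 2 (A.subgroupOf X) := hAp.comap_subtype
  obtain ⟨T, hT⟩ := hAXp.exists_le_sylow
  have hTGp : IsPGroup 2 ((T : Subgroup ↥X).map X.subtype) := T.isPGroup'.map _
  obtain ⟨S', hS'⟩ := hTGp.exists_le_sylow
  obtain ⟨γ, hγ⟩ := MulAction.exists_smul_eq G S S'
  have hAT : ∀ y : G, ∀ hy : y ∈ A, (⟨y, hAX hy⟩ : ↥X) ∈ T := by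
    intro y hy
    apply hT
    rw [Subgroup.mem_subgroupOf]; exact hy
  have hTS : ∀ τ : ↥X, τ ∈ T → γ⁻¹ * (τ : G) * γ ∈ S := by
    intro τ hτ
    have h1 : (τ : G) ∈ (S' : Subgroup G) := hS' ⟨τ, hτ, rfl⟩
    rw [← hγ] at h1
    exact (mem_smul_sylow_iff S γ _).mp h1
  have hA_in : ∀ y ∈ A, γ⁻¹ * y * γ ∈ A := by
    intro y hy
    have h1 := hTS ⟨y, hAX hy⟩ (hAT y hy)
    have h2 := hsc y hy γ⁻¹ (by rw [inv_inv]; exact h1)
    rwa [inv_inv] at h2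
  have hA_surj : ∀ z ∈ A, ∃ y ∈ A, γ⁻¹ * y * γ = z := by
    let φ : ↥A → ↥A := fun y => ⟨γ⁻¹ * (y : G) * γ, hA_in y y.2⟩
    have hinj : Function.Injective φ := by
      intro y₁ y₂ h
      have h1 : γ⁻¹ * (y₁ : G) * γ = γ⁻¹ * (y₂ : G) * γ := congrArg Subtype.val h
      exact Subtype.ext (mul_left_cancel (mul_right_cancel h1))
    have hsurj := Finite.surjective_of_injective hinj
    intro z hz
    obtain ⟨y, hy⟩ := hsurj ⟨z, hz⟩
    exact ⟨y, y.2, congrArg Subtype.val hy⟩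
  -- transfer of strong closure
  have hF1 : ∀ y ∈ A, ∀ k : G, ∀ hk : k * y * k⁻¹ ∈ X, (⟨k * y * k⁻¹, hk⟩ : ↥X) ∈ T →
      k * y * k⁻¹ ∈ A := by
    intro y hy k hk hkT
    have h1 := hTS _ hkT
    have e : γ⁻¹ * (k * y * k⁻¹) * γ = (γ⁻¹ * k) * y * (γ⁻¹ * k)⁻¹ := by group
    have h1' : γ⁻¹ * (k * y * k⁻¹) * γ ∈ (S : Subgroup G) := h1
    rw [e] at h1'
    have h2 := hsc y hy _ h1'
    obtain ⟨y', hy', hy'e⟩ := hA_surj _ h2
    rw [← e] at hy'e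
    have := mul_left_cancel (mul_right_cancel hy'e)
    rw [← this]; exact hy'
  -- the quotient
  let π : ↥X →* ↥X ⧸ B.subgroupOf X := QuotientGroup.mk' (B.subgroupOf X)
  have hπs : Function.Surjective π := QuotientGroup.mk'_surjective _
  let Pbar : Sylow 2 (↥X ⧸ B.subgroupOf X) := T.mapSurjective hπs
  have hPbar : ∀ q : ↥X ⧸ B.subgroupOf X, q ∈ Pbar ↔ ∃ τ ∈ T, π τ = q := by
    intro q
    have : q ∈ Pbar ↔ q ∈ (T : Subgroup ↥X).map π := Iff.rfl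
    rw [this, Subgroup.mem_map]
    rfl
  have hπ1 : ∀ x : ↥X, π x = 1 ↔ (x : G) ∈ B := by
    intro x
    show (x : ↥X ⧸ B.subgroupOf X) = 1 ↔ _
    rw [QuotientGroup.eq_one_iff, Subgroup.mem_subgroupOf]
  have hπeq : ∀ x y : ↥X, π x = π y ↔ (x : G)⁻¹ * (y : G) ∈ B := by
    intro x y
    show (x : ↥X ⧸ B.subgroupOf X) = (y : ↥X ⧸ B.subgroupOf X) ↔ _
    rw [QuotientGroup.eq, Subgroup.mem_subgroupOf]
    rfl
  obtain ⟨aX, haX⟩ : ∃ aX : ↥X, aX = ⟨a, hAX haA⟩ := ⟨_, rfl⟩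
  have haXc : (aX : G) = a := by rw [haX]
  have ht2 : orderOf (π aX) = 2 := by
    apply orderOf_eq_prime
    · rw [← map_pow, hπ1, Subgroup.coe_pow, haXc, pow_two]; exact ha2
    · intro h
      rw [hπ1, haXc] at h
      exact haB h
  have htP : π aX ∈ Pbar := by
    rw [hPbar]
    exact ⟨aX, by rw [haX]; exact hAT a haA, rfl⟩
  have hiso : ∀ q : ↥X ⧸ B.subgroupOf X, q * π aX * q⁻¹ ∈ Pbar → q * π aX * q⁻¹ = π aX := by
    intro q hq
    obtain ⟨x, rfl⟩ := hπs q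
    rw [← map_inv, ← map_mul, ← map_mul] at hq ⊢
    rw [hPbar] at hq
    obtain ⟨τ, hτ, hτe⟩ := hq
    rw [hπeq] at hτe
    -- x aX x⁻¹ ∈ T
    have hxT : x * aX * x⁻¹ ∈ T := by
      have hβ : τ⁻¹ * (x * aX * x⁻¹) ∈ T := by
        apply hT
        rw [Subgroup.mem_subgroupOf]
        exact hBA hτe
      have := Subgroup.mul_mem _ hτ hβ
      rwa [mul_inv_cancel_left] at this
    obtain ⟨h, hh, b, hb, hx⟩ := hdecomp x x.2
    have ha₁ : b * a * b⁻¹ ∈ A := A.mul_mem (A.mul_mem hb haA) (A.inv_mem hb)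
    have e1 : ((x * aX * x⁻¹ : ↥X) : G) = h * (b * a * b⁻¹) * h⁻¹ := by
      rw [Subgroup.coe_mul, Subgroup.coe_mul, Subgroup.coe_inv, hx, haXc]; group
    have hmemX : h * (b * a * b⁻¹) * h⁻¹ ∈ X := by rw [← e1]; exact (x * aX * x⁻¹).2
    have hTmem : (⟨h * (b * a * b⁻¹) * h⁻¹, hmemX⟩ : ↥X) ∈ T := by
      have : (⟨h * (b * a * b⁻¹) * h⁻¹, hmemX⟩ : ↥X) = x * aX * x⁻¹ := Subtype.ext e1.symm
      rw [this]; exact hxT
    have h3 := hF1 _ ha₁ h hmemX hTmem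
    have hw : h * (b * a * b⁻¹) * h⁻¹ * (b * a * b⁻¹)⁻¹ = 1 := by
      apply hAHtriv
      · exact A.mul_mem h3 (A.inv_mem ha₁)
      · have h4 := hnA _ ha₁ h⁻¹ (H.inv_mem hh)
        have e : h * (b * a * b⁻¹) * h⁻¹ * (b * a * b⁻¹)⁻¹
            = h * ((b * a * b⁻¹) * h⁻¹ * (b * a * b⁻¹)⁻¹) := by group
        rw [e]; exact H.mul_mem hh h4
    have hw' : h * (b * a * b⁻¹) * h⁻¹ = b * a * b⁻¹ := mul_inv_eq_one.mp hw
    rw [hπeq, e1, hw', haXc]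
    have h5 := hBconj a⁻¹ (A.inv_mem haA) _ (B.inv_mem (hacent b hb))
    have e : (b * a * b⁻¹)⁻¹ * a = a⁻¹ * (b * a * b⁻¹ * a⁻¹)⁻¹ * a⁻¹⁻¹ := by group
    rw [e]; exact h5
  obtain ⟨Nb, hNbn, hNbodd, hNb⟩ := hZ (↥X ⧸ B.subgroupOf X) Pbar (π aX) ht2 htP hiso
  -- pull back to H
  let f : ↥H →* ↥X ⧸ B.subgroupOf X := π.comp (Subgroup.inclusion hHX)
  have hfinj : Function.Injective f := by
    rw [injective_iff_map_eq_one]
    intro h hh
    have h1 : π (Subgroup.inclusion hHX h) = 1 := hh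
    rw [hπ1] at h1
    have h2 : ((Subgroup.inclusion hHX h : ↥X) : G) = (h : G) := rfl
    rw [h2] at h1
    exact Subtype.ext (hAHtriv _ (hBA h1) h.2)
  have hMn : (Nb.comap f).Normal := hNbn.comap f
  have hMcard : Nat.card (Nb.comap f) ∣ Nat.card Nb := Subgroup.card_comap_dvd_of_injective Nb f hfinj
  have hModd : (Nat.card (Nb.comap f)).Coprime 2 := by
    rw [Nat.coprime_two_right]
    obtain ⟨c, hc⟩ := hMcard
    by_contra hne
    rw [Nat.not_odd_iff_even] at hne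
    have : Even (Nat.card Nb) := by rw [hc]; exact hne.mul_right c
    exact (Nat.not_even_iff_odd.mpr hNbodd) this
  have hMbot : Nb.comap f = ⊥ := by
    have := Cfsg.Agent.Lib.Helper9.le_pPrimeCore hMn hModd
    have h0 : Cfsg.pPrimeCore 2 ↥H = ⊥ := hO
    rw [h0] at this
    exact le_bot_iff.mp this
  apply haB
  apply hBmem a haA
  intro h hh
  have hu : a * h * a⁻¹ * h⁻¹ ∈ H := H.mul_mem (hnA a haA h hh) (H.inv_mem hh)
  have hmem : (⟨a * h * a⁻¹ * h⁻¹, hu⟩ : ↥H) ∈ Nb.comap f := by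
    rw [Subgroup.mem_comap]
    have e : f ⟨a * h * a⁻¹ * h⁻¹, hu⟩
        = π aX * π ⟨h, hHX hh⟩ * (π aX)⁻¹ * (π ⟨h, hHX hh⟩)⁻¹ := by
      rw [← map_inv, ← map_inv, ← map_mul, ← map_mul, ← map_mul]
      show π (Subgroup.inclusion hHX ⟨a * h * a⁻¹ * h⁻¹, hu⟩) = _
      congr 1
      apply Subtype.ext
      show a * h * a⁻¹ * h⁻¹ = _
      rw [Subgroup.coe_mul, Subgroup.coe_mul, Subgroup.coe_mul, Subgroup.coe_inv, Subgroup.coe_inv,
        haXc]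
    rw [e]
    exact hNb _
  rw [hMbot, Subgroup.mem_bot] at hmem
  have h1 : a * h * a⁻¹ * h⁻¹ = 1 := congrArg Subtype.val hmem
  have h2 : a * h * a⁻¹ = h := mul_inv_eq_one.mp h1
  calc h * a = (a * h * a⁻¹) * a := by rw [h2]
    _ = a * h := by group

end Cfsg.Agent.Lib.Helper1.ZStarCor
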